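import Cfsg.Agent.Lib.Fus.SFourWreath.Embed
import Cfsg.Agent.Lib.Invol.CharP

/-!
Elementary consequences of the coordinates: multiplication, subgroups given by codes, elements of
odd order, and the `2`-core of the centraliser of a conjugate of the central involution.
-/

set_option autoImplicit false
set_option linter.unusedSectionVars false

namespace Cfsg.Agent.Fus.SFourWr

universe u

theorem conjN_lt : ∀ g < 128, ∀ x < 128, conjN g x < 128 ∧ commN g x < 128 := by decide +kernel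

theorem zero_mulN : ∀ x < 128, mulN 0 x = x ∧ mulN x 0 = x := by decide +kernel

theorem mulN_invN : ∀ x < 128, ∀ y < 128, mulN x (invN y) = 0 → x = y := by decide +kernel

theorem central_nine : ∀ x < 128, commB 9 x = true := by decide +kernel

/-- An element of odd order. -/
def OddOrd {G : Type u} [Group G] (r : G) : Prop := (orderOf r).Coprime 2

/-- A subset given by codes closed under multiplication. -/
def ClosedP (p : ℕ → Bool) : Prop :=
  p 0 = true ∧ ∀ x < 128, ∀ y < 128, p x = true → p y = true → p (mulN x y) = true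

section

variable {G : Type u} [Group G] [Finite G] (c : Ctx G)

namespace Ctx

theorem phi_zero : c.φ 0 = 1 := by
  have h := c.hmul 0 (by norm_num) 0 (by norm_num)
  rw [show mulN 0 0 = 0 by decide +kernel] at h
  exact left_eq_mul.1 h

theorem phi_inv {x : ℕ} (hx : x < 128) : c.φ (invN x) = (c.φ x)⁻¹ := by
  refine eq_inv_of_mul_eq_one_right ?_
  rw [← c.hmul x hx _ (invN_lt x hx).1, (invN_lt x hx).2, c.phi_zero]

theorem phi_inj {x y : ℕ} (hx : x < 128) (hy : y < 128) (h : c.φ x = c.φ y) : x = y := by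
  refine mulN_invN x hx y hy (c.hinj _ (mulN_lt x hx _ (invN_lt y hy).1) ?_)
  rw [c.hmul x hx _ (invN_lt y hy).1, c.phi_inv hy, h, mul_inv_cancel]

theorem phi_ne_one {x : ℕ} (hx : x < 128) (h : x ≠ 0) : c.φ x ≠ 1 := fun he => h (c.hinj x hx he)

theorem phi_conj {g x : ℕ} (hg : g < 128) (hx : x < 128) :
    c.φ g * c.φ x * (c.φ g)⁻¹ = c.φ (conjN g x) := by
  rw [conjN, c.hmul _ (mulN_lt g hg x hx) _ (invN_lt g hg).1, c.hmul g hg x hx, c.phi_inv hg]

theorem phi_comm {g x : ℕ} (hg : g < 128) (hx : x < 128) :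
    c.φ g * c.φ x * ((c.φ g)⁻¹ * (c.φ x)⁻¹) = c.φ (commN g x) := by
  rw [commN, c.hmul _ (mulN_lt g hg x hx) _ (mulN_lt _ (invN_lt g hg).1 _ (invN_lt x hx).1),
    c.hmul g hg x hx, c.hmul _ (invN_lt g hg).1 _ (invN_lt x hx).1, c.phi_inv hg, c.phi_inv hx]

theorem commute_iff {x y : ℕ} (hx : x < 128) (hy : y < 128) :
    Commute (c.φ x) (c.φ y) ↔ commB x y = true := by
  rw [commB, beq_iff_eq, commute_iff_eq, ← c.hmul x hx y hy, ← c.hmul y hy x hx]
  exact ⟨fun h => c.phi_inj (mulN_lt x hx y hy) (mulN_lt y hy x hx) h, fun h => by rw [h]⟩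

theorem commute_of {x y : ℕ} (hx : x < 128) (hy : y < 128) (h : commB x y = true) :
    Commute (c.φ x) (c.φ y) := (c.commute_iff hx hy).2 h

theorem sq_eq_one_iff {x : ℕ} (hx : x < 128) : c.φ x * c.φ x = 1 ↔ mulN x x = 0 := by
  rw [← c.hmul x hx x hx]
  exact ⟨fun h => c.hinj _ (mulN_lt x hx x hx) h, fun h => by rw [h, c.phi_zero]⟩

theorem phi_mem {x : ℕ} (hx : x < 128) : c.φ x ∈ (c.T : Subgroup G) := (c.mem_T _).2 ⟨x, hx, rfl⟩

theorem exists_code {g : G} (hg : g ∈ (c.T : Subgroup G)) : ∃ x < 128, c.φ x = g := (c.mem_T g).1 hg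

theorem nine_central {g : G} (hg : g ∈ (c.T : Subgroup G)) : Commute g (c.φ 9) := by
  obtain ⟨x, hx, rfl⟩ := c.exists_code hg
  exact (c.commute_of (by norm_num) hx (central_nine x hx)).symm

/-! ### Subgroups given by codes -/

/-- The subgroup of the elements with codes satisfying `p`. -/
def grp (p : ℕ → Bool) : Subgroup G := Subgroup.closure {g | ∃ x < 128, p x = true ∧ c.φ x = g}

theorem mem_grp {p : ℕ → Bool} (hp : ClosedP p) {g : G} :
    g ∈ c.grp p ↔ ∃ x < 128, p x = true ∧ c.φ x = g := by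
  refine ⟨fun hg => ?_, fun hg => Subgroup.subset_closure hg⟩
  rw [grp, ← Subgroup.mem_toSubmonoid, Subgroup.closure_toSubmonoid_of_finite] at hg
  induction hg using Submonoid.closure_induction with
  | mem x hx => exact hx
  | one => exact ⟨0, by norm_num, hp.1, c.phi_zero⟩
  | mul x y _ _ ha hb =>
    obtain ⟨a, ha, pa, rfl⟩ := ha
    obtain ⟨b, hb, pb, rfl⟩ := hb
    exact ⟨mulN a b, mulN_lt a ha b hb, hp.2 a ha b hb pa pb, c.hmul a ha b hb⟩

theorem grp_le_T {p : ℕ → Bool} : c.grp p ≤ (c.T : Subgroup G) :=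
  (Subgroup.closure_le _).2 (by rintro _ ⟨x, hx, -, rfl⟩; exact c.phi_mem hx)

theorem mem_grp_code {p : ℕ → Bool} (hp : ClosedP p) {x : ℕ} (hx : x < 128) :
    c.φ x ∈ c.grp p ↔ p x = true := by
  rw [c.mem_grp hp]
  exact ⟨fun ⟨y, hy, py, he⟩ => c.phi_inj hy hx he ▸ py, fun h => ⟨x, hx, h, rfl⟩⟩

theorem card_grp {p : ℕ → Bool} (hp : ClosedP p) :
    Nat.card (c.grp p) = (allT.filter p).length := by
  classical
  have e : Nat.card (c.grp p) = ((allT.filter p).toFinset.image c.φ).card := by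
    refine Nat.subtype_card _ fun g => ?_
    rw [c.mem_grp hp]
    simp [allT, and_assoc]
  rw [e, Finset.card_image_of_injOn, List.toFinset_card_of_nodup (show (allT.filter p).Nodup from List.nodup_range.filter _)]
  intro a ha b hb h
  simp [allT] at ha hb
  exact c.phi_inj ha.1 hb.1 h

/-! ### Two-groups and elements of odd order -/

theorem isPGroup_of_odd {H : Subgroup G} (h : ∀ r ∈ H, OddOrd r → r = 1) : IsPGroup 2 H := by
  haveI := Fact.mk Nat.prime_two
  refine Invol.isPGroup_of_coprime_elements fun x hx => Subtype.ext ?_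
  exact h x x.2 (by rw [OddOrd, Subgroup.orderOf_coe]; exact hx)

theorem odd_eq_one {H : Subgroup G} (hH : IsPGroup 2 H) {r : G} (hr : r ∈ H) (ho : OddOrd r) :
    r = 1 := by
  haveI := Fact.mk Nat.prime_two
  exact Invol.eq_one_of_coprime_of_mem hH hr ho

theorem odd_eq_one_T {r : G} (hr : r ∈ (c.T : Subgroup G)) (ho : OddOrd r) : r = 1 :=
  odd_eq_one c.T.isPGroup' hr ho

/-- A `2`-subgroup normalised by `T` lies in `T`. -/
theorem le_T {N : Subgroup G} (hN : IsPGroup 2 N)
    (h : (c.T : Subgroup G) ≤ Subgroup.normalizer (N : Set G)) : N ≤ (c.T : Subgroup G) := by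
  have h2 := hN.to_sup_of_normal_left' c.T.isPGroup' h
  rw [← c.T.3 h2 le_sup_right]
  exact le_sup_left

/-- A subgroup without elements of odd order which contains `T` is `T`. -/
theorem le_T_of_odd {H : Subgroup G} (hT : (c.T : Subgroup G) ≤ H)
    (h : ∀ r ∈ H, OddOrd r → r = 1) : H ≤ (c.T : Subgroup G) :=
  (c.T.3 (isPGroup_of_odd h) hT).le

/-- Coprime stabilisation. -/
theorem commute_stab {r w q : G} (ho : OddOrd r) (hw : w ∈ (c.T : Subgroup G)) (hrw : Commute r w)
    (h : r * q * r⁻¹ = w * q) : Commute r q := by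
  obtain ⟨k, hk⟩ := Invol.pow_ppow_eq_one_of_mem c.T.isPGroup' hw
  exact Invol.commute_of_stabilises ho hk hrw h

theorem odd_pow_self {r : G} (ho : OddOrd r) (i : ℕ) : ∃ k : ℕ, (r ^ 2 ^ i) ^ k = r := by
  refine exists_pow_eq_self_of_coprime ?_
  exact Nat.Coprime.pow_left i (Nat.Coprime.symm ho)

theorem odd_pow {r : G} (ho : OddOrd r) (n : ℕ) : OddOrd (r ^ n) :=
  Nat.Coprime.coprime_dvd_left (orderOf_pow_dvd n) ho

end Ctx

end

/-- The `2`-core of the centraliser of a conjugate of the central involution. -/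
theorem Ctx.exists_core {G : Type u} [Group G] [Finite G] (c : Ctx G) {w : G}
    (hw : IsConj (c.φ 9) w) :
    ∃ Q : Subgroup G, IsPGroup 2 Q ∧ (∀ g, Commute g w → ∀ q ∈ Q, g * q * g⁻¹ ∈ Q) ∧
      (∀ q ∈ Q, Commute q w) ∧ ∀ g, Commute g w → (∀ q ∈ Q, Commute g q) → g ∈ Q := by
  classical
  haveI := Fact.mk Nat.prime_two
  obtain ⟨k, rfl⟩ := isConj_iff.1 hw
  set w := k * c.φ 9 * k⁻¹ with hwdef
  set C := Subgroup.centralizer ({w} : Set G) with hC
  have hz2 : c.φ 9 * c.φ 9 = 1 :=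
    (c.sq_eq_one_iff (by norm_num)).2 (by decide +kernel)
  have hw2 : w * w = 1 := by
    rw [hwdef, show k * c.φ 9 * k⁻¹ * (k * c.φ 9 * k⁻¹) = k * (c.φ 9 * c.φ 9) * k⁻¹ by group, hz2]
    group
  have hw1 : w ≠ 1 := fun h => c.phi_ne_one (show 9 < 128 by norm_num) (by norm_num) (by
    have : c.φ 9 = k⁻¹ * w * k := by rw [hwdef]; group
    rw [this, h]; group)
  have hwo : orderOf w = 2 := orderOf_eq_prime (by rw [pow_two, hw2]) hw1
  have hloc : Cfsg.IsTwoLocal C := by
    refine ⟨Subgroup.zpowers w, IsPGroup.of_card (n := 1) (by rw [Nat.card_zpowers, hwo, pow_one]),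
      fun h => hw1 (Subgroup.zpowers_eq_bot.1 h), ?_⟩
    ext g
    rw [hC, Subgroup.mem_centralizer_singleton_iff, Subgroup.mem_normalizer_iff]
    constructor
    · intro h x
      have h' : ∀ n : ℤ, g * w ^ n * g⁻¹ = w ^ n := fun n => by
        rw [(Commute.zpow_right (show Commute g w from h) n).eq]; group
      constructor
      · rintro ⟨n, rfl⟩; exact ⟨n, (h' n).symm⟩
      · rintro ⟨n, hn⟩
        refine ⟨n, ?_⟩
        have e : g * x * g⁻¹ = g * w ^ n * g⁻¹ := by rw [h' n]; exact hn.symm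
        exact (mul_left_cancel (mul_right_cancel e)).symm
    · intro h
      obtain ⟨n, hn, he⟩ : ∃ n < 2, w ^ n = g * w * g⁻¹ := by
        have := mem_zpowers_iff_mem_range_orderOf.1 ((h w).1 (Subgroup.mem_zpowers w))
        simpa [hwo] using this
      interval_cases n
      · rw [pow_zero] at he
        exact absurd (conj_eq_one_iff.1 he.symm) hw1
      · rw [pow_one] at he
        exact (eq_mul_inv_iff_mul_eq.1 he).symm
  have hS : ∃ S : Sylow 2 G, (S : Subgroup G) ≤ C := by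
    refine ⟨k • c.T, ?_⟩
    rintro _ ⟨t, ht, rfl⟩
    rw [hC, Subgroup.mem_centralizer_singleton_iff]
    show k * t * k⁻¹ * w = w * (k * t * k⁻¹)
    rw [hwdef, show k * t * k⁻¹ * (k * c.φ 9 * k⁻¹) = k * (t * c.φ 9) * k⁻¹ by group,
      (c.nine_central ht).eq]
    group
  have hchar : Subgroup.centralizer (Cfsg.pCore 2 C : Set C) ≤ Cfsg.pCore 2 C := c.ec C hloc hS
  refine ⟨(Cfsg.pCore 2 C).map C.subtype, (Grp.pCore_isPGroup).map _, ?_, ?_, ?_⟩
  · rintro g hg _ ⟨q, hq, rfl⟩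
    exact ⟨⟨g, Subgroup.mem_centralizer_singleton_iff.2 hg.eq⟩ * q *
      ⟨g, Subgroup.mem_centralizer_singleton_iff.2 hg.eq⟩⁻¹,
      (Invol.pCore_normal 2 C).conj_mem q hq _, rfl⟩
  · rintro _ ⟨q, -, rfl⟩
    exact Subgroup.mem_centralizer_singleton_iff.1 q.2
  · intro g hg h
    refine ⟨⟨g, Subgroup.mem_centralizer_singleton_iff.2 hg.eq⟩, hchar ?_, rfl⟩
    rw [Subgroup.mem_centralizer_iff]
    intro q hq
    exact Subtype.ext (h q ⟨q, hq, rfl⟩).symm.eq

end Cfsg.Agent.Fus.SFourWr
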