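import Cfsg.Agent.Lib.Fus.SFourWreath.Model

/-!
Finite facts used for the local subgroups: the descent to the centre modulo the central involution,
the square of the elementary abelian subgroups, and generators of the base.
-/

set_option autoImplicit false

namespace Cfsg.Agent.Fus.SFourWr

/-- The table of a descent by commutators. -/
def descTable : List ℕ :=
  [0, 1, 1, 1, 1, 1, 1, 1, 8, 9, 1, 1, 1, 1, 1, 1,
   8, 8, 1, 1, 1, 1, 1, 1, 8, 8, 1, 1, 1, 1, 1, 1,
   8, 8, 1, 1, 1, 1, 1, 1, 8, 8, 1, 1, 1, 1, 1, 1,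
   8, 8, 1, 1, 1, 1, 1, 1, 8, 8, 1, 1, 1, 1, 1, 1,
   18, 18, 18, 18, 18, 18, 18, 18, 18, 18, 18, 18, 18, 18, 18, 18,
   18, 18, 18, 18, 18, 18, 18, 18, 18, 18, 18, 18, 18, 18, 18, 18,
   26, 26, 26, 26, 26, 26, 26, 26, 26, 26, 26, 26, 26, 26, 26, 26,
   26, 26, 26, 26, 26, 26, 26, 26, 26, 26, 26, 26, 26, 26, 26, 26]

/-- One step of the descent by commutators. -/
def descStep (x : ℕ) : ℕ := descTable.getD x 0

theorem descStep_cases : ∀ x < 128, descStep x = x ∨ ∃ g < 128, commN g x = descStep x := by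
  decide +kernel

theorem descend : ∀ x < 128, x ≠ 0 → x ≠ 9 →
    descStep (descStep x) ∈ [1, 8] := by
  decide +kernel

theorem descStep_lt : ∀ x < 128, descStep x < 128 := by decide +kernel

theorem cent_one : ∀ x < 128, (commB x 1 = true ↔ x < 64) ∧ (commB x 8 = true ↔ x < 64) := by
  decide +kernel

theorem base_normal : ∀ g < 128, ∀ x < 64, conjN g x < 64 := by decide +kernel

/-- The generators of the base as words. -/
theorem base_word : ∀ x < 64, x = mulN (mulN (mulN (Nat.land x 2) (Nat.land x 4)) (Nat.land x 1))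
    (mulN (mulN (Nat.land x 16) (Nat.land x 32)) (Nat.land x 8)) ∧
    (∀ b ∈ [1, 2, 4, 8, 16, 32], Nat.land x b = 0 ∨ Nat.land x b = b) := by
  decide +kernel

theorem closed_base_data : ∀ x < 64, ∀ y < 64, mulN x y < 64 := by decide +kernel

theorem opp_facts : ∀ s ∈ elem16, (72 - s ∈ elem16) ∧ ∀ t ∈ elem16,
    ((allB.all fun x => !(inE s x && inE t x) || (allB.all fun y => commB x y)) = true ↔
      t = 72 - s) := by
  decide +kernel

theorem elem16_inj : ∀ s ∈ elem16, ∀ t ∈ elem16, (∀ x < 64, inE s x = inE t x) → s = t := by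
  decide +kernel

theorem swap_facts : conjN 64 29 < 128 ∧ (∀ x < 64, inE 29 x = inE 43 (conjN 64 x)) ∧
    (∀ g < 128, g < 64 ↔ (∀ x < 64, inE 29 x = true → inE 29 (conjN g x) = true)) ∧
    (∀ g < 128, g < 64 ↔ (∀ x < 64, inE 43 x = true → inE 43 (conjN g x) = true)) ∧
    (∀ g < 128, ∀ x < 64, inE 45 x = inE 45 (conjN g x) ∧ inE 27 x = inE 27 (conjN g x)) := by
  decide +kernel

/-- The commutators of the meets of adjacent elementary subgroups with the base. -/
theorem adjacent_comm_one : ∀ x < 64, inE 45 x = true → inE 29 x = true →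
    ∀ b < 64, commN b x = 0 ∨ commN b x = 1 := by
  decide +kernel

/-- The commutators of the meets of adjacent elementary subgroups with the base. -/
theorem adjacent_comm_eight : ∀ x < 64, inE 29 x = true → inE 27 x = true →
    ∀ b < 64, commN b x = 0 ∨ commN b x = 8 := by
  decide +kernel

/-- Outside the centre an adjacent meet is one coset. -/
theorem adjacent_coset : ∀ p ∈ [((45 : ℕ), (29 : ℕ), (4 : ℕ)), (29, 27, 16), (27, 43, 2), (43, 45, 32)],
    ∀ x < 64, inE p.1 x = true → inE p.2.1 x = true →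
      x ∈ [0, 1, 8, 9] ∨ mulN x p.2.2 ∈ [0, 1, 8, 9] := by
  decide +kernel

theorem adjacent_gen : (inE 45 4 && inE 29 4 && inE 29 16 && inE 27 16 && inE 27 2 && inE 43 2 &&
    inE 43 32 && inE 45 32) = true ∧ commN 2 4 = 1 ∧ commN 32 16 = 8 := by
  decide +kernel

theorem cent_uu : ∀ x < 128,
    commB x 1 = true → commB x 2 = true → commB x 16 = true → inE 27 x = true := by
  decide +kernel

theorem comm_uu : ∀ x < 64, ∀ u ∈ [1, 2, 16], inE 27 (commN x u) = true := by decide +kernel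

theorem outer_mul : ∀ x < 128, ∀ y < 128, 64 ≤ x → 64 ≤ y → mulN y (invN x) < 64 := by
  decide +kernel

theorem pair_facts : ∀ s ∈ elem16, ∀ t ∈ elem16, ∀ u ∈ elem16,
    t ≠ s → t ≠ 72 - s → u ≠ t → u ≠ 72 - t → u = s ∨ u = 72 - s := by
  decide +kernel

theorem bit_mem : ∀ s ∈ elem16, ∀ x < 64, inE s x = true → ∀ b ∈ [1, 2, 4, 8, 16, 32],
    Nat.land x b = b → inE s b = true := by
  decide +kernel

theorem uu_word : ∀ x < 64, inE 27 x = true →
    x = mulN (mulN (Nat.land x 1) (Nat.land x 2)) (mulN (Nat.land x 8) (Nat.land x 16)) := by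
  decide +kernel

end Cfsg.Agent.Fus.SFourWr
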