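import Cfsg.Agent.Lib.Fus.SFourWreath.Basic
import Cfsg.Agent.Lib.Fus.SFourWreath.LocalData

/-!
The centraliser of the central involution, and the normaliser of the base.
-/

set_option autoImplicit false
set_option linter.unusedSectionVars false

namespace Cfsg.Agent.Fus.SFourWr

universe u

/-- The base. -/
def pB (x : ℕ) : Bool := x < 64

theorem closed_pB : ClosedP pB := by
  refine ⟨rfl, fun x _ y _ hx hy => ?_⟩
  simp only [pB, decide_eq_true_eq] at hx hy ⊢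
  exact closed_base_data x hx y hy

theorem closed_inE : ∀ s ∈ elem16, ClosedP (inE s) := by
  intro s hs
  refine ⟨?_, fun x _ y _ hx hy => ?_⟩
  · fin_cases hs <;> rfl
  · have hx' : x < 64 := by simp [inE] at hx; exact hx.2
    have hy' : y < 64 := by simp [inE] at hy; exact hy.2
    exact (inE_facts s hs x hx' y hy' hx hy).2.1

theorem inE_lt {s x : ℕ} (h : inE s x = true) : x < 64 := by simp [inE] at h; exact h.2

theorem card_pB : (allT.filter pB).length = 64 := by decide +kernel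

theorem card_inE : ∀ s ∈ elem16, (allT.filter (inE s)).length = 16 := by decide +kernel

section

variable {G : Type u} [Group G] [Finite G] (c : Ctx G)

namespace Ctx

/-- The base `D₁ × D₂`. -/
abbrev BB : Subgroup G := c.grp pB

/-- The elementary abelian subgroup with support `s`. -/
abbrev EE (s : ℕ) : Subgroup G := c.grp (inE s)

theorem mem_BB {g : G} : g ∈ c.BB ↔ ∃ x < 64, c.φ x = g := by
  rw [c.mem_grp closed_pB]
  simp only [pB, decide_eq_true_eq]
  exact ⟨fun ⟨x, _, h, e⟩ => ⟨x, h, e⟩, fun ⟨x, h, e⟩ => ⟨x, by omega, h, e⟩⟩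

theorem mem_EE {s : ℕ} (hs : s ∈ elem16) {g : G} : g ∈ c.EE s ↔ ∃ x, inE s x = true ∧ c.φ x = g := by
  rw [c.mem_grp (closed_inE s hs)]
  exact ⟨fun ⟨x, _, h, e⟩ => ⟨x, h, e⟩, fun ⟨x, h, e⟩ => ⟨x, by have := inE_lt h; omega, h, e⟩⟩

theorem EE_le_BB {s : ℕ} (hs : s ∈ elem16) : c.EE s ≤ c.BB := by
  intro g hg
  obtain ⟨x, hx, rfl⟩ := (c.mem_EE hs).1 hg
  exact c.mem_BB.2 ⟨x, inE_lt hx, rfl⟩

theorem EE_sq {s : ℕ} (hs : s ∈ elem16) {g : G} (hg : g ∈ c.EE s) : g * g = 1 := by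
  obtain ⟨x, hx, rfl⟩ := (c.mem_EE hs).1 hg
  have h := inE_lt hx
  exact (c.sq_eq_one_iff (by omega)).2 (inE_facts s hs x h x h hx hx).2.2.1

theorem code_mem_EE {s x : ℕ} (hs : s ∈ elem16) (hx : x < 128) :
    c.φ x ∈ c.EE s ↔ inE s x = true := c.mem_grp_code (closed_inE s hs) hx

theorem EE_inj {s t : ℕ} (hs : s ∈ elem16) (ht : t ∈ elem16) (h : c.EE s = c.EE t) : s = t := by
  refine elem16_inj s hs t ht fun x hx => Bool.eq_iff_iff.2 ?_
  rw [← c.code_mem_EE hs (by omega : x < 128), ← c.code_mem_EE ht (by omega : x < 128), h]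

/-- A subgroup containing the generators of an elementary subgroup contains it. -/
theorem EE_le {s : ℕ} (hs : s ∈ elem16) {H : Subgroup G}
    (h : ∀ b ∈ [1, 2, 4, 8, 16, 32], inE s b = true → c.φ b ∈ H) : c.EE s ≤ H := by
  intro g hg
  obtain ⟨x, hx, rfl⟩ := (c.mem_EE hs).1 hg
  have hx' := inE_lt hx
  obtain ⟨hw, hb⟩ := base_word x hx'
  have hl : ∀ b ∈ [1, 2, 4, 8, 16, 32], Nat.land x b < 128 ∧ c.φ (Nat.land x b) ∈ H := by
    intro b hbm
    rcases hb b hbm with e | e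
    · rw [e, c.phi_zero]; exact ⟨by norm_num, one_mem _⟩
    · rw [e]
      refine ⟨?_, h b hbm (bit_mem s hs x hx' hx b hbm e)⟩
      fin_cases hbm <;> norm_num
  obtain ⟨l1, m1⟩ := hl 1 (by simp)
  obtain ⟨l2, m2⟩ := hl 2 (by simp)
  obtain ⟨l4, m4⟩ := hl 4 (by simp)
  obtain ⟨l8, m8⟩ := hl 8 (by simp)
  obtain ⟨l16, m16⟩ := hl 16 (by simp)
  obtain ⟨l32, m32⟩ := hl 32 (by simp)
  rw [hw, c.hmul _ (mulN_lt _ (mulN_lt _ l2 _ l4) _ l1) _ (mulN_lt _ (mulN_lt _ l16 _ l32) _ l8),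
    c.hmul _ (mulN_lt _ l2 _ l4) _ l1, c.hmul _ l2 _ l4,
    c.hmul _ (mulN_lt _ l16 _ l32) _ l8, c.hmul _ l16 _ l32]
  exact mul_mem (mul_mem (mul_mem m2 m4) m1) (mul_mem (mul_mem m16 m32) m8)

/-- A subgroup containing the generators of the base contains it. -/
theorem BB_le {H : Subgroup G} (h : ∀ b ∈ [1, 2, 4, 8, 16, 32], c.φ b ∈ H) : c.BB ≤ H := by
  intro g hg
  obtain ⟨x, hx, rfl⟩ := c.mem_BB.1 hg
  obtain ⟨hw, hb⟩ := base_word x hx
  have hl : ∀ b ∈ [1, 2, 4, 8, 16, 32], Nat.land x b < 128 ∧ c.φ (Nat.land x b) ∈ H := by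
    intro b hbm
    rcases hb b hbm with e | e
    · rw [e, c.phi_zero]; exact ⟨by norm_num, one_mem _⟩
    · rw [e]
      refine ⟨?_, h b hbm⟩
      fin_cases hbm <;> norm_num
  obtain ⟨l1, m1⟩ := hl 1 (by simp)
  obtain ⟨l2, m2⟩ := hl 2 (by simp)
  obtain ⟨l4, m4⟩ := hl 4 (by simp)
  obtain ⟨l8, m8⟩ := hl 8 (by simp)
  obtain ⟨l16, m16⟩ := hl 16 (by simp)
  obtain ⟨l32, m32⟩ := hl 32 (by simp)
  rw [hw, c.hmul _ (mulN_lt _ (mulN_lt _ l2 _ l4) _ l1) _ (mulN_lt _ (mulN_lt _ l16 _ l32) _ l8),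
    c.hmul _ (mulN_lt _ l2 _ l4) _ l1, c.hmul _ l2 _ l4,
    c.hmul _ (mulN_lt _ l16 _ l32) _ l8, c.hmul _ l16 _ l32]
  exact mul_mem (mul_mem (mul_mem m2 m4) m1) (mul_mem (mul_mem m16 m32) m8)

theorem BB_normal {g : G} (hg : g ∈ (c.T : Subgroup G)) {b : G} (hb : b ∈ c.BB) :
    g * b * g⁻¹ ∈ c.BB := by
  obtain ⟨x, hx, rfl⟩ := c.exists_code hg
  obtain ⟨y, hy, rfl⟩ := c.mem_BB.1 hb
  rw [c.phi_conj hx (by omega)]
  exact c.mem_BB.2 ⟨_, base_normal x hx y hy, rfl⟩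

/-! ### The centraliser of the central involution -/

/-- The data of the `2`-core `Q` of the centraliser of `z`. -/
def CoreZ (Q : Subgroup G) : Prop :=
  (∀ g, Commute g (c.φ 9) → ∀ q ∈ Q, g * q * g⁻¹ ∈ Q) ∧
    (∀ g, Commute g (c.φ 9) → (∀ q ∈ Q, Commute g q) → g ∈ Q) ∧ Q ≤ (c.T : Subgroup G) ∧
    c.φ 9 ∈ Q ∧ c.φ 1 ∈ Q ∧ c.φ 8 ∈ Q

theorem exists_coreZ : ∃ Q, c.CoreZ Q := by
  obtain ⟨Q, h2, hn, hc, hcent⟩ := c.exists_core (IsConj.refl (c.φ 9))
  have hQT : Q ≤ (c.T : Subgroup G) := by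
    refine c.le_T h2 fun g hg => ?_
    rw [Subgroup.mem_normalizer_iff]
    intro x
    refine ⟨fun hx => hn g (c.nine_central hg) x hx, fun hx => ?_⟩
    have := hn g⁻¹ (c.nine_central hg).inv_left _ hx
    rwa [inv_inv, show g⁻¹ * (g * x * g⁻¹) * g = x by group] at this
  have h9 : c.φ 9 ∈ Q := hcent _ (Commute.refl _) fun q hq => (hc q hq).symm
  have h89 : c.φ 1 = c.φ 8 * c.φ 9 := by
    rw [← c.hmul 8 (by norm_num) 9 (by norm_num)]
    exact congrArg c.φ (by decide +kernel)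
  have h18 : c.φ 8 = c.φ 1 * c.φ 9 := by
    rw [← c.hmul 1 (by norm_num) 9 (by norm_num)]
    exact congrArg c.φ (by decide +kernel)
  suffices h : c.φ 1 ∈ Q from ⟨Q, hn, hcent, hQT, h9, h, h18 ▸ mul_mem h h9⟩
  by_cases hsmall : ∀ q ∈ Q, q = 1 ∨ q = c.φ 9
  · refine hcent _ (c.commute_of (by norm_num) (by norm_num) (by decide +kernel)) fun q hq => ?_
    rcases hsmall q hq with rfl | rfl
    · exact Commute.one_right _
    · exact c.commute_of (by norm_num) (by norm_num) (by decide +kernel)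
  push Not at hsmall
  obtain ⟨q, hq, hq1, hq9⟩ := hsmall
  obtain ⟨x, hx, rfl⟩ := c.exists_code (hQT hq)
  have hstep : ∀ y < 128, c.φ y ∈ Q → c.φ (descStep y) ∈ Q := by
    intro y hy hyQ
    rcases descStep_cases y hy with e | ⟨g, hg, e⟩
    · rwa [e]
    · rw [← e, ← c.phi_comm hg hy, ← mul_assoc]
      exact mul_mem (hn _ (c.nine_central (c.phi_mem hg)) _ hyQ) (inv_mem hyQ)
  have hd := hstep _ (descStep_lt x hx) (hstep x hx hq)
  have := descend x hx (fun e => hq1 (e ▸ c.phi_zero)) (fun e => hq9 (e ▸ rfl))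
  simp only [List.mem_cons, List.mem_nil_iff, or_false] at this
  rcases this with e | e <;> rw [e] at hd
  · exact hd
  · exact h89 ▸ mul_mem hd h9

/-- An odd element of the centraliser of `z` is determined on the base part of the core. -/
theorem core_trivial {Q : Subgroup G} (hQ : c.CoreZ Q) {r : G} (ho : OddOrd r)
    (hrz : Commute r (c.φ 9)) (h : ∀ x < 64, c.φ x ∈ Q → Commute r (c.φ x)) : r = 1 := by
  obtain ⟨hn, hcent, hQT, h9, h1, -⟩ := hQ
  refine c.odd_eq_one_T (hQT (hcent r hrz fun q hq => ?_)) ho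
  obtain ⟨x, hx, rfl⟩ := c.exists_code (hQT hq)
  by_cases hx' : x < 64
  · exact h x hx' hq
  have hc' := hn r hrz _ hq
  obtain ⟨y, hy, hye⟩ := c.exists_code (hQT hc')
  have hy' : ¬ y < 64 := by
    intro hy'
    have hc1 := (c.commute_of hy (by norm_num) (((cent_one y hy).1).2 hy'))
    have hr1 : Commute r (c.φ 1) := h 1 (by norm_num) h1
    have h2 : Commute (r⁻¹ * c.φ y * r) (c.φ 1) :=
      ((hr1.inv_left).mul_left hc1).mul_left hr1
    rw [hye, show r⁻¹ * (r * c.φ x * r⁻¹) * r = c.φ x by group] at h2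
    exact hx' (((cent_one x hx).1).1 ((c.commute_iff hx (by norm_num)).1 h2))
  have hw := outer_mul x hx y hy (by omega) (by omega)
  have hwe : c.φ (mulN y (invN x)) = r * c.φ x * r⁻¹ * (c.φ x)⁻¹ := by
    rw [c.hmul y hy _ (invN_lt x hx).1, c.phi_inv hx, hye]
  refine c.commute_stab ho (c.phi_mem (x := mulN y (invN x)) (by omega)) (h _ hw ?_) ?_
  · rw [hwe]; exact mul_mem hc' (inv_mem hq)
  · rw [hwe]; group

/-! ### The elementary abelian subgroups of order sixteen -/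

theorem classify {A : Subgroup G} (hA : A ≤ (c.T : Subgroup G)) (h2 : ∀ a ∈ A, a * a = 1)
    (h16 : Nat.card A = 16) : ∃ s ∈ elem16, A = c.EE s := by
  classical
  set P : Finset ℕ := (Finset.range 128).filter fun x => c.φ x ∈ A with hP
  have hcard : P.card = 16 := by
    rw [← h16, ← Finset.card_image_of_injOn (f := c.φ) (s := P)]
    · refine (Nat.subtype_card _ fun g => ?_).symm
      simp only [hP, Finset.mem_image, Finset.mem_filter, Finset.mem_range]
      refine ⟨?_, fun hg => ?_⟩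
      · rintro ⟨x, ⟨-, hx⟩, rfl⟩; exact hx
      · obtain ⟨x, hx, rfl⟩ := c.exists_code (hA hg)
        exact ⟨x, ⟨hx, hg⟩, rfl⟩
    · intro a ha b hb h
      simp [hP] at ha hb
      exact c.phi_inj ha.1 hb.1 h
  have hmem : ∀ x ∈ P, x < 128 ∧ c.φ x ∈ A := fun x hx => by simpa [hP] using hx
  have hmk : ∀ x < 128, c.φ x ∈ A → x ∈ P := fun x hx h => by simp [hP, hx, h]
  have hsq : ∀ x ∈ P, mulN x x = 0 := fun x hx =>
    (c.sq_eq_one_iff (hmem x hx).1).1 (h2 _ (hmem x hx).2)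
  have hab : ∀ x ∈ P, ∀ y ∈ P, commB x y = true := by
    intro x hx y hy
    obtain ⟨hx1, hx2⟩ := hmem x hx
    obtain ⟨hy1, hy2⟩ := hmem y hy
    refine (c.commute_iff hx1 hy1).1 ?_
    have e := h2 _ (mul_mem hx2 hy2)
    have ex := inv_eq_of_mul_eq_one_right (h2 _ hx2)
    have ey := inv_eq_of_mul_eq_one_right (h2 _ hy2)
    calc c.φ x * c.φ y = (c.φ x * c.φ y)⁻¹ := (inv_eq_of_mul_eq_one_right e).symm
      _ = c.φ y * c.φ x := by rw [mul_inv_rev, ex, ey]
  have hbase : ∀ x ∈ P, x < 64 := by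
    intro x hx
    by_contra h64
    obtain ⟨hx1, hx2⟩ := hmem x hx
    obtain ⟨h8, y, hy, hcy, hyy⟩ := outside_facts x hx1 (by omega) (hsq x hx)
    set L := (allB.filter fun y => commB x y).toFinset with hL
    have hL8 : L.card ≤ 8 := (List.toFinset_card_le _).trans h8.le
    have hLmem : ∀ v, v ∈ L ↔ v < 64 ∧ commB x v = true := fun v => by simp [hL, allB]
    have hsub : P.filter (· < 64) ⊆ L := fun v hv => by
      rw [Finset.mem_filter] at hv
      exact (hLmem v).2 ⟨hv.2, hab x hx v hv.1⟩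
    have hout : (P.filter fun v => ¬ v < 64).card ≤ (P.filter (· < 64)).card := by
      refine Finset.card_le_card_of_injOn (fun v => mulN v (invN x)) (fun v hv => ?_) ?_
      · simp only [Finset.coe_filter, Set.mem_setOf_eq] at hv
        have hv' := hmem v hv.1
        have hl := outer_mul x hx1 v hv'.1 (by omega) (by omega)
        simp only [Finset.coe_filter, Set.mem_setOf_eq]
        refine ⟨hmk _ (by omega) ?_, hl⟩
        rw [c.hmul v hv'.1 _ (invN_lt x hx1).1, c.phi_inv hx1]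
        exact mul_mem hv'.2 (inv_mem hx2)
      · intro a ha b hb h
        simp only [Finset.coe_filter, Set.mem_setOf_eq] at ha hb
        have ha' := (hmem a ha.1).1
        have hb' := (hmem b hb.1).1
        refine c.phi_inj ha' hb' ?_
        have := congrArg c.φ h
        rwa [c.hmul a ha' _ (invN_lt x hx1).1, c.hmul b hb' _ (invN_lt x hx1).1, mul_left_inj] at this
    have htot := Finset.card_filter_add_card_filter_not (s := P) (· < 64)
    rw [hcard] at htot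
    have heq : P.filter (· < 64) = L := Finset.eq_of_subset_of_card_le hsub (by omega)
    have hyP : y ∈ P.filter (· < 64) := heq ▸ (hLmem y).2 ⟨hy, hcy⟩
    exact hyy (hsq y (Finset.mem_filter.1 hyP).1)
  have hfour : ∀ x ∈ P, ∀ y ∈ P,
      (((Nat.land (x % 8) 5 == x % 8 && Nat.land (y % 8) 5 == y % 8) ||
        (Nat.land (x % 8) 3 == x % 8 && Nat.land (y % 8) 3 == y % 8)) = true) ∧
      (((Nat.land (x / 8) 5 == x / 8 && Nat.land (y / 8) 5 == y / 8) ||
        (Nat.land (x / 8) 3 == x / 8 && Nat.land (y / 8) 3 == y / 8)) = true) := by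
    intro x hx y hy
    have hx' := hbase x hx
    have hy' := hbase y hy
    obtain ⟨a1, a2⟩ := (base_proj x hx' y hy').1.1 (hsq x hx)
    obtain ⟨b1, b2⟩ := (base_proj y hy' x hx').1.1 (hsq y hy)
    obtain ⟨d1, d2⟩ := (base_proj x hx' y hy').2.1 (hab x hx y hy)
    refine ⟨four_facts _ (Nat.mod_lt _ (by norm_num)) _ (Nat.mod_lt _ (by norm_num)) ?_,
      four_facts _ (by omega) _ (by omega) ?_⟩
    · simp [a1, b1, d1]
    · simp [a2, b2, d2]
  obtain ⟨ml, hml, hl⟩ : ∃ m, (m = 5 ∨ m = 3) ∧ ∀ x ∈ P, Nat.land (x % 8) m = x % 8 := by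
    by_cases h5 : ∀ x ∈ P, Nat.land (x % 8) 5 = x % 8
    · exact ⟨5, Or.inl rfl, h5⟩
    · push Not at h5
      obtain ⟨x, hx, hx5⟩ := h5
      refine ⟨3, Or.inr rfl, fun y hy => ?_⟩
      have := (hfour x hx y hy).1
      simp only [Bool.or_eq_true, Bool.and_eq_true, beq_iff_eq] at this
      exact (this.resolve_left fun h => hx5 h.1).2
  obtain ⟨mr, hmr, hr⟩ : ∃ m, (m = 5 ∨ m = 3) ∧ ∀ x ∈ P, Nat.land (x / 8) m = x / 8 := by
    by_cases h5 : ∀ x ∈ P, Nat.land (x / 8) 5 = x / 8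
    · exact ⟨5, Or.inl rfl, h5⟩
    · push Not at h5
      obtain ⟨x, hx, hx5⟩ := h5
      refine ⟨3, Or.inr rfl, fun y hy => ?_⟩
      have := (hfour x hx y hy).2
      simp only [Bool.or_eq_true, Bool.and_eq_true, beq_iff_eq] at this
      exact (this.resolve_left fun h => hx5 h.1).2
  have key : ∀ m₁ ∈ [5, 3], ∀ m₂ ∈ [5, 3], (m₁ + 8 * m₂) ∈ elem16 ∧ ∀ x < 64,
      Nat.land (x % 8) m₁ = x % 8 → Nat.land (x / 8) m₂ = x / 8 → inE (m₁ + 8 * m₂) x = true := by
    decide +kernel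
  obtain ⟨hs, hin⟩ := key ml (by rcases hml with rfl | rfl <;> simp) mr
    (by rcases hmr with rfl | rfl <;> simp)
  refine ⟨_, hs, Subgroup.eq_of_le_of_card_ge (fun g hg => ?_) ?_⟩
  · obtain ⟨x, hx, rfl⟩ := c.exists_code (hA hg)
    have hxP := hmk x hx hg
    exact (c.code_mem_EE hs hx).2 (hin x (hbase x hxP) (hl x hxP) (hr x hxP))
  · rw [c.card_grp (closed_inE _ hs), card_inE _ hs, h16]

theorem map_EE {g : G} {s : ℕ} (hs : s ∈ elem16) (h : ∀ x ∈ c.EE s, g * x * g⁻¹ ∈ (c.T : Subgroup G)) :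
    ∃ t ∈ elem16, (c.EE s).map (MulAut.conj g).toMonoidHom = c.EE t := by
  refine c.classify ?_ ?_ ?_
  · rintro _ ⟨x, hx, rfl⟩; exact h x hx
  · rintro _ ⟨x, hx, rfl⟩
    rw [← map_mul, c.EE_sq hs hx, map_one]
  · rw [Subgroup.card_map_of_injective (MulAut.conj g).injective, c.card_grp (closed_inE s hs),
      card_inE s hs]

end Ctx

end

end Cfsg.Agent.Fus.SFourWr
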