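import Cfsg.Agent.Lib.Fus.SFourWreath.LabelData

/-!
Words in an element of order five moving `c₂` and fixing what the centraliser arguments need.
-/

set_option autoImplicit false

namespace Cfsg.Agent.Fus.SFourWr

/-- The identity table on sixteen vectors. -/
def id16 : List ℕ := [0, 1, 2, 3, 4, 5, 6, 7, 8, 9, 10, 11, 12, 13, 14, 15]

/-- The tables of the elements of `T`. -/
def dList16 : List (List ℕ) :=
  [[0, 1, 2, 3, 4, 5, 6, 7, 8, 9, 10, 11, 12, 13, 14, 15],
    [0, 1, 2, 3, 4, 5, 6, 7, 12, 13, 14, 15, 8, 9, 10, 11],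
    [0, 1, 3, 2, 4, 5, 7, 6, 8, 9, 11, 10, 12, 13, 15, 14],
    [0, 1, 3, 2, 4, 5, 7, 6, 12, 13, 15, 14, 8, 9, 11, 10],
    [0, 4, 8, 12, 1, 5, 9, 13, 2, 6, 10, 14, 3, 7, 11, 15],
    [0, 4, 8, 12, 1, 5, 9, 13, 3, 7, 11, 15, 2, 6, 10, 14],
    [0, 4, 12, 8, 1, 5, 13, 9, 2, 6, 14, 10, 3, 7, 15, 11],
    [0, 4, 12, 8, 1, 5, 13, 9, 3, 7, 15, 11, 2, 6, 14, 10]]

/-- The table of `v₁`. -/
def v1Tab : List ℕ := [0, 1, 3, 2, 4, 5, 7, 6, 8, 9, 11, 10, 12, 13, 15, 14]

/-- The table of a code of `T`. -/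
def tab16 (x : ℕ) : List ℕ := (List.range 16).map fun q => qv16 (conjN x (lift16 q))

/-- Composition: first `f`, then `k`. -/
def cmp16 (k f : List ℕ) : List ℕ := f.map (app k)

/-- Powers of a table. -/
def pow16 : ℕ → List ℕ → List ℕ
  | 0, _ => id16
  | n + 1, f => cmp16 f (pow16 n f)

theorem tab16_T : (allT.all fun x => dList16.contains (tab16 x)) = true := by decide +kernel

theorem dList16_T : (dList16.all fun d => allT.any fun x => tab16 x == d) = true := by decide +kernel

theorem tab16_four : tab16 4 = v1Tab := by decide +kernel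

theorem tab16_acts : (allT.all fun g => allB.all fun x => !inE 27 x ||
    qv16 (conjN g x) == app (tab16 g) (qv16 x)) = true := by
  decide +kernel

/-- The word sought: it fixes `c₁`, moves `c₂` off `⟨c₁, u₁, c₂⟩` and satisfies the further condition
of the pattern. -/
def wordOk (l : ℕ × ℕ × ℕ) (y : List ℕ) : Bool :=
  app y 1 == 1 && (app y 4).testBit 3 &&
    if l == (1, 0, 0) then app y 2 == 2 else cmp16 y v1Tab == cmp16 v1Tab y

theorem five_facts : ([(1, 0, 0), (0, 1, 0)].all fun l => (maps16 l).all fun f =>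
    pow16 5 f != id16 || f == id16 || (List.range 5).any fun i => (List.range 5).any fun j =>
      dList16.any fun d => wordOk l (cmp16 (pow16 i f) (cmp16 d (pow16 j f)))) = true := by
  decide +kernel

theorem five_count : ([(1, 0, 0), (0, 1, 0)].all fun l =>
    (allB.filter fun x => inE 27 x && isInv x && labX l x == 1).length == 5) = true := by
  decide +kernel

end Cfsg.Agent.Fus.SFourWr
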