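import Cfsg.Agent.Lib.Fus.SFourWreath.Labels
import Cfsg.Agent.Lib.Fus.SFourWreath.FiveData

/-!
An element of order five in `N(U)` in the two patterns with five conjugates of `z` in `U`, and the
element moving `c₂` obtained from it.
-/

set_option autoImplicit false
set_option linter.unusedSectionVars false

namespace Cfsg.Agent.Fus.SFourWr

universe u

theorem id16_app : ∀ q < 16, app id16 q = q := by decide +kernel

section

variable {G : Type u} [Group G] [Finite G] (c : Ctx G)

namespace Ctx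

/-- A prime number of conjugates of an element of `U` divides the order of `N(U)`. -/
theorem dvd_card_normalizer {l : ℕ × ℕ × ℕ} (hl : c.Pattern l) {a v n : ℕ}
    (ha : inE 27 a = true) (hai : isInv a = true) (hav : labX l a = v)
    (hn : (allB.filter fun x => inE 27 x && isInv x && labX l x == v).length = n) :
    n ∣ Nat.card (Subgroup.normalizer (c.EE 27 : Set G)) := by
  classical
  have e27 : (27 : ℕ) ∈ elem16 := by simp [elem16]
  set H := Subgroup.normalizer (c.EE 27 : Set G) with hH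
  have he : ∀ x, inE 27 x = true → c.φ x ∈ c.EE 27 := fun x hx =>
    (c.code_mem_EE e27 (by have := inE_lt hx; omega)).2 hx
  letI : MulAction H G := MulAction.compHom G ((MulAut.conj (G := G)).comp H.subtype)
  have hsm : ∀ (h : H) (x : G), h • x = (h : G) * x * (h : G)⁻¹ := fun h x => rfl
  set L := ((allB.filter fun x => inE 27 x && isInv x && labX l x == v).toFinset.image c.φ) with hL
  have horb : MulAction.orbit H (c.φ a) = (L : Set G) := by
    ext y
    simp only [hL, Finset.coe_image, List.coe_toFinset, Set.mem_image, Set.mem_setOf_eq, allB,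
      List.mem_filter, List.mem_range, Bool.and_eq_true, beq_iff_eq]
    constructor
    · rintro ⟨h, rfl⟩
      show ∃ x, _ ∧ c.φ x = h • c.φ a
      obtain ⟨h1, e1⟩ := c.img_spec h.2 ha
      obtain ⟨hi, hc⟩ := c.img_typ_conj h.2 ha hai
      refine ⟨_, ⟨inE_lt h1, ⟨h1, hi⟩, ?_⟩, by rw [hsm]; exact e1⟩
      rw [← (c.pattern_iff hl (inE_lt ha) (inE_lt h1) hai hi).1 hc, hav]
    · rintro ⟨x, ⟨hx, ⟨hx27, hxi⟩, hxl⟩, rfl⟩
      obtain ⟨g, hg, e⟩ := c.control (Or.inr rfl) (he a ha) (he x hx27)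
        ((c.pattern_iff hl (inE_lt ha) hx hai hxi).2 (hav.trans hxl.symm))
      exact ⟨⟨g, hg⟩, e⟩
  have hcard : (MulAction.orbit H (c.φ a)).ncard = n := by
    rw [horb, Set.ncard_coe_finset, hL, Finset.card_image_of_injOn, List.toFinset_card_of_nodup
      (show (allB.filter _).Nodup from List.nodup_range.filter _), hn]
    intro p hp q hq h
    simp [allB] at hp hq
    exact c.phi_inj (by omega) (by omega) h
  have hd := Subgroup.index_dvd_card (MulAction.stabilizer H (c.φ a))
  rwa [MulAction.index_stabilizer, hcard] at hd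

/-- The element of `N(U)` moving `c₂`. -/
theorem exists_mover {l : ℕ × ℕ × ℕ} (hlm : l ∈ [(1, 0, 0), (0, 1, 0)]) (hl : c.Pattern l) :
    ∃ h ∈ Subgroup.normalizer (c.EE 27 : Set G), Commute h (c.φ 1) ∧
      (∃ y, inE 27 y = true ∧ c.φ y = h * c.φ 8 * h⁻¹ ∧ y.testBit 4 = true) ∧
      (l = (1, 0, 0) → Commute h (c.φ 2)) ∧
      (l = (0, 1, 0) → h * c.φ 4 * h⁻¹ * (c.φ 4)⁻¹ ∈ c.EE 27) := by
  classical
  have e27 : (27 : ℕ) ∈ elem16 := by simp [elem16]
  set H := Subgroup.normalizer (c.EE 27 : Set G) with hH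
  have hTH : (c.T : Subgroup G) ≤ H := c.T_le_normalizer (Or.inr rfl)
  have hlt : ∀ x, inE 27 x = true → x < 128 := fun x hx => by have := inE_lt hx; omega
  have hq : ∀ x, inE 27 x = true → qv16 x < 16 := fun x hx => (qv16_facts x (inE_lt hx) hx).2
  have hcount := five_count
  simp only [List.all_eq_true, beq_iff_eq] at hcount
  have h5 := c.dvd_card_normalizer hl (a := 9) rfl (by decide +kernel)
    (show labX l 9 = 1 by rw [labX_eq (by decide +kernel), show typ 9 = 1 by decide +kernel]; rfl)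
    (hcount l hlm)
  haveI := Fact.mk (show Nat.Prime 5 by norm_num)
  obtain ⟨⟨g, hgH⟩, hgo⟩ := exists_prime_orderOf_dvd_card' (G := H) 5 h5
  rw [Subgroup.orderOf_mk] at hgo
  obtain ⟨f, hf, hflen, hA⟩ := c.table_mem hl hgH
  have hlenp : ∀ n, (pow16 n f).length = 16 := by
    intro n
    induction n with
    | zero => rfl
    | succ n ih => simp [pow16, cmp16, ih]
  have hcomp : ∀ (a b : G) (k m : List ℕ), m.length = 16 → c.Acts qv16 a k → c.Acts qv16 b m →
      c.Acts qv16 (a * b) (cmp16 k m) := fun a b k m hm hk hm' => c.acts_comp hm' hk hq hm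
  have hpow : ∀ n : ℕ, c.Acts qv16 (g ^ n) (pow16 n f) := by
    intro n
    induction n with
    | zero =>
      intro x hx
      exact ⟨x, hx, by rw [pow_zero]; group, (id16_app _ (hq x hx)).symm⟩
    | succ n ih =>
      rw [pow_succ', pow16]
      exact hcomp _ _ _ _ (hlenp n) hA ih
  have h5id : pow16 5 f = id16 := by
    apply List.ext_getElem (by rw [hlenp]; rfl)
    intro q h1 h2
    have hq16 : q < 16 := by rw [hlenp] at h1; exact h1
    obtain ⟨hl1, hl2⟩ := mk16_mem q hq16
    obtain ⟨y, hy, ey, qy⟩ := hpow 5 _ hl2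
    rw [show g ^ 5 = 1 from hgo ▸ pow_orderOf_eq_one g] at ey
    have hyx : y = lift16 q := c.phi_inj (hlt y hy) (hlt _ hl2) (by rw [ey]; group)
    rw [hyx, hl1, show app (pow16 5 f) q = (pow16 5 f).getD q 0 from rfl,
      List.getD_eq_getElem _ 0 h1] at qy
    rw [← qy, ← List.getD_eq_getElem id16 0 h2]
    exact (id16_app q hq16).symm
  have hfix : ∀ {a : G} {k : List ℕ}, c.Acts qv16 a k → ∀ x, inE 27 x = true →
      app k (qv16 x) = qv16 x → Commute a (c.φ x) := by
    intro a k hk x hx e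
    obtain ⟨y, hy, ey, qy⟩ := hk x hx
    have h : y = x := by
      rw [← (qv16_facts y (inE_lt hy) hy).1, qy, e, (qv16_facts x (inE_lt hx) hx).1]
    rw [h] at ey
    exact mul_inv_eq_iff_eq_mul.1 ey.symm
  have hne : f ≠ id16 := by
    intro e
    have hgE : g ∈ c.EE 27 := c.centralizer_U fun u hu => by
      obtain ⟨x, hx, rfl⟩ := (c.mem_EE e27).1 hu
      exact hfix hA x hx (by rw [e]; exact id16_app _ (hq x hx))
    have : g = 1 := c.odd_eq_one_T (c.grp_le_T hgE) (by rw [OddOrd, hgo]; norm_num)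
    rw [this, orderOf_one] at hgo
    omega
  have h := five_facts
  simp only [List.all_eq_true, Bool.or_eq_true, bne_iff_ne, beq_iff_eq, List.any_eq_true,
    List.mem_range] at h
  rcases h l hlm f hf with (h | h) | ⟨i, -, j, -, d, hd, hok⟩
  · exact absurd h5id h
  · exact absurd h hne
  have htabT : ∀ x < 128, c.Acts qv16 (c.φ x) (tab16 x) := by
    intro x hx u hu
    have hu' := inE_lt hu
    have h := tab16_acts
    simp only [List.all_eq_true, allT, allB, List.mem_range, Bool.or_eq_true, Bool.not_eq_true',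
      beq_iff_eq] at h
    have hmem : c.φ (conjN x u) ∈ c.EE 27 := by
      rw [← c.phi_conj hx (by omega)]
      exact c.T_normalises (Or.inr rfl) (c.phi_mem hx) ((c.code_mem_EE e27 (hlt u hu)).2 hu)
    refine ⟨conjN x u, (c.code_mem_EE e27 (conjN_lt x hx u (by omega)).1).1 hmem,
      (c.phi_conj hx (by omega)).symm, ?_⟩
    rcases h x hx u hu' with h | h
    · rw [hu] at h; exact Bool.noConfusion h
    · exact h
  obtain ⟨a, ha, hda⟩ : ∃ a < 128, tab16 a = d := by
    have h := dList16_T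
    simp only [List.all_eq_true, List.any_eq_true, allT, List.mem_range, beq_iff_eq] at h
    exact h d hd
  set Y := g ^ i * c.φ a * g ^ j with hY
  set y := cmp16 (pow16 i f) (cmp16 d (pow16 j f)) with hy
  have hYA : c.Acts qv16 Y y := by
    rw [hY, mul_assoc]
    refine hcomp _ _ _ _ (by simp [cmp16, hlenp]) (hpow i) ?_
    rw [← hda]
    exact hcomp _ _ _ _ (hlenp j) (htabT a ha) (hpow j)
  have hYH : Y ∈ H := mul_mem (mul_mem (pow_mem hgH i) (hTH (c.phi_mem ha))) (pow_mem hgH j)
  simp only [wordOk, Bool.and_eq_true, beq_iff_eq] at hok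
  obtain ⟨⟨h1, h8⟩, hrest⟩ := hok
  refine ⟨Y, hYH, hfix hYA 1 rfl h1, ?_, ?_, ?_⟩
  · obtain ⟨v, hv, ev, qv⟩ := hYA 8 rfl
    refine ⟨v, hv, ev, ?_⟩
    have key : ∀ v < 64, inE 27 v = true → (qv16 v).testBit 3 = true → v.testBit 4 = true := by
      decide +kernel
    refine key v (inE_lt hv) hv ?_
    rw [qv]
    exact h8
  · intro e
    refine hfix hYA 2 rfl ?_
    rw [e, if_pos rfl] at hrest
    rw [show qv16 2 = 2 from rfl]
    simpa using hrest
  · intro e
    rw [e, if_neg (by decide)] at hrest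
    have hc : cmp16 y v1Tab = cmp16 v1Tab y := by simpa using hrest
    have hylen : y.length = 16 := by simp [hy, cmp16, hlenp]
    have h4 : c.Acts qv16 (c.φ 4) v1Tab := tab16_four ▸ htabT 4 (by norm_num)
    have e1 := hcomp Y (c.φ 4) y v1Tab rfl hYA h4
    have e2 := hcomp (c.φ 4) Y v1Tab y hylen h4 hYA
    rw [hc] at e1
    set W := (c.φ 4 * Y)⁻¹ * (Y * c.φ 4) with hW
    have hWU : W ∈ c.EE 27 := c.centralizer_U fun u hu => by
      obtain ⟨x, hx, rfl⟩ := (c.mem_EE e27).1 hu
      obtain ⟨p, hp, ep, qp⟩ := e1 x hx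
      obtain ⟨r, hr, er, qr⟩ := e2 x hx
      have hpr : p = r := by
        rw [← (qv16_facts p (inE_lt hp) hp).1, qp, ← qr, (qv16_facts r (inE_lt hr) hr).1]
      rw [hpr, er] at ep
      refine mul_inv_eq_iff_eq_mul.1 ?_
      calc W * c.φ x * W⁻¹
          = (c.φ 4 * Y)⁻¹ * (Y * c.φ 4 * c.φ x * (Y * c.φ 4)⁻¹) * (c.φ 4 * Y) := by rw [hW]; group
        _ = c.φ x := by rw [← ep]; group
    have e3 : Y * c.φ 4 * Y⁻¹ * (c.φ 4)⁻¹ = c.φ 4 * (Y * W * Y⁻¹) * (c.φ 4)⁻¹ := by rw [hW]; group
    rw [e3]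
    exact c.T_normalises (Or.inr rfl) (c.phi_mem (by norm_num))
      ((Subgroup.mem_normalizer_iff.1 hYH W).1 hWU)

end Ctx

end

end Cfsg.Agent.Fus.SFourWr
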