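import Cfsg.Agent.Lib.Fus.SFourWreath.TwoCase
import Cfsg.Agent.Lib.Fus.SFourWreath.Five
import Cfsg.Agent.Lib.Grp.CoprimeAbelian

/-!
The pattern in which `b` is fused with `z`: the centraliser of `U₁` is impossible.
-/

set_option autoImplicit false
set_option linter.unusedSectionVars false

namespace Cfsg.Agent.Fus.SFourWr

universe u

/-- The codes of `U₁ × D₂`. -/
def pS (x : ℕ) : Bool := x < 64 && x % 8 < 4

/-- The codes of `U₁`. -/
def pU1 (x : ℕ) : Bool := x < 4

theorem closed_pS : ClosedP pS := by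
  refine ⟨rfl, ?_⟩
  decide +kernel

theorem closed_pU1 : ClosedP pU1 := by
  refine ⟨rfl, ?_⟩
  decide +kernel

theorem card_pS : (allT.filter pS).length = 32 := by decide +kernel

theorem pS_facts : (∀ x < 128, pS x = true → commB x 1 = true ∧ commB x 2 = true) ∧
    commN 16 32 = 8 ∧ mulN 1 2 = 3 := by decide +kernel

theorem pS_fix : ∀ n < 64, commN n 40 ≠ 32 := by decide +kernel

theorem split_right : ∀ x < 64,
    mulN (x % 8) (8 * (x / 8)) = x ∧ (x % 8 < 4 → pU1 (x % 8) = true) := by decide +kernel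

theorem reach_c : (allB.all fun x => x % 8 != 0 || x == 0 || x == 8 ||
    [16, 32].any fun s => commN s x == 8) = true := by decide +kernel

theorem mover_code : (allB.all fun y => !(inE 27 y && y.testBit 4) ||
    mulN (mulN (invN (y % 8)) y) (if y.testBit 3 then 8 else 0) == 16 && pU1 (y % 8)) = true := by
  decide +kernel

section

variable {G : Type u} [Group G] [Finite G] (c : Ctx G)

namespace Ctx

/-- The pattern with `b` in the class of `z` and `m`, `d` in that of `a` is impossible. -/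
theorem centU_false (hl : c.Pattern (1, 0, 0)) : False := by
  haveI := Fact.mk Nat.prime_two
  have e27 : (27 : ℕ) ∈ elem16 := by simp [elem16]
  have hw : IsConj (c.φ 9) (c.φ 2) := (hl 1 (by norm_num) 2 (by norm_num)).2 rfl
  obtain ⟨Qw, hQ2, hQn, hQz, hQc⟩ := c.exists_core hw
  let K : G → Prop := fun g => Commute g (c.φ 1) ∧ Commute g (c.φ 2)
  have hSK : ∀ s ∈ c.grp pS, K s := by
    intro s hs
    obtain ⟨x, hx, hxp, rfl⟩ := (c.mem_grp closed_pS).1 hs
    exact ⟨c.commute_of hx (by norm_num) (pS_facts.1 x hx hxp).1,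
      c.commute_of hx (by norm_num) (pS_facts.1 x hx hxp).2⟩
  have hr2 : K c.r2 := ⟨c.r2_fix 1 (by simp), c.r2_fix 2 (by simp)⟩
  -- normal two-subgroups lie in `U₁ × D₂`
  have hbound : ∀ P : Subgroup G, IsPGroup 2 P → (∀ p ∈ P, K p) → c.grp pS ≤ P →
      P ≤ c.grp pS := by
    intro P hP hPK hSP
    obtain ⟨h, hh1, hh⟩ := c.into_base hP fun p hp => (hPK p hp).1
    have h32 : Nat.card (c.grp pS) = 32 := by rw [c.card_grp closed_pS, card_pS]
    obtain ⟨k, hk⟩ := hP.exists_card_eq
    have hle : Nat.card P ≤ 64 := by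
      have h' := Subgroup.card_le_of_le (H := P.map (MulAut.conj h).toMonoidHom) (K := c.BB)
        (by rintro _ ⟨p, hp, rfl⟩; exact hh p hp)
      rwa [Subgroup.card_map_of_injective (MulAut.conj h).injective, c.card_grp closed_pB,
        card_pB] at h'
    refine (Subgroup.eq_of_le_of_card_ge hSP ?_).ge
    rw [h32]
    by_contra hgt
    have h64 : Nat.card P = 64 := by
      rw [hk] at hle hgt ⊢
      have : k ≤ 6 := by
        by_contra hk6
        have := Nat.pow_le_pow_right (show 2 > 0 by norm_num) (show 7 ≤ k by omega)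
        omega
      interval_cases k <;> omega
    have himg : P.map (MulAut.conj h).toMonoidHom = c.BB :=
      Subgroup.eq_of_le_of_card_ge (by rintro _ ⟨p, hp, rfl⟩; exact hh p hp)
        (by rw [Subgroup.card_map_of_injective (MulAut.conj h).injective, h64, c.card_grp closed_pB,
          card_pB])
    have h2P : c.φ 2 ∈ P := hSP ((c.mem_grp_code closed_pS (by norm_num)).2 rfl)
    obtain ⟨a, ha, ea⟩ := c.mem_BB.1 (hh _ h2P)
    have hcen : ∀ b < 64, commB a b = true := by
      intro b hb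
      have hb' : c.φ b ∈ P.map (MulAut.conj h).toMonoidHom := himg ▸ c.mem_BB.2 ⟨b, hb, rfl⟩
      obtain ⟨p, hp, ep⟩ := hb'
      refine (c.commute_iff (by omega) (by omega)).1 ?_
      rw [ea, ← ep]
      show h * c.φ 2 * h⁻¹ * (h * p * h⁻¹) = h * p * h⁻¹ * (h * c.φ 2 * h⁻¹)
      rw [show h * c.φ 2 * h⁻¹ * (h * p * h⁻¹) = h * (c.φ 2 * p) * h⁻¹ by group,
        ← (hPK p hp).2.eq]
      group
    have hla : labX (1, 0, 0) a = 1 := by
      rw [← c.lab_of_conj hl (show 2 < 64 by norm_num) ha ea]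
      decide +kernel
    have key : ∀ a < 64, labX (1, 0, 0) a = 1 →
        (allB.all fun b => commB a b) = true → a = 9 := by decide +kernel
    have ha9 : a = 9 := key a ha hla (by simpa [allB, List.all_eq_true] using hcen)
    have e3 : c.φ 8 = h * c.φ 3 * h⁻¹ := by
      rw [← pS_facts.2.2, c.hmul 1 (by norm_num) 2 (by norm_num),
        show h * (c.φ 1 * c.φ 2) * h⁻¹ = h * c.φ 1 * h⁻¹ * (h * c.φ 2 * h⁻¹) by group, hh1.eq,
        mul_inv_cancel_right, ← ea, ha9, ← c.hmul 1 (by norm_num) 9 (by norm_num)]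
      exact congrArg c.φ (by decide +kernel)
    have := c.lab_of_conj hl (show 3 < 64 by norm_num) (show 8 < 64 by norm_num) e3
    revert this
    decide +kernel
  set N := Qw ⊓ Subgroup.centralizer ({c.φ 1} : Set G) with hN
  have hNK : ∀ k, K k → ∀ n ∈ N, k * n * k⁻¹ ∈ N := by
    rintro k ⟨k1, k2⟩ n ⟨hn1, hn2⟩
    refine ⟨hQn k k2 n hn1, Subgroup.mem_centralizer_singleton_iff.2 ?_⟩
    have hn : Commute n (c.φ 1) := Subgroup.mem_centralizer_singleton_iff.1 hn2
    exact ((k1.mul_left hn).mul_left k1.inv_left).eq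
  have hU1 : c.grp pU1 ≤ c.grp pS := by
    intro g hg
    obtain ⟨x, hx, hxp, rfl⟩ := (c.mem_grp closed_pU1).1 hg
    refine (c.mem_grp_code closed_pS hx).2 ?_
    simp only [pU1, decide_eq_true_eq] at hxp
    simp only [pS, Bool.and_eq_true, decide_eq_true_eq]
    omega
  have hNS : N ≤ c.grp pS := by
    have h := hbound (N ⊔ c.grp pS) ?_ ?_ le_sup_right
    · exact le_sup_left.trans h
    · exact (hQ2.to_le inf_le_left).to_sup_of_normal_left' (c.T.isPGroup'.to_le c.grp_le_T)
        fun s hs => mem_normalizer_of_conj fun n hn => hNK s (hSK s hs) n hn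
    · intro p hp
      have hle : N ⊔ c.grp pS ≤ Subgroup.centralizer {c.φ 1} ⊓ Subgroup.centralizer {c.φ 2} := by
        refine sup_le (fun n hn => ⟨hn.2, ?_⟩) fun s hs =>
          ⟨Subgroup.mem_centralizer_singleton_iff.2 (hSK s hs).1.eq,
            Subgroup.mem_centralizer_singleton_iff.2 (hSK s hs).2.eq⟩
        exact Subgroup.mem_centralizer_singleton_iff.2 (hQz n hn.1).eq
      exact ⟨Subgroup.mem_centralizer_singleton_iff.1 (hle hp).1,
        Subgroup.mem_centralizer_singleton_iff.1 (hle hp).2⟩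
  -- the element of order three does not centralise `N`
  obtain ⟨x, hx, hxN, hx8⟩ : ∃ x < 64, c.φ x ∈ N ∧ x / 8 ≠ 0 := by
    by_contra hcon
    push Not at hcon
    have hfix : ∀ n ∈ N, Commute c.r2 n := by
      intro n hn
      obtain ⟨x, hx, hxp, rfl⟩ := (c.mem_grp closed_pS).1 (hNS hn)
      simp only [pS, Bool.and_eq_true, decide_eq_true_eq] at hxp
      have h0 := hcon x hxp.1 hn
      have h3 : Commute c.r2 (c.φ 3) := by
        rw [← pS_facts.2.2, c.hmul 1 (by norm_num) 2 (by norm_num)]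
        exact hr2.1.mul_right hr2.2
      have hx4 : x < 4 := by omega
      interval_cases x
      · rw [c.phi_zero]; exact Commute.one_right _
      · exact hr2.1
      · exact hr2.2
      · exact h3
    have h3 : c.r2 ^ 3 = 1 := by rw [pow_succ, pow_two, c.r2_pow]
    have ho : OddOrd c.r2 := Nat.Coprime.coprime_dvd_left (orderOf_dvd_of_pow_eq_one h3) (by norm_num)
    have h1sq : c.φ 1 * c.φ 1 = 1 := (c.sq_eq_one_iff (by norm_num)).2 (by decide +kernel)
    have hP : IsPGroup 2 (Subgroup.zpowers (c.φ 1)) :=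
      IsPGroup.of_card (n := 1) (by
        rw [Nat.card_zpowers, orderOf_eq_prime (by rw [pow_two, h1sq])
          (c.phi_ne_one (by norm_num) (by norm_num)), pow_one])
    have hn2 : ∀ g : G, Commute g (c.φ 2) → g ∈ Subgroup.normalizer (Qw : Set G) := fun g hg =>
      mem_normalizer_of_conj fun q hq => hQn g hg q hq
    have := Grp.thompson_PQ (Subgroup.zpowers (c.φ 1)) (Subgroup.zpowers c.r2) hP
      (by rw [Nat.card_zpowers]; exact ho)
      (Subgroup.zpowers_le.2 (Subgroup.mem_centralizer_iff.2 fun y hy => by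
        obtain ⟨n, rfl⟩ := hy
        exact ((show Commute c.r2 (c.φ 1) from hr2.1).zpow_left n).eq))
      Qw hQ2 (Subgroup.zpowers_le.2 (hn2 _ (c.commute_of (by norm_num) (by norm_num)
        (by decide +kernel)))) (Subgroup.zpowers_le.2 (hn2 _ hr2.2))
      (fun u hu => Subgroup.mem_centralizer_iff.2 fun y hy => by
        obtain ⟨n, rfl⟩ := hy
        refine ((hfix u ⟨hu.1, Subgroup.mem_centralizer_singleton_iff.2 ?_⟩).zpow_left n).eq
        exact (Subgroup.mem_centralizer_iff.1 hu.2 _ (Subgroup.mem_zpowers _)).symm)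
    refine c.r2_ne (odd_eq_one hQ2 (hQc _ hr2.2 fun q hq => ?_) ho)
    exact (Subgroup.mem_centralizer_iff.1 (this (Subgroup.mem_zpowers _)) q hq).symm
  set R := N ⊔ c.grp pU1 with hR
  have hRS : R ≤ c.grp pS := sup_le hNS hU1
  have hRK : ∀ k, K k → ∀ m ∈ R, k * m * k⁻¹ ∈ R := by
    intro k hk m hm
    have hle : R.map (MulAut.conj k).toMonoidHom ≤ R := by
      rw [hR, Subgroup.map_sup]
      refine sup_le_sup ?_ ?_
      · rintro _ ⟨n, hn, rfl⟩; exact hNK k hk n hn
      · rintro _ ⟨u, hu, rfl⟩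
        obtain ⟨y, hy, hyp, rfl⟩ := (c.mem_grp closed_pU1).1 hu
        show k * c.φ y * k⁻¹ ∈ c.grp pU1
        have hc : Commute k (c.φ y) := by
          simp only [pU1, decide_eq_true_eq] at hyp
          interval_cases y
          · rw [c.phi_zero]; exact Commute.one_right _
          · exact hk.1
          · exact hk.2
          · rw [← pS_facts.2.2, c.hmul 1 (by norm_num) 2 (by norm_num)]
            exact hk.1.mul_right hk.2
        rw [hc.eq, mul_inv_cancel_right]
        exact hu
    exact hle (Invol.conj_mem_map_conj hm)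
  -- `c₂` lies in `N U₁`
  have h8R : c.φ 8 ∈ R := by
    have hxS := (c.mem_grp_code closed_pS (show x < 128 by omega)).1 (hNS hxN)
    simp only [pS, Bool.and_eq_true, decide_eq_true_eq] at hxS
    obtain ⟨hsplit, hl4⟩ := split_right x hx
    have hr : c.φ (8 * (x / 8)) ∈ R := by
      have e : c.φ (8 * (x / 8)) = (c.φ (x % 8))⁻¹ * c.φ x := by
        rw [eq_inv_mul_iff_mul_eq, ← c.hmul _ (by omega) _ (by omega), hsplit]
      rw [e]
      exact mul_mem (inv_mem (Subgroup.mem_sup_right
        ((c.mem_grp_code closed_pU1 (by omega)).2 (hl4 hxS.2)))) (Subgroup.mem_sup_left hxN)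
    have h := reach_c
    simp only [List.all_eq_true, allB, List.mem_range, Bool.or_eq_true, bne_iff_ne, beq_iff_eq,
      List.any_eq_true] at h
    rcases h (8 * (x / 8)) (by omega) with ((h | h) | h) | ⟨s, hs, h⟩
    · omega
    · omega
    · rwa [h] at hr
    · have hs' : pS s = true ∧ s < 128 := by fin_cases hs <;> exact ⟨rfl, by norm_num⟩
      rw [← h, ← c.phi_comm hs'.2 (by omega), ← mul_assoc]
      exact mul_mem (hRK _ (hSK _ ((c.mem_grp_code closed_pS hs'.2).2 hs'.1)) _ hr) (inv_mem hr)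
  have h32R : c.φ 32 ∈ R := by
    have := hRK _ hr2 _ h8R
    rwa [c.r2_c, mul_inv_cancel_right] at this
  obtain ⟨h, -, hh1, ⟨y, hy27, ey, hybit⟩, hh2, -⟩ := c.exists_mover (by simp) hl
  have hy' := inE_lt hy27
  have hyR : c.φ y ∈ R := ey ▸ hRK h ⟨hh1, hh2 rfl⟩ _ h8R
  obtain ⟨e16, hyU⟩ : mulN (mulN (invN (y % 8)) y) (if y.testBit 3 then 8 else 0) = 16 ∧
      pU1 (y % 8) = true := by
    have := mover_code
    simp only [List.all_eq_true, allB, List.mem_range, Bool.or_eq_true, Bool.not_eq_true',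
      Bool.and_eq_true, beq_iff_eq] at this
    rcases this y hy' with h | h
    · simp [hy27, hybit] at h
    · exact h
  have hyS : c.φ (y % 8) ∈ R :=
    Subgroup.mem_sup_right ((c.mem_grp_code closed_pU1 (show y % 8 < 128 by omega)).2 hyU)
  have h16R : c.φ 16 ∈ R := by
    have hl8 : (if y.testBit 3 then 8 else 0) < 128 := by split_ifs <;> norm_num
    rw [← e16, c.hmul _ (mulN_lt _ (invN_lt _ (by omega)).1 _ (by omega)) _ hl8,
      c.hmul _ (invN_lt _ (by omega)).1 _ (by omega), c.phi_inv (by omega)]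
    refine mul_mem (mul_mem (inv_mem hyS) hyR) ?_
    split_ifs
    · exact h8R
    · rw [c.phi_zero]; exact one_mem _
  obtain ⟨n, hn, hnp, en⟩ := (c.mem_grp closed_pS).1 (hRS (hRK _ hr2 _ h16R))
  simp only [pS, Bool.and_eq_true, decide_eq_true_eq] at hnp
  refine pS_fix n hnp.1 (c.phi_inj (conjN_lt n hn 40 (by norm_num)).2 (by norm_num) ?_)
  rw [← c.phi_comm hn (by norm_num), en,
    show c.φ 40 = c.r2 * c.φ 32 * c.r2⁻¹ by rw [c.r2_v, mul_inv_cancel_right],
    show c.φ 32 = c.r2 * c.φ 8 * c.r2⁻¹ by rw [c.r2_c, mul_inv_cancel_right]]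
  nth_rewrite 3 [← pS_facts.2.1]
  rw [← c.phi_comm (show 16 < 128 by norm_num) (show 32 < 128 by norm_num),
    show c.φ 32 = c.r2 * c.φ 8 * c.r2⁻¹ by rw [c.r2_c, mul_inv_cancel_right]]
  group

end Ctx

end

end Cfsg.Agent.Fus.SFourWr
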