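import Cfsg.Agent.Lib.Invol.D8Recognition
import Cfsg.Agent.Lib.Invol.SimpleOrder360

/-!
Two facts about the simple groups of order `168` and `360` with one class of involutions of dihedral
centralisers of order eight.
-/

set_option autoImplicit false
set_option linter.unusedSectionVars false
set_option linter.style.haveILetI false

namespace Cfsg.Agent.Fus.SFourWr

universe u

theorem d8_central_sq : ∀ x : DihedralGroup 4, (∀ w, w * x = x * w) → x * x = 1 := by decide

variable {G : Type u} [Group G] [Finite G]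

theorem card_centralizer_involution {t : G}
    (e : Subgroup.centralizer ({t} : Set G) ≃* DihedralGroup 4)
    (hone : ∀ u : G, orderOf u = 2 → IsConj t u) {j : G} (hj : orderOf j = 2) :
    Nat.card (Subgroup.centralizer ({j} : Set G)) = 8 := by
  obtain ⟨g, rfl⟩ := _root_.isConj_iff.1 (hone j hj)
  have h8 : Nat.card (Subgroup.centralizer ({t} : Set G)) = 8 := by
    rw [Nat.card_congr e.toEquiv, DihedralGroup.nat_card]
  have hmap : (Subgroup.centralizer ({t} : Set G)).map (MulAut.conj g).toMonoidHom =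
      Subgroup.centralizer ({g * t * g⁻¹} : Set G) := by
    ext x
    rw [Subgroup.mem_map_equiv, Subgroup.mem_centralizer_singleton_iff,
      Subgroup.mem_centralizer_singleton_iff, MulAut.conj_symm_apply]
    constructor
    · intro h
      calc x * (g * t * g⁻¹) = g * (g⁻¹ * x * g * t) * g⁻¹ := by group
        _ = g * t * g⁻¹ * x := by rw [h]; group
    · intro h
      calc g⁻¹ * x * g * t = g⁻¹ * (x * (g * t * g⁻¹)) * g := by group
        _ = t * (g⁻¹ * x * g) := by rw [h]; group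
  rw [← hmap, Subgroup.card_map_of_injective (MulAut.conj g).injective, h8]

/-- An involutory automorphism fixing a subgroup of order divisible by `24` of a simple group of
order `168` is trivial. -/
theorem involutory_trivial [IsSimpleGroup G] (h : Nat.card G = 168) (hnc : ¬ IsMulCommutative G)
    {t : G} (e : Subgroup.centralizer ({t} : Set G) ≃* DihedralGroup 4)
    (hone : ∀ u : G, orderOf u = 2 → IsConj t u) (σ : G →* G) (hσ : ∀ x, σ (σ x) = x)
    (hfix : ∃ F : Subgroup G, (∀ x ∈ F, σ x = x) ∧ 24 ∣ Nat.card F) : ∀ x, σ x = x := by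
  classical
  by_contra hcon
  let F : Subgroup G :=
    { carrier := {x | σ x = x}
      one_mem' := map_one σ
      mul_mem' := fun {a b} (ha : σ a = a) (hb : σ b = b) => by
        show σ (a * b) = a * b
        rw [map_mul, ha, hb]
      inv_mem' := fun {a} (ha : σ a = a) => by
        show σ a⁻¹ = a⁻¹
        rw [map_inv, ha] }
  have hF : F ≠ ⊤ := fun e' => hcon fun x =>
    show x ∈ F from e'.symm ▸ Subgroup.mem_top x
  obtain ⟨F', hF', h24'⟩ := hfix
  have h24 : 24 ∣ Nat.card F := h24'.trans (Subgroup.card_dvd_of_le fun x hx => hF' x hx)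
  have hF24 : Nat.card F = 24 := by
    have hi := F.card_mul_index
    rw [h] at hi
    obtain ⟨m, hm⟩ := h24
    rw [hm] at hi ⊢
    have hm7 : m * F.index = 7 := by rw [mul_assoc] at hi; omega
    rcases (Nat.prime_def.1 (show Nat.Prime 7 by norm_num)).2 m ⟨_, hm7.symm⟩ with rfl | rfl
    · rfl
    · exact absurd (Subgroup.index_eq_one.1 (by omega)) hF
  let ρ : G → G := fun e => σ e * e⁻¹
  have hsq : ∀ e, ρ e * ρ e = 1 := by
    intro a
    let J : Subgroup G := F ⊓ F.map (MulAut.conj a).toMonoidHom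
    have hJ4 : 4 ≤ Nat.card J := by
      let f : F × F → G := fun p => p.1 * (a * p.2 * a⁻¹)
      have hfib : ∀ p q : F × F, f p = f q → (q.1 : G)⁻¹ * p.1 ∈ J := by
        rintro ⟨⟨p1, hp1⟩, ⟨p2, hp2⟩⟩ ⟨⟨q1, hq1⟩, ⟨q2, hq2⟩⟩ he
        refine ⟨F.mul_mem (F.inv_mem hq1) hp1, ?_⟩
        refine ⟨q2 * p2⁻¹, F.mul_mem hq2 (F.inv_mem hp2), ?_⟩
        have he' : p1 * (a * p2 * a⁻¹) = q1 * (a * q2 * a⁻¹) := he
        show a * (q2 * p2⁻¹) * a⁻¹ = q1⁻¹ * p1
        calc a * (q2 * p2⁻¹) * a⁻¹ = q1⁻¹ * (q1 * (a * q2 * a⁻¹)) * (a * p2⁻¹ * a⁻¹) := by group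
          _ = q1⁻¹ * p1 := by rw [← he']; group
      by_contra hlt
      have hinj : Function.Injective fun p : F × F =>
          (f p, (Function.invFun f (f p)).1.1⁻¹ * (p.1 : G)) := by
        intro p q hpq
        simp only [Prod.mk.injEq] at hpq
        obtain ⟨h1, h2⟩ := hpq
        rw [h1, mul_right_inj] at h2
        have h2' : p.1 = q.1 := Subtype.ext h2
        refine Prod.ext h2' (Subtype.ext ?_)
        have h1' : (p.1 : G) * (a * p.2 * a⁻¹) = q.1 * (a * q.2 * a⁻¹) := h1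
        rw [h2', mul_right_inj, mul_left_inj, mul_right_inj] at h1'
        exact h1'
      have hmem : ∀ p : F × F, (Function.invFun f (f p)).1.1⁻¹ * (p.1 : G) ∈ J := fun p =>
        hfib _ _ (Function.invFun_eq ⟨p, rfl⟩).symm
      let g : F × F → G × J := fun p => (f p, ⟨_, hmem p⟩)
      have hg : Function.Injective g := fun p q hpq => by
        refine hinj ?_
        simp only [g, Prod.mk.injEq, Subtype.mk.injEq] at hpq
        simp only [hpq.1, Prod.mk.injEq, true_and]
        rw [hpq.1] at hpq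
        exact hpq.2
      have := Nat.card_le_card_of_injective g hg
      rw [Nat.card_prod, Nat.card_prod, hF24, h] at this
      omega
    have hJdvd : Nat.card J ∣ 24 := hF24 ▸ Subgroup.card_dvd_of_le inf_le_left
    have hJev : 2 ∣ Nat.card J := by
      have key : ∀ d ≤ 24, d ∣ 24 → 4 ≤ d → 2 ∣ d := by decide
      exact key _ (Nat.le_of_dvd (by norm_num) hJdvd) hJdvd hJ4
    haveI := Fact.mk Nat.prime_two
    obtain ⟨⟨j, hj⟩, hjo⟩ := exists_prime_orderOf_dvd_card' (G := J) 2 hJev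
    rw [Subgroup.orderOf_mk] at hjo
    have hcomm : ∀ x ∈ J, Commute (ρ a) x := by
      rintro x ⟨hx, y, hy, rfl⟩
      have h1 : σ (a * y * a⁻¹) = a * y * a⁻¹ := hx
      rw [map_mul, map_mul, map_inv, show σ y = y from hy] at h1
      show ρ a * (a * y * a⁻¹) = a * y * a⁻¹ * ρ a
      calc σ a * a⁻¹ * (a * y * a⁻¹) = σ a * y * (σ a)⁻¹ * (σ a * a⁻¹) := by group
        _ = a * y * a⁻¹ * (σ a * a⁻¹) := by rw [h1]
    have hinv : σ (ρ a) = (ρ a)⁻¹ := by
      show σ (σ a * a⁻¹) = (σ a * a⁻¹)⁻¹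
      rw [map_mul, map_inv, hσ]; group
    by_contra hne
    have h8 := card_centralizer_involution e hone hjo
    have hρC : ρ a ∈ Subgroup.centralizer ({j} : Set G) :=
      Subgroup.mem_centralizer_singleton_iff.2 (hcomm j hj).eq
    obtain ⟨g, hg⟩ := _root_.isConj_iff.1 (hone j hjo)
    have hord : orderOf (ρ a) ∣ 8 := h8 ▸ Subgroup.orderOf_dvd_natCard _ hρC
    have hρ4 : orderOf (ρ a) = 4 := by
      have key : ∀ d ≤ 8, d ∣ 8 → d = 1 ∨ d = 2 ∨ d = 4 ∨ d = 8 := by decide
      rcases key _ (Nat.le_of_dvd (by norm_num) hord) hord with e' | e' | e' | e'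
      · exact absurd (by rw [orderOf_eq_one_iff.1 e', one_mul]) hne
      · exact absurd (by rw [← pow_two, ← e', pow_orderOf_eq_one]) hne
      · exact e'
      · exfalso
        have h1 : g⁻¹ * ρ a * g ∈ Subgroup.centralizer ({t} : Set G) := by
          rw [Subgroup.mem_centralizer_singleton_iff]
          have hc := (hcomm j hj).eq
          rw [← hg] at hc
          calc g⁻¹ * ρ a * g * t = g⁻¹ * (ρ a * (g * t * g⁻¹)) * g := by group
            _ = t * (g⁻¹ * ρ a * g) := by rw [hc]; group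
        have h2 := e.orderOf_eq ⟨_, h1⟩
        have h3 : orderOf (g⁻¹ * ρ a * g) = 8 := by
          rw [show g⁻¹ * ρ a * g = MulAut.conj g⁻¹ (ρ a) by rw [MulAut.conj_apply, inv_inv],
            MulEquiv.orderOf_eq, e']
        rw [Subgroup.orderOf_mk, h3] at h2
        have key : ∀ x : DihedralGroup 4, x ^ 4 = 1 := by decide
        have := orderOf_dvd_of_pow_eq_one (key (e ⟨g⁻¹ * ρ a * g, h1⟩))
        rw [h2] at this
        norm_num at this
    have hi2 : orderOf (ρ a ^ 2) = 2 := by rw [orderOf_pow, hρ4]; rfl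
    have h8' := card_centralizer_involution e hone hi2
    obtain ⟨g', hg'⟩ := _root_.isConj_iff.1 (hone _ hi2)
    have hCle : Subgroup.centralizer ({ρ a} : Set G) ≤ Subgroup.centralizer ({ρ a ^ 2} : Set G) := by
      intro x hx
      rw [Subgroup.mem_centralizer_singleton_iff] at hx ⊢
      exact ((show Commute x (ρ a) from hx).pow_right 2).eq
    have hC4 : Nat.card (Subgroup.centralizer ({ρ a} : Set G)) = 4 := by
      have h4 : 4 ∣ Nat.card (Subgroup.centralizer ({ρ a} : Set G)) :=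
        hρ4 ▸ Subgroup.orderOf_dvd_natCard _ (Subgroup.mem_centralizer_singleton_iff.2 rfl)
      have hd := h8' ▸ Subgroup.card_dvd_of_le hCle
      have key : ∀ d ≤ 8, d ∣ 8 → 4 ∣ d → d = 4 ∨ d = 8 := by decide
      rcases key _ (Nat.le_of_dvd (by norm_num) hd) hd h4 with e' | e'
      · exact e'
      · exfalso
        have heq := Subgroup.eq_of_le_of_card_ge hCle (by rw [e', h8'])
        have hmem : g'⁻¹ * ρ a * g' ∈ Subgroup.centralizer ({t} : Set G) := by
          rw [Subgroup.mem_centralizer_singleton_iff]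
          calc g'⁻¹ * ρ a * g' * t = g'⁻¹ * (ρ a * (g' * t * g'⁻¹)) * g' := by group
            _ = g'⁻¹ * (g' * t * g'⁻¹ * ρ a) * g' := by
              rw [hg']; rw [((Commute.refl (ρ a)).pow_right 2).eq]
            _ = t * (g'⁻¹ * ρ a * g') := by group
        have hc := d8_central_sq (e ⟨_, hmem⟩) fun w => by
          obtain ⟨⟨x, hx⟩, rfl⟩ := e.surjective w
          rw [← map_mul, ← map_mul]
          congr 1
          apply Subtype.ext
          show x * (g'⁻¹ * ρ a * g') = g'⁻¹ * ρ a * g' * x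
          rw [Subgroup.mem_centralizer_singleton_iff] at hx
          have hx' : g' * x * g'⁻¹ ∈ Subgroup.centralizer ({ρ a ^ 2} : Set G) := by
            rw [Subgroup.mem_centralizer_singleton_iff, ← hg',
              show g' * x * g'⁻¹ * (g' * t * g'⁻¹) = g' * (x * t) * g'⁻¹ by group, hx]
            group
          rw [← heq, Subgroup.mem_centralizer_singleton_iff] at hx'
          calc x * (g'⁻¹ * ρ a * g') = g'⁻¹ * (g' * x * g'⁻¹ * ρ a) * g' := by group
            _ = g'⁻¹ * ρ a * g' * x := by rw [hx']; group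
        rw [← map_mul, ← map_one e, e.injective.eq_iff, Subtype.ext_iff] at hc
        have hc' : g'⁻¹ * ρ a * g' * (g'⁻¹ * ρ a * g') = 1 := hc
        refine hne ?_
        calc ρ a * ρ a = g' * (g'⁻¹ * ρ a * g' * (g'⁻¹ * ρ a * g')) * g'⁻¹ := by group
          _ = 1 := by rw [hc']; group
    have hJC : J ≤ Subgroup.centralizer ({ρ a} : Set G) := fun x hx =>
      Subgroup.mem_centralizer_singleton_iff.2 (hcomm x hx).symm.eq
    have hJe := Subgroup.eq_of_le_of_card_ge hJC (by rw [hC4]; exact hJ4)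
    have hρF : σ (ρ a) = ρ a := (hJe ▸ Subgroup.mem_centralizer_singleton_iff.2 rfl : ρ a ∈ J).1
    rw [hρF, eq_comm, inv_eq_iff_mul_eq_one] at hinv
    exact hne hinv
  have hid : ∀ x b, x * ρ b * x⁻¹ = (ρ x)⁻¹ * ρ (x * b) := by
    intro x b
    show x * (σ b * b⁻¹) * x⁻¹ = (σ x * x⁻¹)⁻¹ * (σ (x * b) * (x * b)⁻¹)
    rw [map_mul]; group
  have hρinv : ∀ x, (ρ x)⁻¹ = ρ x := fun x => inv_eq_of_mul_eq_one_right (hsq x)
  have hcom : ∀ x y, ρ x * ρ y = ρ y * ρ x := by
    intro x y
    have hxy : (ρ x)⁻¹ * ρ y = x * ρ (x⁻¹ * y) * x⁻¹ := by rw [hid, mul_inv_cancel_left]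
    have h2 : ((ρ x)⁻¹ * ρ y) * ((ρ x)⁻¹ * ρ y) = 1 := by
      rw [hxy, show ∀ b : G, x * b * x⁻¹ * (x * b * x⁻¹) = x * (b * b) * x⁻¹ from fun b => by group,
        hsq]
      group
    rw [hρinv] at h2
    have h3 := inv_eq_of_mul_eq_one_right h2
    rw [mul_inv_rev, hρinv, hρinv] at h3
    exact h3.symm
  let N : Subgroup G := Subgroup.closure (Set.range ρ)
  have hNn : N.Normal := ⟨fun n hn x => by
    induction hn using Subgroup.closure_induction with
    | mem m hm =>
      obtain ⟨b, rfl⟩ := hm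
      rw [hid]
      exact mul_mem (inv_mem (Subgroup.subset_closure ⟨x, rfl⟩)) (Subgroup.subset_closure ⟨_, rfl⟩)
    | one => rw [mul_one, mul_inv_cancel]; exact one_mem _
    | mul a b _ _ ha hb =>
      rw [show x * (a * b) * x⁻¹ = x * a * x⁻¹ * (x * b * x⁻¹) by group]
      exact mul_mem ha hb
    | inv a _ ha =>
      rw [show x * a⁻¹ * x⁻¹ = (x * a * x⁻¹)⁻¹ by group]
      exact inv_mem ha⟩
  haveI hcomN : IsMulCommutative N :=
    Subgroup.isMulCommutative_closure (by rintro _ ⟨x, rfl⟩ _ ⟨y, rfl⟩; exact hcom x y)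
  rcases IsSimpleGroup.eq_bot_or_eq_top_of_normal N hNn with e' | e'
  · refine hcon fun x => ?_
    have : ρ x ∈ N := Subgroup.subset_closure ⟨x, rfl⟩
    rw [e', Subgroup.mem_bot] at this
    exact mul_inv_eq_one.1 this
  · refine hnc ⟨⟨fun x y => ?_⟩⟩
    have hx : x ∈ N := e'.symm ▸ Subgroup.mem_top x
    have hy : y ∈ N := e'.symm ▸ Subgroup.mem_top y
    exact congrArg Subtype.val (hcomN.is_comm.comm (⟨x, hx⟩ : N) ⟨y, hy⟩)

/-- In a simple group of order `360` an element of order four acts fixed-point-freely on a Sylow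
`3`-subgroup, and the normaliser is generated by it modulo the subgroup. -/
theorem three_normal [IsSimpleGroup G] (h : Nat.card G = 360) [Fact (Nat.Prime 3)] (P : Sylow 3 G)
    {t : G} (e : Subgroup.centralizer ({t} : Set G) ≃* DihedralGroup 4)
    (hone : ∀ u : G, orderOf u = 2 → IsConj t u) :
    ∃ j ∈ Subgroup.normalizer ((P : Subgroup G) : Set G), j * j ∉ (P : Subgroup G) ∧
      (∀ p ∈ (P : Subgroup G), p ^ 3 = 1) ∧
      (∀ p ∈ (P : Subgroup G), p ≠ 1 → j * p * j⁻¹ ∉ Subgroup.zpowers p) ∧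
      (∀ p ∈ (P : Subgroup G), p ≠ 1 → ¬ Commute (j * j) p) ∧
      ∀ x ∈ Subgroup.normalizer ((P : Subgroup G) : Set G), x * x ∉ (P : Subgroup G) →
        ∃ q ∈ (P : Subgroup G), x = j * q ∨ x = j⁻¹ * q := by
  classical
  haveI := Fact.mk Nat.prime_two
  have h9 := Invol.O360.sylow_three_card h P
  obtain ⟨-, h36⟩ := Invol.O360.sylow_three h P
  set N := Subgroup.normalizer ((P : Subgroup G) : Set G) with hN
  -- a 3-element commuting with an involution is trivial
  have hfree : ∀ i p : G, orderOf i = 2 → p ∈ (P : Subgroup G) → Commute p i → p = 1 := by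
    intro i p hi hp hc
    have h8 := card_centralizer_involution e hone hi
    have h1 : orderOf p ∣ 8 :=
      h8 ▸ Subgroup.orderOf_dvd_natCard _ (Subgroup.mem_centralizer_singleton_iff.2 hc.eq)
    have h2 : orderOf p ∣ 9 := h9 ▸ Subgroup.orderOf_dvd_natCard _ hp
    exact orderOf_eq_one_iff.1 (Nat.eq_one_of_dvd_coprimes (by norm_num) h1 h2)
  haveI hab : IsMulCommutative (P : Subgroup G) :=
    ⟨⟨IsPGroup.commutative_of_card_eq_prime_sq (p := 3) (by rw [h9]; norm_num)⟩⟩
  have habel : ∀ p ∈ (P : Subgroup G), ∀ q ∈ (P : Subgroup G), Commute p q := fun p hp q hq =>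
    congrArg Subtype.val (hab.is_comm.comm (⟨p, hp⟩ : (P : Subgroup G)) ⟨q, hq⟩)
  -- involutions of the normaliser invert
  have hinvert : ∀ i ∈ N, orderOf i = 2 → ∀ p ∈ (P : Subgroup G), i * p * i⁻¹ = p⁻¹ := by
    intro i hi hio p hp
    have hi2 : i * i = 1 := by rw [← pow_two, ← hio, pow_orderOf_eq_one]
    have hip := (Subgroup.mem_normalizer_iff.1 hi p).1 hp
    have hfixed : Commute (i * p * i⁻¹ * p) i := by
      have hc := habel _ hip _ hp
      have e1 : i * (i * p * i⁻¹ * p) * i⁻¹ = p * (i * p * i⁻¹) := by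
        rw [show i * (i * p * i⁻¹ * p) * i⁻¹ = (i * i) * p * (i * i)⁻¹ * (i * p * i⁻¹) by group, hi2]
        group
      rw [← hc.eq] at e1
      exact (mul_inv_eq_iff_eq_mul.1 e1).symm
    exact eq_inv_of_mul_eq_one_left (hfree i _ hio (mul_mem hip hp) hfixed)
  obtain ⟨S⟩ : Nonempty (Sylow 2 N) := inferInstance
  have hS4 : Nat.card (S : Subgroup N) = 4 := by
    rw [Sylow.card_eq_multiplicity, h36, show (36 : ℕ) = 2 ^ 2 * 9 by norm_num,
      Nat.factorization_mul (by norm_num) (by norm_num), Finsupp.add_apply,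
      Nat.Prime.factorization_pow (by norm_num),
      Nat.factorization_eq_zero_of_not_dvd (by norm_num : ¬ 2 ∣ 9)]
    simp
  -- an element of order four
  obtain ⟨j, hjS, hj2⟩ : ∃ j ∈ (S : Subgroup N), j * j ≠ 1 := by
    by_contra hcon
    push Not at hcon
    obtain ⟨⟨i, hiS⟩, hi⟩ := exists_prime_orderOf_dvd_card' (G := (S : Subgroup N)) 2 (hS4 ▸ by norm_num)
    rw [Subgroup.orderOf_mk] at hi
    obtain ⟨i', hi'S, hi'1, hi'i⟩ : ∃ i' ∈ (S : Subgroup N), i' ≠ 1 ∧ i' ≠ i := by
      by_contra hc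
      push Not at hc
      have hle : (S : Subgroup N) ≤ Subgroup.zpowers i := fun x hx => by
        by_cases hx1 : x = 1
        · exact hx1 ▸ one_mem _
        · exact hc x hx hx1 ▸ Subgroup.mem_zpowers i
      have := Subgroup.card_le_of_le hle
      rw [hS4, Nat.card_zpowers, hi] at this
      omega
    have hi' : orderOf i' = 2 := orderOf_eq_prime (by rw [pow_two]; exact hcon i' hi'S) hi'1
    have hio : orderOf (i : G) = 2 := by rw [Subgroup.orderOf_coe]; exact hi
    have hi'o : orderOf (i' : G) = 2 := by rw [Subgroup.orderOf_coe]; exact hi'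
    have hqo : orderOf ((i * i' : N) : G) = 2 := by
      rw [Subgroup.orderOf_coe]
      refine orderOf_eq_prime (by rw [pow_two]; exact hcon _ (mul_mem hiS hi'S)) fun e' => hi'i ?_
      have : i⁻¹ = i' := inv_eq_of_mul_eq_one_right e'
      rw [← this]
      exact inv_eq_of_mul_eq_one_right (hcon i hiS)
    obtain ⟨⟨p, hp⟩, hpo⟩ := exists_prime_orderOf_dvd_card' (G := (P : Subgroup G)) 3 (by rw [h9]; norm_num)
    rw [Subgroup.orderOf_mk] at hpo
    have hp1 : p = 1 := by
      refine hfree _ p hqo hp ?_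
      have e1 := hinvert _ i'.2 hi'o p hp
      have e2 := hinvert _ i.2 hio p⁻¹ (inv_mem hp)
      rw [inv_inv] at e2
      have : ((i * i' : N) : G) * p * ((i * i' : N) : G)⁻¹ = p := by
        rw [Subgroup.coe_mul, show (i : G) * i' * p * ((i : G) * i')⁻¹ =
          (i : G) * ((i' : G) * p * (i' : G)⁻¹) * (i : G)⁻¹ by group, e1, e2]
      exact (mul_inv_eq_iff_eq_mul.1 this).symm
    rw [hp1, orderOf_one] at hpo
    omega
  have hjo : orderOf j = 4 := by
    have hd : orderOf j ∣ 4 := hS4 ▸ Subgroup.orderOf_dvd_natCard _ hjS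
    have key : ∀ d ≤ 4, d ∣ 4 → d = 1 ∨ d = 2 ∨ d = 4 := by decide
    rcases key _ (Nat.le_of_dvd (by norm_num) hd) hd with e' | e' | e'
    · exact absurd (by rw [orderOf_eq_one_iff.1 e', one_mul]) hj2
    · exact absurd (by rw [← pow_two, ← e', pow_orderOf_eq_one]) hj2
    · exact e'
  have hSeq : (S : Subgroup N) = Subgroup.zpowers j :=
    (Subgroup.eq_of_le_of_card_ge (Subgroup.zpowers_le.2 hjS)
      (by rw [hS4, Nat.card_zpowers, hjo])).symm
  set i := ((j * j : N) : G) with hi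
  have hio : orderOf i = 2 := by
    rw [hi, Subgroup.orderOf_coe, ← pow_two, orderOf_pow, hjo]; rfl
  have hpfree : ∀ p ∈ (P : Subgroup G), orderOf p = 3 → (j : G) * p * (j : G)⁻¹ ∉ Subgroup.zpowers p := by
    intro p hp hpo hmem
    obtain ⟨n, hn, en⟩ : ∃ n < 3, p ^ n = (j : G) * p * (j : G)⁻¹ := by
      simpa [hpo] using mem_zpowers_iff_mem_range_orderOf.1 hmem
    have hp1 : p ≠ 1 := fun e' => by rw [e', orderOf_one] at hpo; omega
    have hne : i * p * i⁻¹ ≠ p := fun e' => hp1 (hfree i p hio hp (mul_inv_eq_iff_eq_mul.1 e').symm)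
    refine hne ?_
    rw [hi, Subgroup.coe_mul, show (j : G) * j * p * ((j : G) * j)⁻¹ =
      (j : G) * ((j : G) * p * (j : G)⁻¹) * (j : G)⁻¹ by group, ← en, ← conj_pow, ← en, ← pow_mul]
    have hp3 : p ^ 3 = 1 := hpo ▸ pow_orderOf_eq_one p
    interval_cases n
    · rw [pow_zero, eq_comm, conj_eq_one_iff] at en; exact absurd en hp1
    · rw [mul_one, pow_one]
    · rw [show 2 * 2 = 3 + 1 by norm_num, pow_succ, hp3, one_mul]
  have hexp : ∀ p ∈ (P : Subgroup G), p ^ 3 = 1 := by
    intro p hp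
    by_contra h3
    have hpo : orderOf p = 9 := by
      have hd : orderOf p ∣ 9 := h9 ▸ Subgroup.orderOf_dvd_natCard _ hp
      have key : ∀ d ≤ 9, d ∣ 9 → d ∣ 3 ∨ d = 9 := by decide
      rcases key _ (Nat.le_of_dvd (by norm_num) hd) hd with e' | e'
      · exact absurd (orderOf_dvd_iff_pow_eq_one.1 e') h3
      · exact e'
    have hP' : (P : Subgroup G) = Subgroup.zpowers p :=
      (Subgroup.eq_of_le_of_card_ge (Subgroup.zpowers_le.2 hp) (by rw [h9, Nat.card_zpowers, hpo])).symm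
    have hq : orderOf (p ^ 3) = 3 := by rw [orderOf_pow, hpo]; rfl
    refine hpfree _ (pow_mem hp 3) hq ?_
    rw [← conj_pow]
    have hm := (Subgroup.mem_normalizer_iff.1 j.2 p).1 hp
    rw [hP'] at hm
    obtain ⟨k, hk⟩ := hm
    rw [← hk]
    exact ⟨k, by show (p ^ 3) ^ k = (p ^ k) ^ 3; rw [← zpow_natCast, ← zpow_mul, ← zpow_natCast, ← zpow_mul, mul_comm]⟩
  refine ⟨j, j.2, fun hjj => ?_, hexp, fun p hp hp1 => hpfree p hp
    (orderOf_eq_prime (hexp p hp) hp1), fun p hp hp1 hc => hp1 (hfree i p hio hp hc.symm), fun x hx hxx => ?_⟩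
  · have h1 : orderOf i ∣ 9 := h9 ▸ Subgroup.orderOf_dvd_natCard _ hjj
    rw [hio] at h1
    norm_num at h1
  -- the normaliser is the product of `S` and `P`
  let f : ↥(S : Subgroup N) × ↥(P : Subgroup G) → N := fun q =>
    (q.1 : N) * ⟨q.2, Subgroup.le_normalizer q.2.2⟩
  have hf : Function.Bijective f := by
    refine (Nat.bijective_iff_injective_and_card f).2 ⟨fun a b hab' => ?_, by rw [Nat.card_prod, hS4, h9, h36]⟩
    have e1 : ((a.1 : N) : G) * a.2 = ((b.1 : N) : G) * b.2 := congrArg Subtype.val hab'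
    have e2 : (((b.1⁻¹ * a.1 : (S : Subgroup N)) : N) : G) = (b.2 : G) * (a.2 : G)⁻¹ := by
      simp only [Subgroup.coe_mul, Subgroup.coe_inv]
      rw [inv_mul_eq_iff_eq_mul, ← mul_assoc, ← e1, mul_inv_cancel_right]
    have hd4 : orderOf (((b.1⁻¹ * a.1 : (S : Subgroup N)) : N) : G) ∣ 4 := by
      rw [Subgroup.orderOf_coe, Subgroup.orderOf_coe]; exact hS4 ▸ orderOf_dvd_natCard _
    have hd9 : orderOf (((b.1⁻¹ * a.1 : (S : Subgroup N)) : N) : G) ∣ 9 := by
      rw [e2]; exact h9 ▸ Subgroup.orderOf_dvd_natCard _ (mul_mem b.2.2 (inv_mem a.2.2))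
    have h1 := orderOf_eq_one_iff.1 (Nat.eq_one_of_dvd_coprimes (by norm_num) hd4 hd9)
    have ha : a.1 = b.1 := by
      apply Subtype.ext; apply Subtype.ext
      have := h1
      simp only [Subgroup.coe_mul, Subgroup.coe_inv] at this
      exact (inv_mul_eq_one.1 this).symm
    refine Prod.ext ha (Subtype.ext ?_)
    rw [ha] at e1
    exact mul_left_cancel e1
  obtain ⟨⟨⟨s, hs⟩, q⟩, hfx⟩ := hf.2 ⟨x, hx⟩
  have hx' : (s : G) * q = x := congrArg Subtype.val hfx
  rw [hSeq] at hs
  obtain ⟨n, hn, en⟩ : ∃ n < 4, j ^ n = s := by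
    simpa [hjo] using mem_zpowers_iff_mem_range_orderOf.1 hs
  refine ⟨q, q.2, ?_⟩
  have hj4 : j ^ 4 = 1 := hjo ▸ pow_orderOf_eq_one j
  have hsq : ∀ k : G, k * k = 1 → k ∈ N → k * q * (k * q) ∈ (P : Subgroup G) := fun k hk hkN => by
    have hk' : k⁻¹ = k := inv_eq_of_mul_eq_one_right hk
    have := (Subgroup.mem_normalizer_iff.1 hkN q).1 q.2
    rw [hk'] at this
    rw [show k * q * (k * q) = k * q * k * q by group]
    exact mul_mem this q.2
  interval_cases n
  · exfalso
    refine hxx ?_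
    rw [← hx', ← en, pow_zero, OneMemClass.coe_one, one_mul]
    exact mul_mem q.2 q.2
  · rw [pow_one] at en; exact Or.inl (by rw [← hx', ← en])
  · exfalso
    refine hxx ?_
    rw [← hx', ← en, pow_two]
    refine hsq _ ?_ (j * j).2
    show i * i = 1
    rw [← pow_two, ← hio, pow_orderOf_eq_one]
  · refine Or.inr ?_
    have : j ^ 3 = j⁻¹ := eq_inv_of_mul_eq_one_left (by rw [← pow_succ, hj4])
    rw [← hx', ← en, this, Subgroup.coe_inv]

end Cfsg.Agent.Fus.SFourWr
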