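import Cfsg.Agent.Lib.Fus.SFourWreath.TwoCase
import Cfsg.Agent.Lib.Fus.SFourWreath.Five
import Cfsg.Agent.Lib.Fus.SFourWreath.SmallSimple

/-!
The pattern in which `m` is fused with `z`: the centraliser `K` of `V₁` has `K / V₁` simple of order
`168` or `360`, and both are impossible.
-/

set_option autoImplicit false
set_option linter.unusedSectionVars false
set_option linter.style.haveILetI false

namespace Cfsg.Agent.Fus.SFourWr

universe u

/-- The codes of `V₁`. -/
def pV (x : ℕ) : Bool := [0, 1, 4, 5].contains x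

/-- The codes of `V₁ × D₂`. -/
def pS2 (x : ℕ) : Bool := x < 64 && [0, 1, 4, 5].contains (x % 8)

theorem closed_pV : ClosedP pV := by
  refine ⟨rfl, ?_⟩
  decide +kernel

theorem closed_pS2 : ClosedP pS2 := by
  refine ⟨rfl, ?_⟩
  decide +kernel

theorem card_pS2 : (allT.filter pS2).length = 32 := by decide +kernel

theorem card_pV : (allT.filter pV).length = 4 := by decide +kernel

theorem pS2_comm : ∀ x < 128, pS2 x = true → commB x 1 = true ∧ commB x 4 = true := by decide +kernel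

theorem pV_le_pS2 : ∀ x < 128, pV x = true → pS2 x = true := by decide +kernel

theorem v_fix : (allB.all fun u => !(inE 27 u && isInv (mulN u 4) &&
    labX (0, 1, 0) (mulN u 4) == 0) || mulN u 4 == 4 || mulN u 4 == 5) = true := by
  decide +kernel

theorem pS2_word : ∀ x < 64, pS2 x = true → pV (x % 8) = true ∧
    x = mulN (x % 8) (mulN (mulN (Nat.land x 16) (Nat.land x 32)) (Nat.land x 8)) ∧
    mulN 48 48 = 8 ∧ mulN 16 32 = 48 ∧ mulN 1 9 = 8 := by
  decide +kernel

theorem bound_key : ∀ a < 64, labX (0, 1, 0) a = 0 →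
    (allB.all fun b => commB a b) = true → a = 1 ∨ a = 8 := by
  decide +kernel

theorem c2_coset : ∀ v ∈ [1, 4, 5], labX (0, 1, 0) (mulN v 8) = 1 := by decide +kernel

theorem image_u2 : (allB.all fun y => !(inE 27 y && y.testBit 4 && commB y 4) ||
    pV (y % 8) && mulN (mulN (invN (y % 8)) y) (if y.testBit 3 then 8 else 0) == 16) = true := by
  decide +kernel

theorem final_lab : (allB.all fun y => !(inE 27 y && y.testBit 4 && commB y 4) ||
    ([0, 1].all fun v => labX (0, 1, 0) (mulN (mulN v 2) y) == 0)) = true ∧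
    (∀ v ∈ [4, 5], inE 27 (mulN v 2) = false) ∧ labX (0, 1, 0) (mulN 2 8) = 1 ∧
    inE 27 (mulN 2 8) = true := by
  decide +kernel

section

variable {G : Type u} [Group G] [Finite G] (c : Ctx G)

namespace Ctx

/-- The centraliser of `V₁`. -/
def KV : Subgroup G := Subgroup.centralizer ({c.φ 1} : Set G) ⊓ Subgroup.centralizer ({c.φ 4} : Set G)

theorem mem_KV {g : G} : g ∈ c.KV ↔ Commute g (c.φ 1) ∧ Commute g (c.φ 4) := by
  rw [KV, Subgroup.mem_inf, Subgroup.mem_centralizer_singleton_iff,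
    Subgroup.mem_centralizer_singleton_iff]
  rfl

/-- The subgroup `V₁`. -/
abbrev VV : Subgroup G := c.grp pV

theorem commute_VV {g : G} (hg : g ∈ c.KV) {v : G} (hv : v ∈ c.VV) : Commute g v := by
  obtain ⟨h1, h4⟩ := c.mem_KV.1 hg
  obtain ⟨x, -, hp, rfl⟩ := (c.mem_grp closed_pV).1 hv
  simp only [pV, List.contains_eq_any_beq, List.any_eq_true, beq_iff_eq] at hp
  obtain ⟨k, hk, rfl⟩ := hp
  fin_cases hk
  · rw [c.phi_zero]; exact Commute.one_right _
  · exact h1
  · exact h4
  · rw [show (5 : ℕ) = mulN 1 4 by decide +kernel, c.hmul 1 (by norm_num) 4 (by norm_num)]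
    exact h1.mul_right h4

theorem VV_le_KV : c.VV ≤ c.KV := by
  intro g hg
  obtain ⟨x, hx, hp, rfl⟩ := (c.mem_grp closed_pV).1 hg
  have h := pS2_comm x hx (pV_le_pS2 x hx hp)
  exact c.mem_KV.2 ⟨c.commute_of hx (by norm_num) h.1, c.commute_of hx (by norm_num) h.2⟩

theorem S2_le_KV : c.grp pS2 ≤ c.KV := by
  intro g hg
  obtain ⟨x, hx, hp, rfl⟩ := (c.mem_grp closed_pS2).1 hg
  exact c.mem_KV.2 ⟨c.commute_of hx (by norm_num) (pS2_comm x hx hp).1,
    c.commute_of hx (by norm_num) (pS2_comm x hx hp).2⟩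

theorem bound_V (hl : c.Pattern (0, 1, 0)) (P : Subgroup G) (hP : IsPGroup 2 P) (hPK : P ≤ c.KV)
    (hSP : c.grp pS2 ≤ P) : P = c.grp pS2 := by
  obtain ⟨h, hh1, hh⟩ := c.into_base hP fun p hp => (c.mem_KV.1 (hPK hp)).1
  have h32 : Nat.card (c.grp pS2) = 32 := by rw [c.card_grp closed_pS2, card_pS2]
  obtain ⟨k, hk⟩ := hP.exists_card_eq
  have hle : Nat.card P ≤ 64 := by
    have h' := Subgroup.card_le_of_le (H := P.map (MulAut.conj h).toMonoidHom) (K := c.BB)
      (by rintro _ ⟨p, hp, rfl⟩; exact hh p hp)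
    rwa [Subgroup.card_map_of_injective (MulAut.conj h).injective, c.card_grp closed_pB,
      card_pB] at h'
  refine (Subgroup.eq_of_le_of_card_ge hSP ?_).symm
  rw [h32]
  by_contra hgt
  have h64 : Nat.card P = 64 := by
    rw [hk] at hle hgt ⊢
    have : k ≤ 6 := by
      by_contra hk6
      have := Nat.pow_le_pow_right (show 2 > 0 by norm_num) (show 7 ≤ k by omega)
      omega
    interval_cases k <;> omega
  have himg : P.map (MulAut.conj h).toMonoidHom = c.BB :=
    Subgroup.eq_of_le_of_card_ge (by rintro _ ⟨p, hp, rfl⟩; exact hh p hp)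
      (by rw [Subgroup.card_map_of_injective (MulAut.conj h).injective, h64, c.card_grp closed_pB,
        card_pB])
  obtain ⟨a, ha, ea⟩ := c.mem_BB.1 (hh _ (hSP ((c.mem_grp_code closed_pS2 (show 4 < 128 by norm_num)).2 rfl)))
  have hcen : ∀ b < 64, commB a b = true := by
    intro b hb
    have hb' : c.φ b ∈ P.map (MulAut.conj h).toMonoidHom := himg ▸ c.mem_BB.2 ⟨b, hb, rfl⟩
    obtain ⟨p, hp, ep⟩ := hb'
    refine (c.commute_iff (by omega) (by omega)).1 ?_
    rw [ea, ← ep]
    show h * c.φ 4 * h⁻¹ * (h * p * h⁻¹) = h * p * h⁻¹ * (h * c.φ 4 * h⁻¹)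
    rw [show h * c.φ 4 * h⁻¹ * (h * p * h⁻¹) = h * (c.φ 4 * p) * h⁻¹ by group,
      ← (c.mem_KV.1 (hPK hp)).2.eq]
    group
  have hla : labX (0, 1, 0) a = 0 := by
    rw [← c.lab_of_conj hl (show 4 < 64 by norm_num) ha ea]
    decide +kernel
  rcases bound_key a ha hla (by simpa [allB, List.all_eq_true] using hcen) with rfl | rfl
  · have e : h * c.φ 4 * h⁻¹ = h * c.φ 1 * h⁻¹ := by rw [← ea, hh1.eq, mul_inv_cancel_right]
    exact absurd (c.phi_inj (by norm_num) (by norm_num) (mul_left_cancel (mul_right_cancel e)))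
      (by norm_num)
  · have e5 : c.φ 9 = h * c.φ 5 * h⁻¹ := by
      rw [show (5 : ℕ) = mulN 1 4 by decide +kernel, c.hmul 1 (by norm_num) 4 (by norm_num),
        show h * (c.φ 1 * c.φ 4) * h⁻¹ = h * c.φ 1 * h⁻¹ * (h * c.φ 4 * h⁻¹) by group, hh1.eq,
        mul_inv_cancel_right, ← ea, ← c.hmul 1 (by norm_num) 8 (by norm_num)]
      exact congrArg c.φ (by decide +kernel)
    have := c.lab_of_conj hl (show 5 < 64 by norm_num) (show 9 < 64 by norm_num) e5
    revert this
    decide +kernel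

/-- The pattern with `m` in the class of `z` and `b`, `d` in that of `a` is impossible. -/
theorem centV_false (hl : c.Pattern (0, 1, 0)) : False := by
  classical
  haveI := Fact.mk Nat.prime_two
  have e27 : (27 : ℕ) ∈ elem16 := by simp [elem16]
  have hlt : ∀ x, inE 27 x = true → x < 128 := fun x hx => by have := inE_lt hx; omega
  set H := Subgroup.normalizer (c.EE 27 : Set G) with hH
  have hTH : (c.T : Subgroup G) ≤ H := c.T_le_normalizer (Or.inr rfl)
  -- the mover can be chosen to centralise `V₁`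
  obtain ⟨h, hhH, hhK, y, hy, ey, hyb⟩ : ∃ h ∈ H, h ∈ c.KV ∧
      ∃ y, inE 27 y = true ∧ c.φ y = h * c.φ 8 * h⁻¹ ∧ y.testBit 4 = true := by
    obtain ⟨h, hh, h1, ⟨y, hy, ey, hyb⟩, -, hv⟩ := c.exists_mover (l := (0, 1, 0)) (by simp) hl
    obtain ⟨u, hu, eu⟩ := (c.mem_EE e27).1 (hv rfl)
    have hu' := inE_lt hu
    have e4 : c.φ (mulN u 4) = h * c.φ 4 * h⁻¹ := by
      rw [c.hmul u (by omega) 4 (by norm_num), eu, inv_mul_cancel_right]
    have hwl := mul_base u hu' 4 (by norm_num)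
    have hwi : isInv (mulN u 4) = true := by
      obtain ⟨p1, p2⟩ := (c.isInv_iff (show 4 < 128 by norm_num)).1 (by decide +kernel)
      refine (c.isInv_iff (by omega)).2 ⟨?_, fun he => p2 (conj_eq_one_iff.1 (e4.symm.trans he))⟩
      rw [e4, show h * c.φ 4 * h⁻¹ * (h * c.φ 4 * h⁻¹) = h * (c.φ 4 * c.φ 4) * h⁻¹ by group, p1]
      group
    have hwlab : labX (0, 1, 0) (mulN u 4) = 0 := by
      rw [← c.lab_of_conj hl (show 4 < 64 by norm_num) hwl e4]
      decide +kernel
    have hf := v_fix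
    simp only [List.all_eq_true, allB, List.mem_range, Bool.or_eq_true, Bool.not_eq_true',
      beq_iff_eq] at hf
    rcases hf u hu' with (hf | hf) | hf
    · simp [hu, hwi, hwlab] at hf
    · rw [hf] at e4
      exact ⟨h, hh, c.mem_KV.2 ⟨h1, mul_inv_eq_iff_eq_mul.1 e4.symm⟩, y, hy, ey, hyb⟩
    · rw [hf] at e4
      have h21 : Commute (c.φ 2) (c.φ 1) :=
        c.commute_of (by norm_num) (by norm_num) (by decide +kernel)
      refine ⟨c.φ 2 * h, mul_mem (hTH (c.phi_mem (by norm_num))) hh,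
        c.mem_KV.2 ⟨h21.mul_left h1, mul_inv_eq_iff_eq_mul.1 ?_⟩, y, hy, ?_, hyb⟩
      · rw [show c.φ 2 * h * c.φ 4 * (c.φ 2 * h)⁻¹ = c.φ 2 * (h * c.φ 4 * h⁻¹) * (c.φ 2)⁻¹ by group,
          ← e4, c.phi_conj (by norm_num) (by norm_num)]
        exact congrArg c.φ (by decide +kernel)
      · have hc : Commute (c.φ 2) (c.φ y) :=
          c.EE_comm e27 ((c.code_mem_EE e27 (by norm_num)).2 rfl) ((c.code_mem_EE e27 (hlt y hy)).2 hy)
        rw [show c.φ 2 * h * c.φ 8 * (c.φ 2 * h)⁻¹ = c.φ 2 * (h * c.φ 8 * h⁻¹) * (c.φ 2)⁻¹ by group,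
          ← ey, hc.eq, mul_inv_cancel_right]
  have hy' := inE_lt hy
  have h8K : c.φ 8 ∈ c.KV := c.S2_le_KV ((c.mem_grp_code closed_pS2 (by norm_num)).2 (by decide +kernel))
  have hyK : c.φ y ∈ c.KV := ey ▸ mul_mem (mul_mem hhK h8K) (inv_mem hhK)
  have hy4 : commB y 4 = true := (c.commute_iff (by omega) (by norm_num)).1 (c.mem_KV.1 hyK).2
  have hr2K : c.r2 ∈ c.KV := c.mem_KV.2 ⟨c.r2_fix 1 (by simp), c.r2_fix 4 (by simp)⟩
  have h8ne : c.φ 8 ∉ c.VV := fun h => by
    rw [c.mem_grp_code closed_pV (by norm_num)] at h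
    exact absurd h (by decide +kernel)
  -- the quotient
  set V' := c.VV.subgroupOf c.KV with hV'
  haveI hVn : V'.Normal := ⟨fun n hn g => by
    have : (g : G) * n * (g : G)⁻¹ = n := by
      rw [(show Commute (g : G) (n : G) from c.commute_VV g.2 hn).eq, mul_inv_cancel_right]
    show ((g * n * g⁻¹ : c.KV) : G) ∈ c.VV
    rw [Subgroup.coe_mul, Subgroup.coe_mul, Subgroup.coe_inv, this]
    exact hn⟩
  let π : c.KV →* c.KV ⧸ V' := QuotientGroup.mk' V'
  have hπ : ∀ a b : c.KV, π a = π b ↔ (a : G)⁻¹ * b ∈ c.VV := fun a b => QuotientGroup.eq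
  have hπ1 : ∀ a : c.KV, π a = 1 ↔ (a : G) ∈ c.VV := fun a => QuotientGroup.eq_one_iff a
  have hS2mem : ∀ x, pS2 x = true → x < 128 → c.φ x ∈ c.KV := fun x hp hx =>
    c.S2_le_KV ((c.mem_grp_code closed_pS2 hx).2 hp)
  let s8 : c.KV := ⟨c.φ 8, h8K⟩
  let s16 : c.KV := ⟨c.φ 16, hS2mem 16 (by decide +kernel) (by norm_num)⟩
  let s32 : c.KV := ⟨c.φ 32, hS2mem 32 (by decide +kernel) (by norm_num)⟩
  set SS : Subgroup (c.KV ⧸ V') := Subgroup.closure {π s16, π s32} with hSS
  obtain ⟨-, -, e48, e16, e19⟩ := pS2_word 0 (by norm_num) rfl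
  have hs8 : s8 = (s16 * s32) * (s16 * s32) := by
    apply Subtype.ext
    show c.φ 8 = c.φ 16 * c.φ 32 * (c.φ 16 * c.φ 32)
    rw [← c.hmul 16 (by norm_num) 32 (by norm_num), e16, ← c.hmul 48 (by norm_num) 48 (by norm_num),
      e48]
  have h16S : π s16 ∈ SS := Subgroup.subset_closure (Or.inl rfl)
  have h32S : π s32 ∈ SS := Subgroup.subset_closure (Or.inr rfl)
  have h8S : π s8 ∈ SS := by
    rw [hs8, map_mul, map_mul]
    exact mul_mem (mul_mem h16S h32S) (mul_mem h16S h32S)
  have hS2π : ∀ g : c.KV, (g : G) ∈ c.grp pS2 → π g ∈ SS := by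
    intro g hg
    obtain ⟨x, hx, hp, eg⟩ := (c.mem_grp closed_pS2).1 hg
    have hx' : x < 64 := by simp [pS2] at hp; exact hp.1
    obtain ⟨hpv, hw, -⟩ := pS2_word x hx' hp
    obtain ⟨-, hb⟩ := base_word x hx'
    have hle : ∀ b ∈ [1, 2, 4, 8, 16, 32], Nat.land x b < 128 := fun b hbm => by
      rcases hb b hbm with e | e <;> rw [e]
      · norm_num
      · fin_cases hbm <;> norm_num
    have hm : ∀ b ∈ [8, 16, 32], ∃ k : c.KV, (k : G) = c.φ (Nat.land x b) ∧ π k ∈ SS := by
      intro b hbm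
      rcases hb b (by fin_cases hbm <;> simp) with e | e <;> rw [e]
      · exact ⟨1, c.phi_zero.symm, by rw [map_one]; exact one_mem _⟩
      · fin_cases hbm
        exacts [⟨s8, rfl, h8S⟩, ⟨s16, rfl, h16S⟩, ⟨s32, rfl, h32S⟩]
    obtain ⟨k8, ek8, m8⟩ := hm 8 (by simp)
    obtain ⟨k16, ek16, m16⟩ := hm 16 (by simp)
    obtain ⟨k32, ek32, m32⟩ := hm 32 (by simp)
    have hv : c.φ (x % 8) ∈ c.VV := (c.mem_grp_code closed_pV (by omega)).2 hpv
    have hg' : g = ⟨c.φ (x % 8), c.VV_le_KV hv⟩ * (k16 * k32 * k8) := by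
      apply Subtype.ext
      show (g : G) = c.φ (x % 8) * ((k16 : G) * k32 * k8)
      rw [← eg, ek8, ek16, ek32]
      have l16 := hle 16 (by simp)
      have l32 := hle 32 (by simp)
      have l8 := hle 8 (by simp)
      have l1 := mulN_lt _ l16 _ l32
      conv_lhs => rw [hw]
      rw [c.hmul _ (by omega) _ (mulN_lt _ l1 _ l8), c.hmul _ l1 _ l8, c.hmul _ l16 _ l32]
    rw [hg', map_mul, (hπ1 _).2 hv, one_mul, map_mul, map_mul]
    exact mul_mem (mul_mem m16 m32) m8
  -- the centraliser of the image of `c₂`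
  have hC8 : ∀ g : c.KV, Commute (π g) (π s8) → (g : G) ∈ c.grp pS2 := by
    have hC : ∀ g ∈ c.KV ⊓ Subgroup.centralizer ({c.φ 8} : Set G), g ∈ c.grp pS2 := by
      set P := c.KV ⊓ Subgroup.centralizer ({c.φ 8} : Set G) with hP
      have hP2 : IsPGroup 2 P := isPGroup_of_odd fun r hr ho => by
        obtain ⟨r1, r4⟩ := c.mem_KV.1 hr.1
        have r8 : Commute r (c.φ 8) := Subgroup.mem_centralizer_singleton_iff.1 hr.2
        exact c.sig_trivial (by simp [smallPats]) hl ho (c.phi_nine_eq ▸ r1.mul_right r8) r1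
      have hSP : c.grp pS2 ≤ P := fun g hg => ⟨c.S2_le_KV hg, Subgroup.mem_centralizer_singleton_iff.2 (by
        obtain ⟨x, hx, hp, rfl⟩ := (c.mem_grp closed_pS2).1 hg
        have key : ∀ x < 128, pS2 x = true → commB x 8 = true := by decide +kernel
        exact (c.commute_of hx (by norm_num) (key x hx hp)).eq)⟩
      exact fun g hg => c.bound_V hl P hP2 inf_le_left hSP ▸ hg
    intro g hg
    refine hC g ⟨g.2, Subgroup.mem_centralizer_singleton_iff.2 ?_⟩
    have h1 : π (g * s8 * g⁻¹) = π s8 := by rw [map_mul, map_mul, map_inv, hg.eq, mul_inv_cancel_right]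
    have h2 := (hπ _ _).1 h1.symm
    obtain ⟨v, hv, hp, ev⟩ := (c.mem_grp closed_pV).1 h2
    have h88 : (c.φ 8)⁻¹ = c.φ 8 :=
      inv_eq_of_mul_eq_one_right ((c.sq_eq_one_iff (by norm_num)).2 (by decide +kernel))
    have e : c.φ (mulN v 8) = (g : G) * c.φ 8 * (g : G)⁻¹ := by
      rw [c.hmul v hv 8 (by norm_num), ← (c.commute_VV h8K ((c.mem_grp_code closed_pV hv).2 hp)).eq, ev]
      show c.φ 8 * ((c.φ 8)⁻¹ * ((g : G) * c.φ 8 * (g : G)⁻¹)) = _
      group
    simp only [pV, List.contains_eq_any_beq, List.any_eq_true, beq_iff_eq] at hp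
    obtain ⟨k, hk, rfl⟩ := hp
    by_cases hk0 : v = 0
    · rw [hk0, show mulN 0 8 = 8 by decide +kernel] at e
      exact mul_inv_eq_iff_eq_mul.1 e.symm
    · exfalso
      have hv3 : v ∈ [1, 4, 5] := by fin_cases hk <;> simp_all
      have hlab := c.lab_of_conj hl (show 8 < 64 by norm_num)
        (mul_base v (by fin_cases hv3 <;> norm_num) 8 (by norm_num)) e
      rw [c2_coset v hv3] at hlab
      revert hlab
      decide +kernel
  have hcent : Subgroup.centralizer ({π s8} : Set (c.KV ⧸ V')) = SS := by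
    refine le_antisymm (fun a ha => ?_) ?_
    · obtain ⟨g, rfl⟩ := QuotientGroup.mk'_surjective V' a
      exact hS2π g (hC8 g (Subgroup.mem_centralizer_singleton_iff.1 ha))
    · rw [hSS, Subgroup.closure_le]
      have key : ∀ b ∈ [16, 32], commB b 8 = true := by decide +kernel
      rintro _ (rfl | rfl) <;> refine Subgroup.mem_centralizer_singleton_iff.2 ?_ <;>
        rw [← map_mul, ← map_mul] <;> refine congrArg π (Subtype.ext ?_)
      · exact (c.commute_of (by norm_num) (by norm_num) (key 16 (by simp))).eq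
      · exact (c.commute_of (by norm_num) (by norm_num) (key 32 (by simp))).eq
  have horder : ∀ b : c.KV, (b : G) ∉ c.VV → (b : G) * b = 1 → orderOf (π b) = 2 := fun b hb hb2 =>
    orderOf_eq_prime (by
      rw [pow_two, ← map_mul, hπ1]
      show (b : G) * b ∈ c.VV
      rw [hb2]; exact one_mem _) fun e => hb ((hπ1 b).1 e)
  have hnV : ∀ b, b < 128 → pV b = false → c.φ b ∉ c.VV := fun b hb hp h => by
    rw [c.mem_grp_code closed_pV hb, hp] at h
    exact Bool.noConfusion h
  have ht : orderOf (π s8) = 2 :=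
    horder s8 h8ne ((c.sq_eq_one_iff (by norm_num)).2 (by decide +kernel))
  have ho16 : orderOf (π s16) = 2 := horder s16 (hnV 16 (by norm_num) (by decide +kernel))
    ((c.sq_eq_one_iff (by norm_num)).2 (by decide +kernel))
  have ho32 : orderOf (π s32) = 2 := horder s32 (hnV 32 (by norm_num) (by decide +kernel))
    ((c.sq_eq_one_iff (by norm_num)).2 (by decide +kernel))
  have ho48 : orderOf (π s16 * π s32) = 4 := by
    haveI : Fact (Nat.Prime 2) := ⟨Nat.prime_two⟩
    have h2 : (π s16 * π s32) ^ 2 = π s8 := by rw [pow_two, hs8, map_mul, map_mul]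
    refine orderOf_eq_prime_pow (p := 2) (n := 1) ?_ ?_
    · rw [pow_one, h2]; exact fun e => h8ne ((hπ1 _).1 e)
    · rw [show (2 : ℕ) ^ (1 + 1) = 2 * 2 by norm_num, pow_mul, h2]
      exact ht ▸ pow_orderOf_eq_one _
  obtain ⟨e⟩ : Nonempty (Subgroup.centralizer ({π s8} : Set (c.KV ⧸ V')) ≃* DihedralGroup 4) := by
    rw [hcent, hSS, ← ho48]
    exact Invol.nonempty_mulEquiv_dihedralGroup ho16 ho32
  -- no subgroup of index two
  have h2idx : ∀ L : Subgroup (c.KV ⧸ V'), L.index ≠ 2 := by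
    intro L hL
    haveI hLn : L.Normal := Subgroup.normal_of_index_eq_two hL
    have hsq : ∀ a, a * a ∈ L := fun a => by
      rw [← pow_two]; exact Subgroup.sq_mem_of_index_two hL a
    have m8 : π s8 ∈ L := by rw [hs8, map_mul]; exact hsq _
    have m32 : π s32 ∈ L := by
      have : π s32 = π ⟨c.r2, hr2K⟩ * π s8 * (π ⟨c.r2, hr2K⟩)⁻¹ := by
        rw [← map_inv, ← map_mul, ← map_mul]
        refine congrArg π (Subtype.ext ?_)
        show c.φ 32 = c.r2 * c.φ 8 * c.r2⁻¹
        rw [c.r2_c, mul_inv_cancel_right]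
      rw [this]; exact hLn.conj_mem _ m8 _
    have m16 : π s16 ∈ L := by
      have hyL : π ⟨c.φ y, hyK⟩ ∈ L := by
        have : π ⟨c.φ y, hyK⟩ = π ⟨h, hhK⟩ * π s8 * (π ⟨h, hhK⟩)⁻¹ := by
          rw [← map_inv, ← map_mul, ← map_mul]
          exact congrArg π (Subtype.ext ey)
        rw [this]; exact hLn.conj_mem _ m8 _
      have himg := image_u2
      simp only [List.all_eq_true, allB, List.mem_range, Bool.or_eq_true, Bool.not_eq_true',
        Bool.and_eq_true, beq_iff_eq] at himg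
      rcases himg y hy' with hf | ⟨hpv, e16'⟩
      · simp [hy, hyb, hy4] at hf
      have hv : c.φ (y % 8) ∈ c.VV := (c.mem_grp_code closed_pV (by omega)).2 hpv
      let t8 : c.KV := if y.testBit 3 then s8 else 1
      have ht8 : π t8 ∈ L := by
        simp only [t8]; split_ifs
        · exact m8
        · rw [map_one]; exact one_mem _
      have : s16 = (⟨c.φ (y % 8), c.VV_le_KV hv⟩ : c.KV)⁻¹ * ⟨c.φ y, hyK⟩ * t8 := by
        apply Subtype.ext
        show c.φ 16 = (c.φ (y % 8))⁻¹ * c.φ y * (t8 : G)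
        have ht8' : (t8 : G) = c.φ (if y.testBit 3 then 8 else 0) := by
          simp only [t8]; split_ifs
          · rfl
          · exact c.phi_zero.symm
        have hl8 : (if y.testBit 3 then 8 else 0) < 128 := by split_ifs <;> norm_num
        rw [ht8', ← c.phi_inv (by omega), ← c.hmul _ (invN_lt _ (by omega)).1 _ (by omega),
          ← c.hmul _ (mulN_lt _ (invN_lt _ (by omega)).1 _ (by omega)) _ hl8, e16']
      rw [this, map_mul, map_mul, map_inv, (hπ1 _).2 hv, inv_one, one_mul]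
      exact mul_mem hyL ht8
    have hSL : SS ≤ L := by
      rw [hSS, Subgroup.closure_le]
      rintro _ (rfl | rfl)
      exacts [m16, m32]
    -- a Sylow subgroup inside a subgroup of index two
    obtain ⟨S, hS⟩ := (((c.T.isPGroup'.to_le (c.grp_le_T (p := pS2))).comap_subtype (K := c.KV)) :
      IsPGroup 2 ((c.grp pS2).subgroupOf c.KV)).exists_le_sylow
    have hSeq := c.bound_V hl ((S : Subgroup c.KV).map c.KV.subtype) (S.isPGroup'.map _)
      (Subgroup.map_subtype_le _) fun g hg => ⟨⟨g, c.S2_le_KV hg⟩, hS hg, rfl⟩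
    have hle : (S : Subgroup c.KV) ≤ L.comap π := fun g hg => hSL (hS2π g (hSeq ▸ ⟨g, hg, rfl⟩))
    refine S.not_dvd_index ?_
    rw [← Subgroup.relIndex_mul_index hle,
      Subgroup.index_comap_of_surjective L (QuotientGroup.mk'_surjective V'), hL]
    exact dvd_mul_left 2 _
  have hone := Invol.D8Order.one_class ht e h2idx
  obtain ⟨hsimp, hord⟩ := Invol.D8Order.simple_and_order ht e h2idx
  haveI := hsimp
  have hKcard : Nat.card c.KV = Nat.card (c.KV ⧸ V') * 4 := by
    rw [Subgroup.card_eq_card_quotient_mul_card_subgroup V', hV',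
      Nat.card_congr (Subgroup.subgroupOfEquivOfLe c.VV_le_KV).toEquiv, c.card_grp closed_pV, card_pV]
  set NV := Subgroup.normalizer (c.VV : Set G) with hNV
  have hVmove : ∀ g : G, (∀ b ∈ [1, 4], ∃ a, pV a = true ∧ a < 128 ∧ g * c.φ b = c.φ a * g) → g ∈ NV := by
    intro g hg
    refine mem_normalizer_of_conj fun v hv => ?_
    obtain ⟨x, hx, hp, rfl⟩ := (c.mem_grp closed_pV).1 hv
    obtain ⟨a1, p1, l1, e1⟩ := hg 1 (by simp)
    obtain ⟨a4, p4, l4, e4⟩ := hg 4 (by simp)
    simp only [pV, List.contains_eq_any_beq, List.any_eq_true, beq_iff_eq] at hp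
    obtain ⟨k, hk, rfl⟩ := hp
    fin_cases hk
    · rw [c.phi_zero, mul_one, mul_inv_cancel]; exact one_mem _
    · rw [e1, mul_inv_cancel_right]; exact (c.mem_grp_code closed_pV l1).2 p1
    · rw [e4, mul_inv_cancel_right]; exact (c.mem_grp_code closed_pV l4).2 p4
    · have e5 := c.conj_code_mul (show 1 < 128 by norm_num) (show 4 < 128 by norm_num) l1 l4 e1 e4
      rw [show mulN 1 4 = 5 by decide +kernel] at e5
      rw [e5, mul_inv_cancel_right]
      exact (c.mem_grp_code closed_pV (mulN_lt _ l1 _ l4)).2 (closed_pV.2 _ l1 _ l4 p1 p4)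
  have hKNV : c.KV ≤ NV := fun g hg => mem_normalizer_of_conj fun v hv => by
    rw [(c.commute_VV hg hv).eq, mul_inv_cancel_right]; exact hv
  have hKnorm : ∀ g ∈ NV, ∀ k ∈ c.KV, g * k * g⁻¹ ∈ c.KV := by
    intro g hg k hk
    have hc : ∀ v ∈ c.VV, Commute (g * k * g⁻¹) v := by
      intro v hv
      have hv' := (Subgroup.mem_normalizer_iff.1 (inv_mem hg) v).1 hv
      rw [inv_inv] at hv'
      calc g * k * g⁻¹ * v = g * (k * (g⁻¹ * v * g)) * g⁻¹ := by group
        _ = v * (g * k * g⁻¹) := by rw [(c.commute_VV hk hv').eq]; group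
    exact c.mem_KV.2 ⟨hc _ ((c.mem_grp_code closed_pV (by norm_num)).2 (by decide +kernel)),
      hc _ ((c.mem_grp_code closed_pV (by norm_num)).2 (by decide +kernel))⟩
  rcases hord with h168 | h360
  · -- `L₂(7)`: `u₁` centralises the quotient
    have hu : c.φ 2 ∈ NV := hVmove _ fun b hb => by
      fin_cases hb
      · exact ⟨conjN 2 1, by decide +kernel, (conjN_lt 2 (by norm_num) 1 (by norm_num)).1,
          by rw [← c.phi_conj (by norm_num) (by norm_num), inv_mul_cancel_right]⟩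
      · exact ⟨conjN 2 4, by decide +kernel, (conjN_lt 2 (by norm_num) 4 (by norm_num)).1,
          by rw [← c.phi_conj (by norm_num) (by norm_num), inv_mul_cancel_right]⟩
    let σK : c.KV →* c.KV :=
      { toFun := fun k => ⟨c.φ 2 * k * (c.φ 2)⁻¹, hKnorm _ hu k k.2⟩
        map_one' := Subtype.ext (by simp)
        map_mul' := fun a b => Subtype.ext (by
          show c.φ 2 * ((a : G) * b) * (c.φ 2)⁻¹ = c.φ 2 * a * (c.φ 2)⁻¹ * (c.φ 2 * b * (c.φ 2)⁻¹)
          group) }
    let σ : c.KV ⧸ V' →* c.KV ⧸ V' := QuotientGroup.map V' V' σK fun k hk =>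
      show c.φ 2 * (k : G) * (c.φ 2)⁻¹ ∈ c.VV from (Subgroup.mem_normalizer_iff.1 hu _).1 hk
    have hσπ : ∀ k, σ (π k) = π (σK k) := fun k => rfl
    have h22 : c.φ 2 * c.φ 2 = 1 := (c.sq_eq_one_iff (by norm_num)).2 (by decide +kernel)
    have hinvol : ∀ x, σ (σ x) = x := by
      intro x
      obtain ⟨k, rfl⟩ := QuotientGroup.mk'_surjective V' x
      rw [hσπ, hσπ]
      refine congrArg π (Subtype.ext ?_)
      show c.φ 2 * (c.φ 2 * (k : G) * (c.φ 2)⁻¹) * (c.φ 2)⁻¹ = k
      rw [show c.φ 2 * (c.φ 2 * (k : G) * (c.φ 2)⁻¹) * (c.φ 2)⁻¹ =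
        c.φ 2 * c.φ 2 * k * (c.φ 2 * c.φ 2)⁻¹ by group, h22]
      group
    have hfix : ∀ k : c.KV, Commute (c.φ 2) (k : G) → σ (π k) = π k := fun k hk => by
      rw [hσπ]
      refine congrArg π (Subtype.ext ?_)
      show c.φ 2 * (k : G) * (c.φ 2)⁻¹ = k
      rw [hk.eq, mul_inv_cancel_right]
    let F : Subgroup (c.KV ⧸ V') := Subgroup.closure {π s16, π s32, π ⟨c.r2, hr2K⟩}
    have hFfix : ∀ x ∈ F, σ x = x := by
      intro x hx
      induction hx using Subgroup.closure_induction with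
      | mem x hx =>
        rcases hx with rfl | rfl | rfl
        · exact hfix _ (c.commute_of (by norm_num) (by norm_num) (by decide +kernel))
        · exact hfix _ (c.commute_of (by norm_num) (by norm_num) (by decide +kernel))
        · exact hfix _ (show Commute c.r2 (c.φ 2) from c.r2_fix 2 (by simp)).symm
      | one => exact map_one σ
      | mul a b _ _ ha hb => rw [map_mul, ha, hb]
      | inv a _ ha => rw [map_inv, ha]
    have hF24 : 24 ∣ Nat.card F := by
      have h8 : 8 ∣ Nat.card F := by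
        have hle : SS ≤ F := (Subgroup.closure_le _).2 (by
          rintro _ (rfl | rfl)
          · exact Subgroup.subset_closure (Or.inl rfl)
          · exact Subgroup.subset_closure (Or.inr (Or.inl rfl)))
        have := Subgroup.card_dvd_of_le hle
        rwa [← hcent, Invol.D8Order.card_eight ht e] at this
      have h3 : 3 ∣ Nat.card F := by
        haveI := Fact.mk Nat.prime_three
        have hne : π ⟨c.r2, hr2K⟩ ≠ 1 := fun e' => by
          have hm := (hπ1 _).1 e'
          exact c.r2_ne (c.odd_eq_one_T (c.grp_le_T hm) (Nat.Coprime.coprime_dvd_left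
            (orderOf_dvd_of_pow_eq_one (show c.r2 ^ 3 = 1 by rw [pow_succ, pow_two, c.r2_pow]))
            (by norm_num)))
        have ho : orderOf (π ⟨c.r2, hr2K⟩) = 3 := orderOf_eq_prime (by
          rw [← map_pow, ← map_one π]
          refine congrArg π (Subtype.ext ?_)
          show c.r2 ^ 3 = 1
          rw [pow_succ, pow_two, c.r2_pow]) hne
        exact ho ▸ Subgroup.orderOf_dvd_natCard _ (Subgroup.subset_closure (Or.inr (Or.inr rfl)))
      exact (show Nat.Coprime 8 3 by norm_num).mul_dvd_of_dvd_of_dvd h8 h3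
    have hnc : ¬ IsMulCommutative (c.KV ⧸ V') := fun hc => by
      have : Nat.card (c.KV ⧸ V') = 8 := by
        rw [← Invol.D8Order.card_eight ht e]
        refine (Nat.card_congr (Equiv.subtypeUnivEquiv fun x => ?_)).symm
        exact Subgroup.mem_centralizer_singleton_iff.2 (hc.is_comm.comm x (π s8))
      omega
    have htriv := involutory_trivial h168 hnc e hone σ hinvol ⟨F, hFfix, hF24⟩ (π ⟨h, hhK⟩)
    rw [hσπ, hπ] at htriv
    obtain ⟨v, hv, hp, ev⟩ := (c.mem_grp closed_pV).1 htriv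
    have ev' : c.φ v = c.φ 2 * h⁻¹ * (c.φ 2)⁻¹ * h := by
      rw [ev]
      show (c.φ 2 * h * (c.φ 2)⁻¹)⁻¹ * h = _
      group
    have h2i : (c.φ 2)⁻¹ = c.φ 2 := inv_eq_of_mul_eq_one_right h22
    have eu : c.φ (mulN v 2) = h * c.φ 2 * h⁻¹ := by
      have hcv := c.commute_VV hhK ((c.mem_grp_code closed_pV hv).2 hp)
      rw [c.hmul v hv 2 (by norm_num), ← mul_inv_eq_iff_eq_mul.2 hcv.eq, ev', h2i]
      calc h * (c.φ 2 * h⁻¹ * c.φ 2 * h) * h⁻¹ * c.φ 2
          = h * c.φ 2 * h⁻¹ * (c.φ 2 * c.φ 2) := by group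
        _ = h * c.φ 2 * h⁻¹ := by rw [h22, mul_one]
    obtain ⟨fl1, fl2, fl3, fl4⟩ := final_lab
    have hvU : inE 27 (mulN v 2) = true := by
      rw [← c.code_mem_EE e27 (mulN_lt v hv 2 (by norm_num)), eu]
      exact (Subgroup.mem_normalizer_iff.1 hhH _).1 ((c.code_mem_EE e27 (by norm_num)).2 rfl)
    simp only [pV, List.contains_eq_any_beq, List.any_eq_true, beq_iff_eq] at hp
    obtain ⟨k, hk, rfl⟩ := hp
    have hv01 : v ∈ [0, 1] := by
      by_contra hcon
      rw [fl2 v (by fin_cases hk <;> simp_all)] at hvU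
      exact Bool.noConfusion hvU
    have e' : c.φ (mulN (mulN v 2) y) = h * c.φ (mulN 2 8) * h⁻¹ := by
      rw [c.hmul _ (mulN_lt v hv 2 (by norm_num)) y (by omega), eu, ey,
        c.hmul 2 (by norm_num) 8 (by norm_num)]
      group
    have hlab := c.lab_of_conj hl (show mulN 2 8 < 64 from mul_base 2 (by norm_num) 8 (by norm_num))
      (mul_base _ (mul_base v (by fin_cases hv01 <;> norm_num) 2 (by norm_num)) y hy') e'
    simp only [List.all_eq_true, allB, List.mem_range, Bool.or_eq_true, Bool.not_eq_true',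
      beq_iff_eq] at fl1
    rcases fl1 y hy' with hf | hf
    · simp [hy, hyb, hy4] at hf
    · rw [hf v hv01, fl3] at hlab
      omega
  · -- `A₆`: the three-rank of `N(V₁)` is three
    haveI := Fact.mk Nat.prime_three
    obtain ⟨P⟩ : Nonempty (Sylow 3 c.KV) := inferInstance
    have hP9 : Nat.card (P : Subgroup c.KV) = 9 := by
      rw [Sylow.card_eq_multiplicity, hKcard, h360, show (360 * 4 : ℕ) = 3 ^ 2 * 160 by norm_num,
        Nat.factorization_mul (by norm_num) (by norm_num), Finsupp.add_apply,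
        Nat.Prime.factorization_pow (by norm_num),
        Nat.factorization_eq_zero_of_not_dvd (by norm_num : ¬ 3 ∣ 160)]
      simp
    have hker : ∀ p ∈ (P : Subgroup c.KV), π p = 1 → p = 1 := by
      intro p hp e'
      have h4 : orderOf (p : G) ∣ 4 := by
        have := Subgroup.orderOf_dvd_natCard _ ((hπ1 p).1 e')
        rwa [c.card_grp closed_pV, card_pV] at this
      have h9 : orderOf (p : G) ∣ 9 := by
        rw [Subgroup.orderOf_coe]; exact hP9 ▸ Subgroup.orderOf_dvd_natCard _ hp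
      exact Subtype.ext (orderOf_eq_one_iff.1 (Nat.eq_one_of_dvd_coprimes (by norm_num) h4 h9))
    have hinjP : ∀ p ∈ (P : Subgroup c.KV), ∀ q ∈ (P : Subgroup c.KV), π p = π q → p = q := by
      intro p hp q hq e'
      exact mul_inv_eq_one.1 (hker _ (mul_mem hp (inv_mem hq)) (by rw [map_mul, map_inv, e', mul_inv_cancel]))
    have hPm : Nat.card ((P : Subgroup c.KV).map π) = 9 := by
      rw [← hP9]
      refine (Nat.card_congr (Equiv.ofBijective
        (fun p : (P : Subgroup c.KV) => (⟨π p, p, p.2, rfl⟩ : (P : Subgroup c.KV).map π))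
        ⟨fun a b h => Subtype.ext (hinjP a a.2 b b.2 (congrArg Subtype.val h)), ?_⟩)).symm
      rintro ⟨_, p, hp, rfl⟩
      exact ⟨⟨p, hp⟩, rfl⟩
    let P' : Sylow 3 (c.KV ⧸ V') := Sylow.ofCard ((P : Subgroup c.KV).map π) (by
      rw [hPm, h360, show (360 : ℕ) = 3 ^ 2 * 40 by norm_num,
        Nat.factorization_mul (by norm_num) (by norm_num), Finsupp.add_apply,
        Nat.Prime.factorization_pow (by norm_num),
        Nat.factorization_eq_zero_of_not_dvd (by norm_num : ¬ 3 ∣ 40)]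
      simp)
    have hP' : (P' : Subgroup (c.KV ⧸ V')) = (P : Subgroup c.KV).map π := rfl
    obtain ⟨jb, hjN, hjj, hexp, hjfree, hj2free, hnorm⟩ := three_normal h360 P' e hone
    obtain ⟨j, rfl⟩ := QuotientGroup.mk'_surjective V' jb
    have hexp' : ∀ p ∈ (P : Subgroup c.KV), p ^ 3 = 1 := fun p hp =>
      hker _ (pow_mem hp 3) (by rw [map_pow]; exact hexp _ ⟨p, hp, rfl⟩)
    have hjP : ∀ p ∈ (P : Subgroup c.KV), j * p * j⁻¹ ∈ (P : Subgroup c.KV) := by
      intro p hp
      have hm := (Subgroup.mem_normalizer_iff.1 hjN (π p)).1 ⟨p, hp, rfl⟩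
      obtain ⟨q, hq, eq⟩ := hm
      have e1 : π q = π (j * p * j⁻¹) := by rw [map_mul, map_mul, map_inv]; exact eq
      have hm2 := (hπ _ _).1 e1
      set v : c.KV := q⁻¹ * (j * p * j⁻¹) with hv
      have hvV : (v : G) ∈ c.VV := hm2
      have hv4 : v ^ 4 = 1 := by
        apply Subtype.ext
        rw [SubgroupClass.coe_pow, OneMemClass.coe_one]
        exact orderOf_dvd_iff_pow_eq_one.1 (by
          have := Subgroup.orderOf_dvd_natCard _ hvV
          rwa [c.card_grp closed_pV, card_pV] at this)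
      have hcq : Commute q v := Subtype.ext (c.commute_VV q.2 hvV).eq
      have h3 : (q * v) ^ 3 = 1 := by
        rw [hv, mul_inv_cancel_left, conj_pow, hexp' p hp, mul_one, mul_inv_cancel]
      rw [hcq.mul_pow, hexp' q hq, one_mul] at h3
      have hv1 : v = 1 := by
        have : v ^ 4 = v := by rw [pow_succ, h3, one_mul]
        rw [← this, hv4]
      rw [hv, inv_mul_eq_one] at hv1
      exact hv1 ▸ hq
    -- a three-element outside
    have hr1N : c.r1 ∈ NV := hVmove _ fun b hb => by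
      fin_cases hb
      · exact ⟨4, by decide +kernel, by norm_num, c.r1_c⟩
      · exact ⟨5, by decide +kernel, by norm_num, c.r1_v⟩
    have hr1K : c.r1 ∉ c.KV := fun h => by
      have h' := (c.mem_KV.1 h).1.eq
      rw [c.r1_c, mul_left_inj] at h'
      exact absurd (c.phi_inj (by norm_num) (by norm_num) h') (by norm_num)
    set PG := (P : Subgroup c.KV).map c.KV.subtype with hPG
    obtain ⟨R, hR⟩ := (((P.isPGroup'.map c.KV.subtype).comap_subtype (K := NV)) :
      IsPGroup 3 (PG.subgroupOf NV)).exists_le_sylow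
    have hr13 : c.r1 ^ 3 = 1 := by rw [pow_succ, pow_two, c.r1_pow]
    obtain ⟨R1, hR1⟩ := (IsPGroup.of_card (n := 1) (by
      rw [Nat.card_zpowers, pow_one]
      exact orderOf_eq_prime (Subtype.ext hr13) (fun e' => c.r1_ne (congrArg Subtype.val e'))) :
      IsPGroup 3 (Subgroup.zpowers (⟨c.r1, hr1N⟩ : NV))).exists_le_sylow
    obtain ⟨k, hk⟩ := MulAction.exists_smul_eq NV R1 R
    set r : G := (k : G) * c.r1 * (k : G)⁻¹ with hr
    have hrN : r ∈ NV := mul_mem (mul_mem k.2 hr1N) (inv_mem k.2)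
    have hrR : (⟨r, hrN⟩ : NV) ∈ (R : Subgroup NV) := by
      rw [← hk]
      exact Subgroup.mem_map_of_mem (MulAut.conj k).toMonoidHom (hR1 (Subgroup.mem_zpowers _))
    have hrK : r ∉ c.KV := fun h => by
      have := hKnorm _ (inv_mem k.2) r h
      rw [hr, inv_inv, show (k : G)⁻¹ * ((k : G) * c.r1 * (k : G)⁻¹) * k = c.r1 by group] at this
      exact hr1K this
    have hr3 : r ^ 3 = 1 := by rw [hr, conj_pow, hr13]; group
    -- `r` normalises `P`
    have hrP : ∀ p ∈ PG, r * p * r⁻¹ ∈ PG := by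
      intro p hp
      have hpK : p ∈ c.KV := Subgroup.map_subtype_le _ hp
      have hpR : (⟨p, hKNV hpK⟩ : NV) ∈ (R : Subgroup NV) := hR hp
      let D : Subgroup c.KV := ((R : Subgroup NV).map NV.subtype).subgroupOf c.KV
      have hD : IsPGroup 3 D := (R.isPGroup'.map NV.subtype).comap_subtype
      have hPD : (P : Subgroup c.KV) ≤ D := fun q hq =>
        ⟨⟨q, hKNV q.2⟩, hR ⟨q, hq, rfl⟩, rfl⟩
      have hDP := P.3 hD hPD
      have hmem : (⟨r * p * r⁻¹, hKnorm r hrN p hpK⟩ : c.KV) ∈ D :=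
        ⟨⟨r, hrN⟩ * ⟨p, hKNV hpK⟩ * ⟨r, hrN⟩⁻¹, mul_mem (mul_mem hrR hpR) (inv_mem hrR), rfl⟩
      rw [hDP] at hmem
      exact ⟨_, hmem, rfl⟩
    have hPc : ∀ a ∈ PG, ∀ b ∈ PG, Commute a b := by
      rintro _ ⟨a, ha, rfl⟩ _ ⟨b, hb, rfl⟩
      haveI : IsMulCommutative (P : Subgroup c.KV) :=
        ⟨⟨IsPGroup.commutative_of_card_eq_prime_sq (p := 3) (by rw [hP9]; norm_num)⟩⟩
      have := congrArg (fun x : (P : Subgroup c.KV) => ((x : c.KV) : G))
        ((‹IsMulCommutative (P : Subgroup c.KV)›).is_comm.comm ⟨a, ha⟩ ⟨b, hb⟩)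
      exact this
    have hP3 : ∀ a ∈ PG, a ^ 3 = 1 := by
      rintro _ ⟨a, ha, rfl⟩
      rw [← map_pow, hexp' a ha, map_one]
    -- `r` commutes with `j` in its action on `P`
    have hjr : ∀ p ∈ PG, r * ((j : G) * p * (j : G)⁻¹) * r⁻¹ = (j : G) * (r * p * r⁻¹) * (j : G)⁻¹ := by
      have hPGnorm : ∀ {x : G}, (∀ p ∈ PG, x * p * x⁻¹ ∈ PG) → ∀ p ∈ PG, x⁻¹ * p * x ∈ PG := by
        intro x hx p hp
        have hm := mem_normalizer_of_conj hx
        have := (Subgroup.mem_normalizer_iff.1 (inv_mem hm) p).1 hp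
        rwa [inv_inv] at this
      have hjPG : ∀ p ∈ PG, (j : G) * p * (j : G)⁻¹ ∈ PG := by
        rintro _ ⟨p, hp, rfl⟩; exact ⟨_, hjP p hp, rfl⟩
      -- one step: conjugation by `r` sends `j` to `j` or its inverse
      have hstep : ∀ s : G, s ∈ NV → (∀ p ∈ PG, s * p * s⁻¹ ∈ PG) →
          (∀ p ∈ PG, s * ((j : G) * p * (j : G)⁻¹) * s⁻¹ = (j : G) * (s * p * s⁻¹) * (j : G)⁻¹) ∨
          (∀ p ∈ PG, s * ((j : G) * p * (j : G)⁻¹) * s⁻¹ = (j : G)⁻¹ * (s * p * s⁻¹) * (j : G)) := by
        intro s hs hsP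
        set x : c.KV := ⟨s * j * s⁻¹, hKnorm s hs j j.2⟩ with hx
        have hxP : ∀ q ∈ (P : Subgroup c.KV), x * q * x⁻¹ ∈ (P : Subgroup c.KV) := by
          intro q hq
          have h1 := hPGnorm hsP _ (show (q : G) ∈ PG from ⟨q, hq, rfl⟩)
          have h2 := hsP _ (hjPG _ h1)
          obtain ⟨q', hq', eq'⟩ := h2
          have : q' = x * q * x⁻¹ := by
            apply Subtype.ext
            show (q' : G) = s * j * s⁻¹ * q * (s * j * s⁻¹)⁻¹
            rw [show s * (j : G) * s⁻¹ * q * (s * j * s⁻¹)⁻¹ =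
              s * ((j : G) * (s⁻¹ * q * s) * (j : G)⁻¹) * s⁻¹ by group, ← eq']
            rfl
          exact this ▸ hq'
        have hxN : π x ∈ Subgroup.normalizer ((P' : Subgroup (c.KV ⧸ V')) : Set (c.KV ⧸ V')) := by
          refine mem_normalizer_of_conj fun a ha => ?_
          obtain ⟨q, hq, rfl⟩ := ha
          exact ⟨_, hxP q hq, by rw [map_mul, map_mul, map_inv]⟩
        have hxx : π x * π x ∉ (P' : Subgroup (c.KV ⧸ V')) := by
          rintro ⟨q, hq, eq⟩
          obtain ⟨q', hq', eq'⟩ : ∃ q' ∈ (P : Subgroup c.KV), (q' : G) = s⁻¹ * q * s := by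
            obtain ⟨q', hq', e'⟩ := hPGnorm hsP _ (show (q : G) ∈ PG from ⟨q, hq, rfl⟩)
            exact ⟨q', hq', e'⟩
          refine hjj ⟨q', hq', ?_⟩
          rw [← map_mul] at eq ⊢
          rw [hπ] at eq ⊢
          have := (Subgroup.mem_normalizer_iff.1 (inv_mem hs) _).1 eq
          rw [inv_inv] at this
          rw [eq']
          convert this using 1
          show (s⁻¹ * (q : G) * s)⁻¹ * ((j : G) * j) = s⁻¹ * ((q : G)⁻¹ * (s * j * s⁻¹ * (s * j * s⁻¹))) * s
          group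
        obtain ⟨qb, ⟨q, hq, rfl⟩, hcase⟩ := hnorm (π x) hxN hxx
        have conjx : ∀ k : c.KV, π x = π k * π q → ∀ p ∈ PG,
            s * ((j : G) * p * (j : G)⁻¹) * s⁻¹ = (k : G) * (s * p * s⁻¹) * (k : G)⁻¹ := by
          intro k hk p hp
          rw [← map_mul, hπ] at hk
          obtain ⟨hq1, hpq⟩ : (q : G) ∈ PG ∧ s * p * s⁻¹ ∈ PG := ⟨⟨q, hq, rfl⟩, hsP p hp⟩
          have hv := c.commute_VV (Subgroup.map_subtype_le _ hpq) hk
          have hc := hPc _ hq1 _ hpq
          set v := (x : G)⁻¹ * ((k * q : c.KV) : G) with hvdef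
          have hx' : (x : G) = (k : G) * q * v⁻¹ := by
            rw [hvdef, Subgroup.coe_mul]; group
          calc s * ((j : G) * p * (j : G)⁻¹) * s⁻¹ = (x : G) * (s * p * s⁻¹) * (x : G)⁻¹ := by
                show _ = s * j * s⁻¹ * (s * p * s⁻¹) * (s * j * s⁻¹)⁻¹
                group
            _ = (k : G) * q * (v⁻¹ * (s * p * s⁻¹) * v) * (q : G)⁻¹ * (k : G)⁻¹ := by rw [hx']; group
            _ = (k : G) * ((q : G) * (s * p * s⁻¹) * (q : G)⁻¹) * (k : G)⁻¹ := by
                rw [show v⁻¹ * (s * p * s⁻¹) * v = s * p * s⁻¹ by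
                  rw [mul_assoc, hv.eq, inv_mul_cancel_left]]
                group
            _ = (k : G) * (s * p * s⁻¹) * (k : G)⁻¹ := by rw [hc.eq, mul_inv_cancel_right]
        rcases hcase with hc | hc
        · exact Or.inl (conjx j hc)
        · refine Or.inr fun p hp => ?_
          have := conjx j⁻¹ (by rw [map_inv]; exact hc) p hp
          rwa [Subgroup.coe_inv, inv_inv] at this
      rcases hstep r hrN hrP with h | h
      · exact h
      -- inverted: cube
      intro p hp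
      exfalso
      have hinv : ∀ p ∈ PG, r * ((j : G)⁻¹ * p * j) * r⁻¹ = (j : G) * (r * p * r⁻¹) * (j : G)⁻¹ := by
        intro p hp
        have := h _ (hPGnorm hjPG p hp)
        rw [show (j : G) * ((j : G)⁻¹ * p * j) * (j : G)⁻¹ = p by group] at this
        rw [this]; group
      have hp' : r * p * r⁻¹ ∈ PG := hrP p hp
      have hc3 : ∀ z : G, r * (r * (r * z * r⁻¹) * r⁻¹) * r⁻¹ = z := fun z => by
        rw [show r * (r * (r * z * r⁻¹) * r⁻¹) * r⁻¹ = r ^ 3 * z * (r ^ 3)⁻¹ by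
          rw [pow_succ, pow_two]; group, hr3]
        group
      have key : ∀ q ∈ PG, (j : G) * q * (j : G)⁻¹ = (j : G)⁻¹ * q * j := by
        intro q hq
        have e1 := h q hq
        have e2 := hinv _ (hrP q hq)
        have e3 := h _ (hrP _ (hrP q hq))
        rw [← e1] at e2
        rw [← e2, hc3, hc3] at e3
        exact e3
      obtain ⟨⟨p1, hp1⟩, hp1o⟩ := exists_prime_orderOf_dvd_card' (G := (P : Subgroup c.KV)) 3
        (by rw [hP9]; norm_num)
      rw [Subgroup.orderOf_mk] at hp1o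
      have e4 := key _ (show (p1 : G) ∈ PG from ⟨p1, hp1, rfl⟩)
      have e5 : j * j * p1 * (j * j)⁻¹ = p1 := by
        apply Subtype.ext
        show (j : G) * j * p1 * ((j : G) * j)⁻¹ = p1
        rw [show (j : G) * j * p1 * ((j : G) * j)⁻¹ = (j : G) * ((j : G) * p1 * (j : G)⁻¹) * (j : G)⁻¹ by group,
          e4]
        group
      -- `j²` is an involution modulo `P'` and centralises an element of order three
      have hj4 : π (j * j) * π p1 = π p1 * π (j * j) := by
        rw [← map_mul, ← map_mul]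
        exact congrArg π (mul_inv_eq_iff_eq_mul.1 e5)
      refine hj2free (π p1) ⟨p1, hp1, rfl⟩
        (fun e' => by
          rw [hker p1 hp1 e', orderOf_one] at hp1o
          omega) ?_
      rw [Commute, SemiconjBy, ← map_mul π j j]
      exact hj4
    -- a fixed point
    obtain ⟨p0, hp0, hp01, hp0r⟩ : ∃ p ∈ PG, p ≠ 1 ∧ r * p * r⁻¹ = p := by
      obtain ⟨⟨q, hq⟩, hqo⟩ := exists_prime_orderOf_dvd_card' (G := (P : Subgroup c.KV)) 3
        (by rw [hP9]; norm_num)
      rw [Subgroup.orderOf_mk] at hqo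
      have hqG : (q : G) ∈ PG := ⟨q, hq, rfl⟩
      have hq1 : (q : G) ≠ 1 := fun e' => by
        rw [OneMemClass.coe_eq_one.mp e', orderOf_one] at hqo
        omega
      set σ : G → G := fun a => r * a * r⁻¹ with hσ
      have hσ3 : ∀ a, σ (σ (σ a)) = a := fun a => by
        show r * (r * (r * a * r⁻¹) * r⁻¹) * r⁻¹ = a
        rw [show r * (r * (r * a * r⁻¹) * r⁻¹) * r⁻¹ = r ^ 3 * a * (r ^ 3)⁻¹ by
          rw [pow_succ, pow_two]; group, hr3]
        group
      have hσm : ∀ a b, σ (a * b) = σ a * σ b := fun a b => by simp only [hσ]; group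
      have hσi : ∀ a, σ a⁻¹ = (σ a)⁻¹ := fun a => by simp only [hσ]; group
      set d : G → G := fun a => σ a * a⁻¹ with hd
      have hdP : ∀ a ∈ PG, d a ∈ PG := fun a ha => mul_mem (hrP a ha) (inv_mem ha)
      by_cases h1 : d (q : G) = 1
      · exact ⟨q, hqG, hq1, mul_inv_eq_one.1 h1⟩
      by_cases h2 : d (d (q : G)) = 1
      · exact ⟨_, hdP _ hqG, h1, mul_inv_eq_one.1 h2⟩
      refine ⟨_, hdP _ (hdP _ hqG), h2, mul_inv_eq_one.1 ?_⟩
      -- `(σ - 1)³ = σ³ - 1` in exponent three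
      show d (d (d (q : G))) = 1
      have hA : IsMulCommutative PG := ⟨⟨fun a b => Subtype.ext (hPc a a.2 b b.2).eq⟩⟩
      set a : PG := ⟨q, hqG⟩
      set b : PG := ⟨σ q, hrP _ hqG⟩
      set c' : PG := ⟨σ (σ q), hrP _ (hrP _ hqG)⟩
      have e6 : d (d (d (q : G))) = ((a * c'⁻¹ * b * c'⁻¹ * b * a⁻¹ * b * c'⁻¹ : PG) : G) := by
        simp only [hd, hσm, hσi, hσ3, mul_inv_rev, inv_inv, Subgroup.coe_mul, Subgroup.coe_inv, a, b, c',
          mul_assoc]
      rw [e6]
      have e7 : a * c'⁻¹ * b * c'⁻¹ * b * a⁻¹ * b * c'⁻¹ = c'⁻¹ ^ 3 * b ^ 3 := by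
        letI : CommGroup PG := { (inferInstance : Group PG) with mul_comm := hA.is_comm.comm }
        simp [pow_succ, mul_comm, mul_assoc, mul_left_comm]
      rw [e7]
      simp only [Subgroup.coe_mul, SubgroupClass.coe_pow, Subgroup.coe_inv, inv_pow, c', b]
      rw [hP3 _ (hrP _ (hrP _ hqG)), hP3 _ (hrP _ hqG), inv_one, one_mul]
    have hcentP : ∀ p ∈ PG, Commute r p := by
      set X := PG ⊓ Subgroup.centralizer ({r} : Set G) with hX
      have h0X : p0 ∈ X :=
        ⟨hp0, Subgroup.mem_centralizer_singleton_iff.2 (mul_inv_eq_iff_eq_mul.1 hp0r).symm⟩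
      set p1 := (j : G) * p0 * (j : G)⁻¹ with hp1
      obtain ⟨q0, hq0, eq0⟩ := hp0
      have hp1X : p1 ∈ X := by
        refine ⟨⟨_, hjP q0 hq0, by rw [hp1, ← eq0]; rfl⟩,
          Subgroup.mem_centralizer_singleton_iff.2 ?_⟩
        have := hjr p0 (eq0 ▸ ⟨q0, hq0, rfl⟩)
        rw [hp0r] at this
        exact (mul_inv_eq_iff_eq_mul.1 this).symm
      have hnotin : p1 ∉ Subgroup.zpowers p0 := by
        rintro ⟨n, hn⟩
        have hq1 : q0 ≠ 1 := fun e' => hp01 (by rw [← eq0, e', map_one])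
        refine hjfree (π q0) ⟨q0, hq0, rfl⟩ (fun e' => hq1 (hker q0 hq0 e')) ⟨n, ?_⟩
        show π q0 ^ n = π j * π q0 * (π j)⁻¹
        rw [← map_zpow, ← map_inv, ← map_mul, ← map_mul]
        refine congrArg π (Subtype.ext ?_)
        rw [SubgroupClass.coe_zpow]
        have : (q0 : G) = p0 := eq0
        show (q0 : G) ^ n = (j : G) * q0 * (j : G)⁻¹
        rw [this]; exact hn
      have hXP : X = PG := by
        refine Subgroup.eq_of_le_of_card_ge inf_le_left ?_
        have hd : Nat.card X ∣ 9 := by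
          have := Subgroup.card_dvd_of_le (inf_le_left : X ≤ PG)
          rwa [hPG, Subgroup.card_map_of_injective c.KV.subtype_injective, hP9] at this
        rw [hPG, Subgroup.card_map_of_injective c.KV.subtype_injective, hP9]
        have h3X : 3 ≤ Nat.card (Subgroup.zpowers p0) := by
          rw [Nat.card_zpowers, orderOf_eq_prime (hP3 p0 h0X.1) hp01]
        have hlt' : Nat.card (Subgroup.zpowers p0) < Nat.card X := by
          refine lt_of_le_of_ne (Subgroup.card_le_of_le (Subgroup.zpowers_le.2 h0X)) fun e' => hnotin ?_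
          rw [Subgroup.eq_of_le_of_card_ge (Subgroup.zpowers_le.2 h0X) e'.ge]
          exact hp1X
        have key : ∀ d ≤ 9, d ∣ 9 → 3 < d → 9 ≤ d := by decide
        exact key _ (Nat.le_of_dvd (by norm_num) hd) hd (by omega)
      intro p hp
      rw [← hXP] at hp
      exact (Subgroup.mem_centralizer_singleton_iff.1 hp.2).symm
    -- rank three
    set gens : Set G := (PG : Set G) ∪ {r} with hgens
    set A := Subgroup.closure gens with hA
    have hgc : ∀ a ∈ gens, ∀ b ∈ gens, a * b = b * a := by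
      rintro a (ha | rfl) b (hb | rfl)
      · exact (hPc a ha b hb).eq
      · exact (hcentP a ha).symm.eq
      · exact (hcentP b hb).eq
      · rfl
    haveI hAc : IsMulCommutative A := Subgroup.isMulCommutative_closure hgc
    have hA3 : ∀ a ∈ A, a ^ 3 = 1 := by
      intro a ha
      induction ha using Subgroup.closure_induction with
      | mem x hx =>
        rcases hx with hx | rfl
        · exact hP3 x hx
        · exact hr3
      | one => exact one_pow 3
      | mul x z hx hz h1 h2 =>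
        rw [Commute.mul_pow (congrArg Subtype.val (hAc.is_comm.comm ⟨x, hx⟩ ⟨z, hz⟩)), h1, h2, one_mul]
      | inv x _ h1 => rw [inv_pow, h1, inv_one]
    have hAN : A ≤ NV := (Subgroup.closure_le _).2 (by
      rintro a (ha | rfl)
      · exact hKNV (Subgroup.map_subtype_le _ ha)
      · exact hrN)
    have hloc : Cfsg.IsTwoLocal NV := by
      refine ⟨c.VV, c.T.isPGroup'.to_le c.grp_le_T, fun e' => ?_, rfl⟩
      have := (c.mem_grp_code closed_pV (show 1 < 128 by norm_num)).2 (by decide +kernel)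
      rw [show c.grp pV = c.VV from rfl, e', Subgroup.mem_bot] at this
      exact c.phi_ne_one (by norm_num) (by norm_num) this
    haveI : IsMulCommutative (A.subgroupOf NV) := ⟨⟨fun a b => Subtype.ext (Subtype.ext
      (congrArg (fun x : A => (x : G))
        (hAc.is_comm.comm ⟨(a : NV), a.2⟩ ⟨(b : NV), b.2⟩)))⟩⟩
    have hle := c.qt 3 Nat.prime_three (by norm_num) NV hloc (A.subgroupOf NV) inferInstance
      fun a ha => Subtype.ext (by rw [SubgroupClass.coe_pow]; exact hA3 _ ha)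
    rw [Nat.card_congr (Subgroup.subgroupOfEquivOfLe hAN).toEquiv] at hle
    have hPA : PG ≤ A := fun p hp => Subgroup.subset_closure (Or.inl hp)
    have heq : PG = A := Subgroup.eq_of_le_of_card_ge hPA (by
      rw [hPG, Subgroup.card_map_of_injective c.KV.subtype_injective, hP9]
      exact hle)
    exact hrK (Subgroup.map_subtype_le _ (show r ∈ PG from heq ▸ Subgroup.subset_closure (Or.inr rfl)))

end Ctx

end

end Cfsg.Agent.Fus.SFourWr
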