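import Cfsg.Agent.Lib.Fus.SFourWreath.Model
import Cfsg.Prelude.Def_QuasithinSetup
import Cfsg.Prelude.Def_Quasithin

/-!
The model inside `S₄ ≀ 2`, and the resulting data in a quasithin group with a maximal 2-local
subgroup isomorphic to `S₄ ≀ 2`.
-/

set_option autoImplicit false
set_option linter.unusedSectionVars false

namespace Cfsg.Agent.Fus.SFourWr

open Equiv
open scoped Pointwise

/-- The dihedral group acting on four points. -/
def permD (x : ℕ) : Perm (Fin 4) :=
  (if x.testBit 1 then swap 0 1 else 1) * (if x.testBit 2 then swap 0 2 * swap 1 3 else 1) *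
    (if x.testBit 0 then swap 0 1 * swap 2 3 else 1)

/-- The block exchange. -/
def blockSwap : Perm (Fin 4 ⊕ Fin 4) := Equiv.sumComm (Fin 4) (Fin 4)

/-- The permutation of a code. -/
def permN (n : ℕ) : Perm (Fin 4 ⊕ Fin 4) :=
  sumCongr (permD (n % 8)) (permD (n / 8 % 8)) * (if 64 ≤ n then blockSwap else 1)

/-- A three-element normalising the four-group of a block. -/
def threeCycle : Perm (Fin 4) := swap 1 2 * swap 2 3

theorem permD_mul : ∀ x < 8, ∀ y < 8, permD (mulD x y) = permD x * permD y := by decide +kernel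

theorem mulD_lt : ∀ x < 8, ∀ y < 8, mulD x y < 8 := by decide +kernel

theorem permD_inj : ∀ x < 8, ∀ y < 8, permD x = permD y → x = y := by decide +kernel

theorem blockSwap_sq : blockSwap * blockSwap = 1 := by
  ext x
  rcases x with x | x <;> rfl

theorem blockSwap_mul (a b : Perm (Fin 4)) :
    blockSwap * sumCongr a b = sumCongr b a * blockSwap := by
  ext x
  rcases x with x | x <;> rfl

theorem permN_mul {m n : ℕ} (hm : m < 128) (hn : n < 128) :
    permN (mulN m n) = permN m * permN n := by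
  have l1 := mulD_lt (m % 8) (Nat.mod_lt _ (by norm_num)) (n % 8) (Nat.mod_lt _ (by norm_num))
  have l2 := mulD_lt (m / 8 % 8) (Nat.mod_lt _ (by norm_num)) (n / 8 % 8) (Nat.mod_lt _ (by norm_num))
  have l3 := mulD_lt (m % 8) (Nat.mod_lt _ (by norm_num)) (n / 8 % 8) (Nat.mod_lt _ (by norm_num))
  have l4 := mulD_lt (m / 8 % 8) (Nat.mod_lt _ (by norm_num)) (n % 8) (Nat.mod_lt _ (by norm_num))
  rcases lt_or_ge m 64 with h | h
  · rw [mulN, if_pos h]
    have e1 : (mulD (m % 8) (n % 8) + 8 * mulD (m / 8 % 8) (n / 8 % 8) + 64 * (n / 64)) % 8 =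
        mulD (m % 8) (n % 8) := by omega
    have e2 : (mulD (m % 8) (n % 8) + 8 * mulD (m / 8 % 8) (n / 8 % 8) + 64 * (n / 64)) / 8 % 8 =
        mulD (m / 8 % 8) (n / 8 % 8) := by omega
    unfold permN
    rw [e1, e2, permD_mul _ (Nat.mod_lt _ (by norm_num)) _ (Nat.mod_lt _ (by norm_num)),
      permD_mul _ (Nat.mod_lt _ (by norm_num)) _ (Nat.mod_lt _ (by norm_num)), if_neg (by omega : ¬ 64 ≤ m),
      mul_one, ← mul_assoc, Equiv.Perm.sumCongr_mul]
    congr 1
    rcases lt_or_ge n 64 with h' | h'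
    · rw [if_neg (by omega), if_neg (by omega)]
    · rw [if_pos (by omega), if_pos h']
  · rw [mulN, if_neg (by omega)]
    set s := (if n < 64 then 1 else 0 : ℕ) with hs
    have hs1 : s ≤ 1 := by rw [hs]; split_ifs <;> omega
    have e1 : (mulD (m % 8) (n / 8 % 8) + 8 * mulD (m / 8 % 8) (n % 8) + 64 * s) % 8 =
        mulD (m % 8) (n / 8 % 8) := by omega
    have e2 : (mulD (m % 8) (n / 8 % 8) + 8 * mulD (m / 8 % 8) (n % 8) + 64 * s) / 8 % 8 =
        mulD (m / 8 % 8) (n % 8) := by omega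
    unfold permN
    rw [e1, e2, permD_mul _ (Nat.mod_lt _ (by norm_num)) _ (Nat.mod_lt _ (by norm_num)),
      permD_mul _ (Nat.mod_lt _ (by norm_num)) _ (Nat.mod_lt _ (by norm_num)), if_pos h,
      mul_assoc (sumCongr (permD (m % 8)) (permD (m / 8 % 8))) blockSwap, ← mul_assoc blockSwap,
      blockSwap_mul, ← mul_assoc, ← mul_assoc, Equiv.Perm.sumCongr_mul, mul_assoc]
    congr 1
    rcases lt_or_ge n 64 with h' | h'
    · have : s = 1 := by rw [hs, if_pos h']
      rw [if_pos (by omega), if_neg (by omega), mul_one]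
    · have : s = 0 := by rw [hs, if_neg (by omega)]
      rw [if_neg (by omega), if_pos h', blockSwap_sq]

theorem eq_of_mulN_invN : ∀ a < 128, ∀ b < 128, mulN a (invN b) = 0 → a = b := by
  decide +kernel

theorem permN_inj : ∀ m < 128, permN m = 1 → m = 0 := by decide +kernel

theorem sumCongr_mem (a b : Perm (Fin 4)) : sumCongr a b ∈ Cfsg.blockStabilizerS4wr2 := by
  rw [Cfsg.blockStabilizerS4wr2, MulAction.mem_stabilizer_iff, Set.smul_set_insert, Set.smul_set_singleton]
  have h1 : sumCongr a b • Set.range (Sum.inl : Fin 4 → Fin 4 ⊕ Fin 4) = Set.range Sum.inl := by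
    ext x
    rw [Set.mem_smul_set_iff_inv_smul_mem, Perm.smul_def]
    rcases x with x | x <;> simp [Equiv.Perm.inv_def, Equiv.sumCongr_symm]
  have h2 : sumCongr a b • Set.range (Sum.inr : Fin 4 → Fin 4 ⊕ Fin 4) = Set.range Sum.inr := by
    ext x
    rw [Set.mem_smul_set_iff_inv_smul_mem, Perm.smul_def]
    rcases x with x | x <;> simp [Equiv.Perm.inv_def, Equiv.sumCongr_symm]
  rw [h1, h2]

theorem blockSwap_mem : blockSwap ∈ Cfsg.blockStabilizerS4wr2 := by
  rw [Cfsg.blockStabilizerS4wr2, MulAction.mem_stabilizer_iff, Set.smul_set_insert, Set.smul_set_singleton]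
  have h1 : blockSwap • Set.range (Sum.inl : Fin 4 → Fin 4 ⊕ Fin 4) = Set.range Sum.inr := by
    ext x
    simp [Set.mem_smul_set, blockSwap]
  have h2 : blockSwap • Set.range (Sum.inr : Fin 4 → Fin 4 ⊕ Fin 4) = Set.range Sum.inl := by
    ext x
    simp [Set.mem_smul_set, blockSwap]
  rw [h1, h2, Set.pair_comm]

theorem permN_mem (n : ℕ) : permN n ∈ Cfsg.blockStabilizerS4wr2 := by
  unfold permN
  refine mul_mem (sumCongr_mem _ _) ?_
  split_ifs
  · exact blockSwap_mem
  · exact one_mem _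

/-- The order of `S₄ ≀ 2` is `1152`. -/
theorem card_block : Nat.card Cfsg.blockStabilizerS4wr2 = 1152 := by
  let f : Perm (Fin 4) × Perm (Fin 4) × Bool → Cfsg.blockStabilizerS4wr2 := fun q =>
    ⟨sumCongr q.1 q.2.1 * (if q.2.2 then blockSwap else 1), mul_mem (sumCongr_mem _ _) (by
      split_ifs
      · exact blockSwap_mem
      · exact one_mem _)⟩
  have hf : Function.Surjective f := by
    rintro ⟨g, hg⟩
    have hg' := hg
    rw [Cfsg.blockStabilizerS4wr2, MulAction.mem_stabilizer_iff, Set.smul_set_insert,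
      Set.smul_set_singleton] at hg'
    have hm : g • Set.range (Sum.inl : Fin 4 → Fin 4 ⊕ Fin 4) ∈
        ({Set.range Sum.inl, Set.range Sum.inr} : Set (Set (Fin 4 ⊕ Fin 4))) := by
      rw [← hg']; exact Set.mem_insert _ _
    rcases hm with hm | hm
    · have : Set.MapsTo g (Set.range Sum.inl) (Set.range (Sum.inl : Fin 4 → Fin 4 ⊕ Fin 4)) :=
        fun x hx => hm ▸ ⟨x, hx, rfl⟩
      obtain ⟨⟨a, b⟩, hab⟩ := Perm.mem_sumCongrHom_range_of_perm_mapsTo_inl this
      exact ⟨(a, b, false), Subtype.ext (by simpa [f] using hab)⟩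
    · rw [Set.mem_singleton_iff] at hm
      have : Set.MapsTo (blockSwap * g : Perm (Fin 4 ⊕ Fin 4)) (Set.range Sum.inl)
          (Set.range (Sum.inl : Fin 4 → Fin 4 ⊕ Fin 4)) := by
        intro x hx
        obtain ⟨i, hi⟩ : g x ∈ Set.range (Sum.inr : Fin 4 → Fin 4 ⊕ Fin 4) := hm ▸ ⟨x, hx, rfl⟩
        exact ⟨i, by rw [Perm.mul_apply, ← hi]; rfl⟩
      obtain ⟨⟨a, b⟩, hab⟩ := Perm.mem_sumCongrHom_range_of_perm_mapsTo_inl this
      refine ⟨(b, a, true), Subtype.ext ?_⟩
      have hab' : sumCongr a b = blockSwap * g := hab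
      show sumCongr b a * (if true then blockSwap else 1) = g
      rw [if_pos rfl, ← blockSwap_mul, hab', ← mul_assoc, blockSwap_sq, one_mul]
  have hinj : Function.Injective f := by
    rintro ⟨a, b, x⟩ ⟨a', b', y⟩ h
    have hh := congrArg Subtype.val h
    have h0 := Equiv.congr_fun hh (Sum.inl 0)
    cases x <;> cases y
    · have : sumCongr a b = sumCongr a' b' := by simpa [f] using hh
      have e := Equiv.Perm.sumCongrHom_injective (a₁ := (a, b)) (a₂ := (a', b')) this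
      simp only [Prod.mk.injEq] at e
      rw [e.1, e.2]
    · simp [f, blockSwap] at h0
    · simp [f, blockSwap] at h0
    · have : sumCongr a b = sumCongr a' b' := by simpa [f] using hh
      have e := Equiv.Perm.sumCongrHom_injective (a₁ := (a, b)) (a₂ := (a', b')) this
      simp only [Prod.mk.injEq] at e
      rw [e.1, e.2]
  rw [← Nat.card_eq_of_bijective f ⟨hinj, hf⟩]
  simp [Nat.card_eq_fintype_card, Fintype.card_perm]
  rfl

/-- The left and right three-elements. -/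
def perm1 : Perm (Fin 4 ⊕ Fin 4) := sumCongr threeCycle 1

/-- The right three-element. -/
def perm2 : Perm (Fin 4 ⊕ Fin 4) := sumCongr 1 threeCycle

theorem perm1_facts : perm1 * permN 1 = permN 4 * perm1 ∧ perm1 * permN 4 = permN 5 * perm1 ∧
    perm1 * permN 8 = permN 8 * perm1 ∧ perm1 * permN 16 = permN 16 * perm1 ∧
    perm1 * permN 32 = permN 32 * perm1 := by
  decide +kernel

theorem perm2_facts : perm2 * permN 8 = permN 32 * perm2 ∧ perm2 * permN 32 = permN 40 * perm2 ∧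
    perm2 * permN 1 = permN 1 * perm2 ∧ perm2 * permN 2 = permN 2 * perm2 ∧
    perm2 * permN 4 = permN 4 * perm2 := by
  decide +kernel

theorem perm_pow_facts : perm1 * perm1 * perm1 = 1 ∧ perm2 * perm2 * perm2 = 1 ∧
    perm1 * perm2 = perm2 * perm1 ∧
    (perm1 * perm2) * permN 64 = permN 64 * (perm1 * perm2) := by
  decide +kernel

theorem perm_ne_facts : perm1 ≠ 1 ∧ perm2 ≠ 1 ∧ perm1 ≠ perm2 ∧ perm1 ≠ perm2 * perm2 := by
  decide +kernel

universe u

/-- A quasithin group with a maximal 2-local subgroup `S₄ ≀ 2`, with coordinates. -/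
structure Ctx (G : Type u) [Group G] [Finite G] where
  φ : ℕ → G
  hmul : ∀ m < 128, ∀ n < 128, φ (mulN m n) = φ m * φ n
  hinj : ∀ m < 128, φ m = 1 → m = 0
  T : Sylow 2 G
  mem_T : ∀ g : G, g ∈ (T : Subgroup G) ↔ ∃ n < 128, φ n = g
  M : Subgroup G
  hM : Cfsg.IsMaximalTwoLocal M
  TM : (T : Subgroup G) ≤ M
  r1 : G
  r2 : G
  M_eq : M ≤ (T : Subgroup G) ⊔ (Subgroup.zpowers r1 ⊔ Subgroup.zpowers r2)
  r1M : r1 ∈ M
  r2M : r2 ∈ M
  r1_c : r1 * φ 1 = φ 4 * r1
  r1_v : r1 * φ 4 = φ 5 * r1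
  r1_fix : ∀ n ∈ [8, 16, 32], r1 * φ n = φ n * r1
  r2_c : r2 * φ 8 = φ 32 * r2
  r2_v : r2 * φ 32 = φ 40 * r2
  r2_fix : ∀ n ∈ [1, 2, 4], r2 * φ n = φ n * r2
  r1_pow : r1 * r1 * r1 = 1
  r2_pow : r2 * r2 * r2 = 1
  r_comm : r1 * r2 = r2 * r1
  r_t : (r1 * r2) * φ 64 = φ 64 * (r1 * r2)
  r1_ne : r1 ≠ 1
  r2_ne : r2 ≠ 1
  qt : Cfsg.IsQuasithin G
  ec : Cfsg.IsOfEvenCharacteristic G

theorem exists_ctx {G : Type u} [Group G] [Finite G] (hQ : Cfsg.IsQTKE G) (T : Sylow 2 G)
    (M : Subgroup G) (hM : M ∈ Cfsg.maxTwoLocalsContaining (T : Subgroup G))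
    (hW : Nonempty (↥M ≃* ↥Cfsg.blockStabilizerS4wr2)) : Nonempty (Ctx G) := by
  classical
  haveI := Fact.mk Nat.prime_two
  obtain ⟨hMm, hTM⟩ := hM
  obtain ⟨e⟩ := hW
  let ψ : Cfsg.blockStabilizerS4wr2 →* G := M.subtype.comp e.symm.toMonoidHom
  have hψ : Function.Injective ψ := M.subtype_injective.comp e.symm.injective
  have hψM : ∀ x, ψ x ∈ M := fun x => (e.symm x).2
  let φ : ℕ → G := fun n => ψ ⟨permN n, permN_mem n⟩
  have hmul : ∀ m < 128, ∀ n < 128, φ (mulN m n) = φ m * φ n := fun m hm n hn => by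
    show ψ _ = ψ _ * ψ _
    rw [← map_mul]
    exact congrArg ψ (Subtype.ext (permN_mul hm hn))
  have hone : φ 0 = 1 := by
    have h := hmul 0 (by norm_num) 0 (by norm_num)
    rw [show mulN 0 0 = 0 by decide +kernel] at h
    exact left_eq_mul.1 h
  have hinj : ∀ m < 128, φ m = 1 → m = 0 := fun m hm h => by
    refine permN_inj m hm ?_
    have h' : ψ ⟨permN m, permN_mem m⟩ = ψ 1 := by rw [map_one]; exact h
    exact congrArg Subtype.val (hψ h')
  let P : Subgroup G :=
    { carrier := {g | ∃ n < 128, φ n = g}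
      one_mem' := ⟨0, by norm_num, hone⟩
      mul_mem' := by
        rintro _ _ ⟨m, hm, rfl⟩ ⟨n, hn, rfl⟩
        exact ⟨mulN m n, mulN_lt m hm n hn, hmul m hm n hn⟩
      inv_mem' := by
        rintro _ ⟨m, hm, rfl⟩
        refine ⟨invN m, (invN_lt m hm).1, ?_⟩
        refine eq_inv_of_mul_eq_one_right ?_
        rw [← hmul m hm _ (invN_lt m hm).1, (invN_lt m hm).2, hone] }
  have hP : Nat.card P = 2 ^ 7 := by
    let f : Fin 128 → P := fun n => ⟨φ n, n, n.2, rfl⟩
    have hf : Function.Bijective f := by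
      refine ⟨fun a b h => Fin.ext ?_, fun g => ?_⟩
      · have h' : φ a = φ b := congrArg (fun x : P => (x : G)) h
        have h2 : φ (mulN a (invN b)) = 1 := by
          rw [hmul _ a.2 _ (invN_lt _ b.2).1, h', ← hmul _ b.2 _ (invN_lt _ b.2).1,
            (invN_lt _ b.2).2, hone]
        have h3 := hinj _ (mulN_lt _ a.2 _ (invN_lt _ b.2).1) h2
        exact eq_of_mulN_invN _ a.2 _ b.2 h3
      · obtain ⟨n, hn, hg⟩ := g.2
        exact ⟨⟨n, hn⟩, Subtype.ext hg⟩
    rw [← Nat.card_eq_of_bijective f hf, Nat.card_fin]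
    norm_num
  have hPM : P ≤ M := by
    rintro _ ⟨n, hn, rfl⟩
    exact hψM _
  have hMc : Nat.card M = 1152 := by
    rw [Nat.card_congr e.toEquiv]; exact card_block
  let r1 : G := ψ ⟨perm1, sumCongr_mem _ _⟩
  let r2 : G := ψ ⟨perm2, sumCongr_mem _ _⟩
  obtain ⟨p1, p2, p3, p4, p5⟩ := perm1_facts
  obtain ⟨q1, q2, q3, q4, q5⟩ := perm2_facts
  obtain ⟨w1, w2, w3, w4⟩ := perm_pow_facts
  obtain ⟨n1, n2, n3, n4⟩ := perm_ne_facts
  have tr : ∀ {a b c d : Cfsg.blockStabilizerS4wr2},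
      (a : Perm (Fin 4 ⊕ Fin 4)) * b = c * d → ψ a * ψ b = ψ c * ψ d := fun {a b c d} h => by
    rw [← map_mul, ← map_mul]; exact congrArg ψ (Subtype.ext h)
  have hne : ∀ {a b : Cfsg.blockStabilizerS4wr2},
      (a : Perm (Fin 4 ⊕ Fin 4)) ≠ b → ψ a ≠ ψ b := fun {a b} h e' =>
    h (congrArg Subtype.val (hψ e'))
  have hr1 : r1 * r1 * r1 = 1 := by
    rw [← map_mul, ← map_mul, ← map_one ψ]
    exact congrArg ψ (Subtype.ext w1)
  have hr2 : r2 * r2 * r2 = 1 := by
    rw [← map_mul, ← map_mul, ← map_one ψ]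
    exact congrArg ψ (Subtype.ext w2)
  have h1 : r1 ≠ 1 := by
    rw [← map_one ψ]; exact hne n1
  have h2 : r2 ≠ 1 := by
    rw [← map_one ψ]; exact hne n2
  haveI : Fact (Nat.Prime 3) := ⟨Nat.prime_three⟩
  have o1 : orderOf r1 = 3 := orderOf_eq_prime (by rw [pow_succ, pow_two, hr1]) h1
  have o2 : orderOf r2 = 3 := orderOf_eq_prime (by rw [pow_succ, pow_two, hr2]) h2
  have hcm : r1 * r2 = r2 * r1 := tr w3
  have hnot : r1 ∉ Subgroup.zpowers r2 := by
    intro h
    obtain ⟨j, hj, he⟩ : ∃ j < 3, r2 ^ j = r1 := by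
      have := mem_zpowers_iff_mem_range_orderOf.1 h
      simpa [o2] using this
    interval_cases j
    · exact h1 (by rw [← he, pow_zero])
    · rw [pow_one] at he
      exact hne n3 he.symm
    · rw [pow_two] at he
      have h' : ψ ⟨perm1, sumCongr_mem _ _⟩ =
          ψ (⟨perm2, sumCongr_mem _ _⟩ * ⟨perm2, sumCongr_mem _ _⟩) := by
        rw [map_mul]; exact he.symm
      exact hne n4 h'
  let R : Subgroup G := Subgroup.zpowers r1 ⊔ Subgroup.zpowers r2
  have hdisj : ∀ x ∈ Subgroup.zpowers r1, x ∈ Subgroup.zpowers r2 → x = 1 := by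
    intro x hx1 hx2
    obtain ⟨i, hi, rfl⟩ : ∃ i < 3, r1 ^ i = x := by
      have := mem_zpowers_iff_mem_range_orderOf.1 hx1
      simpa [o1] using this
    interval_cases i
    · rw [pow_zero]
    · rw [pow_one] at hx2; exact absurd hx2 hnot
    · have h := mul_mem hx2 hx2
      rw [pow_two, ← mul_assoc, hr1, one_mul] at h
      exact absurd h hnot
  let f : Subgroup.zpowers r1 × Subgroup.zpowers r2 →* G :=
    (Subgroup.zpowers r1).subtype.noncommCoprod (Subgroup.zpowers r2).subtype (by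
      rintro ⟨a, ha⟩ ⟨b, hb⟩
      obtain ⟨i, rfl⟩ := ha
      obtain ⟨j, rfl⟩ := hb
      exact (Commute.zpow_zpow (hcm : Commute r1 r2) i j))
  have hf : Function.Injective f := by
    rw [injective_iff_map_eq_one]
    rintro ⟨⟨a, ha⟩, ⟨b, hb⟩⟩ hab
    have hab' : a * b = 1 := hab
    have ha' : a ∈ Subgroup.zpowers r2 := by
      rw [eq_inv_of_mul_eq_one_left hab']
      exact (Subgroup.zpowers r2).inv_mem hb
    have := hdisj a ha ha'
    subst this
    rw [one_mul] at hab'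
    subst hab'
    rfl
  have hgen : M ≤ P ⊔ R := by
    have hle : P ⊔ R ≤ M :=
      sup_le hPM (sup_le (Subgroup.zpowers_le.2 (hψM _)) (Subgroup.zpowers_le.2 (hψM _)))
    have h128 : 128 ∣ Nat.card (P ⊔ R : Subgroup G) := by
      have := Subgroup.card_dvd_of_le (le_sup_left : P ≤ P ⊔ R)
      rwa [hP] at this
    have h9 : 9 ∣ Nat.card (P ⊔ R : Subgroup G) := by
      refine dvd_trans ?_ (Subgroup.card_dvd_of_le (le_sup_right : R ≤ P ⊔ R))
      have hfR : f.range ≤ R := by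
        rintro _ ⟨⟨a, b⟩, rfl⟩
        exact mul_mem (Subgroup.mem_sup_left a.2) (Subgroup.mem_sup_right b.2)
      have := Subgroup.card_dvd_of_le hfR
      rwa [← Nat.card_congr (MonoidHom.ofInjective hf).toEquiv, Nat.card_prod, Nat.card_zpowers,
        Nat.card_zpowers, o1, o2] at this
    have h1152 : 1152 ∣ Nat.card (P ⊔ R : Subgroup G) :=
      (show Nat.Coprime 128 9 by norm_num).mul_dvd_of_dvd_of_dvd h128 h9
    exact (Subgroup.eq_of_le_of_card_ge hle
      (by rw [hMc]; exact Nat.le_of_dvd Nat.card_pos h1152)).ge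
  have hTP : Nat.card (T : Subgroup G) = 2 ^ 7 := by
    obtain ⟨k, hk⟩ := T.isPGroup'.exists_card_eq
    obtain ⟨S, hS⟩ := (IsPGroup.of_card hP).exists_le_sylow
    have hSk : Nat.card (S : Subgroup G) = 2 ^ k := by
      rw [S.card_eq_multiplicity, ← T.card_eq_multiplicity, hk]
    have h7 : 2 ^ 7 ∣ 2 ^ k := by
      rw [← hP, ← hSk]; exact Subgroup.card_dvd_of_le hS
    have hd : 2 ^ k ∣ 2 ^ 7 * 9 := by
      rw [← hk]
      have := Subgroup.card_dvd_of_le hTM
      rwa [hMc] at this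
    have hd' : 2 ^ k ∣ 2 ^ 7 :=
      (Nat.Coprime.pow_left k (show Nat.Coprime 2 9 by norm_num)).dvd_of_dvd_mul_right hd
    rw [hk]
    exact Nat.dvd_antisymm hd' h7
  refine ⟨⟨φ, hmul, hinj, Sylow.ofCard P (by rw [hP, ← hTP, T.card_eq_multiplicity]),
    fun g => Iff.rfl, M, hMm, hPM, r1, r2, hgen, hψM _, hψM _, tr p1, tr p2, ?_, tr q1, tr q2, ?_,
    hr1, hr2, hcm, ?_, h1, h2, hQ.1, hQ.2.2⟩⟩
  · intro n hn
    simp only [List.mem_cons, List.mem_nil_iff, or_false] at hn
    rcases hn with rfl | rfl | rfl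
    · exact tr p3
    · exact tr p4
    · exact tr p5
  · intro n hn
    simp only [List.mem_cons, List.mem_nil_iff, or_false] at hn
    rcases hn with rfl | rfl | rfl
    · exact tr q3
    · exact tr q4
    · exact tr q5
  · show ψ _ * ψ _ * ψ _ = ψ _ * (ψ _ * ψ _)
    rw [← map_mul, ← map_mul, ← map_mul]
    exact congrArg ψ (Subtype.ext w4)

end Cfsg.Agent.Fus.SFourWr
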