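import Cfsg.Agent.Lib.Fus.SFourWreath.Norm
import Cfsg.Agent.S0111

/-!
Fusion in `W` and in `U`, the centraliser of `U`, and transfer.
-/

set_option autoImplicit false
set_option linter.unusedSectionVars false

namespace Cfsg.Agent.Fus.SFourWr

universe u

/-- Codes of the one-sided elements of `W`. -/
def oneSided : List ℕ := [1, 4, 5, 8, 32, 40]

theorem oneSided_conj : ∀ g < 128, ∀ n ∈ oneSided, conjN g n ∈ oneSided := by decide +kernel

/-- The subgroup of index two used for transfer. -/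
def pK (x : ℕ) : Bool :=
  if x < 64 then !(Bool.xor (x.testBit 1) (x.testBit 4)) else Bool.xor (x.testBit 1) (x.testBit 4)

theorem closed_pK : ClosedP pK := by
  refine ⟨rfl, ?_⟩
  decide +kernel

theorem card_pK : (allT.filter pK).length = 64 := by decide +kernel

theorem pK_inv : ∀ x < 128, isInv x = true → pK x = true → typ x ∈ [0, 1, 4] := by decide +kernel

theorem reps_transfer : ∀ i ∈ [2, 3, 5],
    rep i < 128 ∧ pK (rep i) = false ∧ isInv (rep i) = true := by decide +kernel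

theorem card_allT : (allT.filter fun _ => true).length = 128 := by decide +kernel

theorem reps'_typ : ∀ r ∈ reps', r < 128 ∧
    (r = rep (typ r) ∨ (r, rep (typ r)) ∈ [(4, 1), (12, 9), (36, 9), (20, 17)]) := by decide +kernel

section

variable {G : Type u} [Group G] [Finite G] (c : Ctx G)

namespace Ctx

theorem card_T : Nat.card (c.T : Subgroup G) = 128 := by
  have h := c.card_grp (p := fun _ => true) ⟨rfl, fun _ _ _ _ _ _ => rfl⟩
  rw [card_allT] at h
  rw [← h]
  refine Nat.card_congr (Equiv.setCongr ?_)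
  ext x
  rw [SetLike.mem_coe, SetLike.mem_coe, c.mem_grp ⟨rfl, fun _ _ _ _ _ _ => rfl⟩, c.mem_T]
  simp

/-- The move of a code by an element. -/
theorem conj_code_mul {g : G} {a b a' b' : ℕ} (ha : a < 128) (hb : b < 128) (ha' : a' < 128)
    (hb' : b' < 128) (h1 : g * c.φ a = c.φ a' * g) (h2 : g * c.φ b = c.φ b' * g) :
    g * c.φ (mulN a b) = c.φ (mulN a' b') * g := by
  rw [c.hmul a ha b hb, c.hmul a' ha' b' hb', ← mul_assoc, h1, mul_assoc, h2, ← mul_assoc]

theorem M_le {H : Subgroup G} (hT : (c.T : Subgroup G) ≤ H) (h1 : c.r1 ∈ H) (h2 : c.r2 ∈ H) :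
    c.M ≤ H :=
  c.M_eq.trans (sup_le hT (sup_le (Subgroup.zpowers_le.2 h1) (Subgroup.zpowers_le.2 h2)))

theorem r_on_W : c.r1 ∈ Subgroup.normalizer (c.EE 45 : Set G) ∧
    c.r2 ∈ Subgroup.normalizer (c.EE 45 : Set G) := by
  have e45 : (45 : ℕ) ∈ elem16 := by simp [elem16]
  have mk : ∀ r : G, (∀ b ∈ [1, 4, 8, 32], ∃ a, inE 45 a = true ∧ r * c.φ b = c.φ a * r) →
      r ∈ Subgroup.normalizer (c.EE 45 : Set G) := by
    intro r h
    refine mem_normalizer_of_conj fun x hx => ?_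
    have hle : c.EE 45 ≤ (c.EE 45).comap (MulAut.conj r).toMonoidHom := c.EE_le e45 fun b hb hb45 => by
      obtain ⟨a, ha, e⟩ := h b (by fin_cases hb <;> simp [inE] at hb45 ⊢)
      rw [Subgroup.mem_comap]
      show r * c.φ b * r⁻¹ ∈ _
      rw [e, mul_inv_cancel_right]
      exact (c.mem_EE e45).2 ⟨a, ha, rfl⟩
    exact hle hx
  refine ⟨mk _ fun b hb => ?_, mk _ fun b hb => ?_⟩ <;> fin_cases hb
  · exact ⟨4, rfl, c.r1_c⟩
  · exact ⟨5, rfl, c.r1_v⟩
  · exact ⟨8, rfl, c.r1_fix 8 (by simp)⟩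
  · exact ⟨32, rfl, c.r1_fix 32 (by simp)⟩
  · exact ⟨1, rfl, c.r2_fix 1 (by simp)⟩
  · exact ⟨4, rfl, c.r2_fix 4 (by simp)⟩
  · exact ⟨32, rfl, c.r2_c⟩
  · exact ⟨40, rfl, c.r2_v⟩

theorem normalizer_W : Subgroup.normalizer (c.EE 45 : Set G) = c.M := by
  refine c.hM.2 _ ⟨c.EE 45, c.T.isPGroup'.to_le c.grp_le_T, ?_, rfl⟩
    (c.M_le (c.T_le_normalizer (Or.inl rfl)) c.r_on_W.1 c.r_on_W.2)
  intro h
  have := (c.code_mem_EE (s := 45) (by simp [elem16]) (show 1 < 128 by norm_num)).2 rfl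
  rw [h, Subgroup.mem_bot] at this
  exact c.phi_ne_one (by norm_num) (by norm_num) this

theorem EE_comm {s : ℕ} (hs : s ∈ elem16) {a b : G} (ha : a ∈ c.EE s) (hb : b ∈ c.EE s) :
    Commute a b := by
  obtain ⟨x, hx, rfl⟩ := (c.mem_EE hs).1 ha
  obtain ⟨y, hy, rfl⟩ := (c.mem_EE hs).1 hb
  have := inE_lt hx
  have := inE_lt hy
  exact c.commute_of (by omega) (by omega) (inE_facts s hs x (inE_lt hx) y (inE_lt hy) hx hy).1

/-- Fusion in a weakly closed elementary subgroup is controlled by its normaliser. -/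
theorem control {s : ℕ} (hs : s = 45 ∨ s = 27) {x y : G} (hx : x ∈ c.EE s) (hy : y ∈ c.EE s)
    (h : IsConj x y) : ∃ n ∈ Subgroup.normalizer (c.EE s : Set G), n * x * n⁻¹ = y := by
  haveI := Fact.mk Nat.prime_two
  have hs' : s ∈ elem16 := by rcases hs with rfl | rfl <;> simp [elem16]
  obtain ⟨g, rfl⟩ := isConj_iff.1 h
  set C := Subgroup.centralizer ({g * x * g⁻¹} : Set G) with hC
  have hEC : c.EE s ≤ C := fun e he =>
    Subgroup.mem_centralizer_singleton_iff.2 (c.EE_comm hs' he hy).eq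
  have hgC : (c.EE s).map (MulAut.conj g).toMonoidHom ≤ C := by
    rintro _ ⟨e, he, rfl⟩
    refine Subgroup.mem_centralizer_singleton_iff.2 ?_
    show g * e * g⁻¹ * (g * x * g⁻¹) = g * x * g⁻¹ * (g * e * g⁻¹)
    rw [show g * e * g⁻¹ * (g * x * g⁻¹) = g * (e * x) * g⁻¹ by group, (c.EE_comm hs' he hx).eq]
    group
  have hp : IsPGroup 2 (c.EE s) := c.T.isPGroup'.to_le c.grp_le_T
  obtain ⟨P, hP⟩ := ((hp.comap_subtype (K := C)) : IsPGroup 2 ((c.EE s).subgroupOf C)).exists_le_sylow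
  obtain ⟨R, hR⟩ := (((hp.map (MulAut.conj g).toMonoidHom).comap_subtype (K := C)) :
    IsPGroup 2 (((c.EE s).map (MulAut.conj g).toMonoidHom).subgroupOf C)).exists_le_sylow
  obtain ⟨k, hk⟩ := MulAction.exists_smul_eq C R P
  refine ⟨(k : G) * g, Invol.mem_normalizer_of_map_eq ?_, ?_⟩
  · refine Invol.weaklyClosed_eq_self (c.weaklyClosed hs) (P.isPGroup'.map C.subtype)
      (fun e he => ⟨⟨e, hEC he⟩, hP he, rfl⟩) ?_
    rw [← Invol.map_conj_map_conj]
    rintro _ ⟨e, he, rfl⟩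
    refine ⟨k * ⟨e, hgC he⟩ * k⁻¹, ?_, rfl⟩
    rw [← hk]
    exact Subgroup.mem_map_of_mem (MulAut.conj k).toMonoidHom (hR he)
  · have := Subgroup.mem_centralizer_singleton_iff.1 k.2
    calc (k : G) * g * x * ((k : G) * g)⁻¹ = (k : G) * (g * x * g⁻¹) * (k : G)⁻¹ := by group
      _ = g * x * g⁻¹ := by rw [this, mul_inv_cancel_right]

/-- The one-sided involutions are not conjugate to the central one. -/
theorem not_conj_one_nine : ¬ IsConj (c.φ 1) (c.φ 9) := by
  intro h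
  have e45 : (45 : ℕ) ∈ elem16 := by simp [elem16]
  obtain ⟨n, hn, e⟩ := c.control (Or.inl rfl) ((c.code_mem_EE e45 (show 1 < 128 by norm_num)).2 rfl)
    ((c.code_mem_EE e45 (show 9 < 128 by norm_num)).2 rfl) h
  rw [c.normalizer_W] at hn
  set S : Set G := {g | ∃ k ∈ oneSided, c.φ k = g} with hS
  have mk : ∀ g : G, (∀ k ∈ oneSided, ∃ l ∈ oneSided, g * c.φ k = c.φ l * g) →
      g ∈ Subgroup.normalizer S := by
    intro g hg
    have hsub : (fun x => g * x * g⁻¹) '' S ⊆ S := by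
      rintro _ ⟨_, ⟨k, hk, rfl⟩, rfl⟩
      obtain ⟨l, hl, e⟩ := hg k hk
      exact ⟨l, hl, by simp only [e, mul_inv_cancel_right]⟩
    have heq : (fun x => g * x * g⁻¹) '' S = S := Set.eq_of_subset_of_ncard_le hsub
      (Set.ncard_image_of_injective S (fun a b hab => mul_left_cancel (mul_right_cancel hab))).ge
      (Set.toFinite _)
    exact Subgroup.mem_normalizer_iff_conj_image_eq.2 heq
  have hMS : c.M ≤ Subgroup.normalizer S := by
    refine c.M_le (fun t ht => mk t fun k hk => ?_) (mk _ fun k hk => ?_) (mk _ fun k hk => ?_)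
    · obtain ⟨a, ha, rfl⟩ := c.exists_code ht
      have hk' : k < 128 := by fin_cases hk <;> norm_num
      exact ⟨conjN a k, oneSided_conj a ha k hk, by rw [← c.phi_conj ha hk', inv_mul_cancel_right]⟩
    · have h5 := c.conj_code_mul (show 1 < 128 by norm_num) (show 4 < 128 by norm_num)
        (show 4 < 128 by norm_num) (show 5 < 128 by norm_num) c.r1_c c.r1_v
      have h40 := c.conj_code_mul (show 8 < 128 by norm_num) (show 32 < 128 by norm_num)
        (show 8 < 128 by norm_num) (show 32 < 128 by norm_num) (c.r1_fix 8 (by simp))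
        (c.r1_fix 32 (by simp))
      rw [show mulN 1 4 = 5 by decide +kernel, show mulN 4 5 = 1 by decide +kernel] at h5
      rw [show mulN 8 32 = 40 by decide +kernel] at h40
      fin_cases hk
      exacts [⟨4, by simp [oneSided], c.r1_c⟩, ⟨5, by simp [oneSided], c.r1_v⟩,
        ⟨1, by simp [oneSided], h5⟩, ⟨8, by simp [oneSided], c.r1_fix 8 (by simp)⟩,
        ⟨32, by simp [oneSided], c.r1_fix 32 (by simp)⟩, ⟨40, by simp [oneSided], h40⟩]
    · have h40 := c.conj_code_mul (show 8 < 128 by norm_num) (show 32 < 128 by norm_num)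
        (show 32 < 128 by norm_num) (show 40 < 128 by norm_num) c.r2_c c.r2_v
      have h5 := c.conj_code_mul (show 1 < 128 by norm_num) (show 4 < 128 by norm_num)
        (show 1 < 128 by norm_num) (show 4 < 128 by norm_num) (c.r2_fix 1 (by simp))
        (c.r2_fix 4 (by simp))
      rw [show mulN 1 4 = 5 by decide +kernel] at h5
      rw [show mulN 8 32 = 40 by decide +kernel, show mulN 32 40 = 8 by decide +kernel] at h40
      fin_cases hk
      exacts [⟨1, by simp [oneSided], c.r2_fix 1 (by simp)⟩, ⟨4, by simp [oneSided], c.r2_fix 4 (by simp)⟩,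
        ⟨5, by simp [oneSided], h5⟩, ⟨32, by simp [oneSided], c.r2_c⟩,
        ⟨40, by simp [oneSided], c.r2_v⟩, ⟨8, by simp [oneSided], h40⟩]
  have himg := Subgroup.mem_normalizer_iff_conj_image_eq.1 (hMS hn)
  obtain ⟨l, hl, hl'⟩ : (MulAut.conj n) (c.φ 1) ∈ S := himg ▸ ⟨_, ⟨1, by simp [oneSided], rfl⟩, rfl⟩
  rw [MulAut.conj_apply] at hl'
  rw [e] at hl'
  have := c.phi_inj (by fin_cases hl <;> norm_num) (by norm_num) hl'
  subst this
  simp [oneSided] at hl

/-- An element centralising `U` lies in it. -/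
theorem centralizer_U {g : G} (hg : ∀ x ∈ c.EE 27, Commute g x) : g ∈ c.EE 27 := by
  have e27 : (27 : ℕ) ∈ elem16 := by simp [elem16]
  set C := Subgroup.centralizer ((c.EE 27 : Subgroup G) : Set G) with hC
  have hmem : ∀ x, x ∈ C ↔ ∀ u ∈ c.EE 27, Commute x u := fun x => by
    rw [hC, Subgroup.mem_centralizer_iff]
    exact ⟨fun h u hu => (h u hu).symm, fun h u hu => (h u hu).symm.eq⟩
  have hTC : (c.T : Subgroup G) ≤ Subgroup.normalizer (C : Set G) := fun t ht =>
    mem_normalizer_of_conj fun x hx => (hmem _).2 fun u hu => by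
      have h := (hmem x).1 hx _ (c.T_normalises (Or.inr rfl) (inv_mem ht) hu)
      rw [inv_inv] at h
      calc t * x * t⁻¹ * u = t * (x * (t⁻¹ * u * t)) * t⁻¹ := by group
        _ = u * (t * x * t⁻¹) := by rw [h.eq]; group
  obtain ⟨Q, hQ⟩ := c.exists_coreZ
  have hodd : ∀ r ∈ C, OddOrd r → r = 1 := by
    intro r hr ho
    have hu : ∀ k, inE 27 k = true → Commute r (c.φ k) := fun k hk =>
      (hmem r).1 hr _ ((c.code_mem_EE e27 (by have := inE_lt hk; omega)).2 hk)
    refine c.core_trivial hQ ho (hu 9 rfl) fun x hx hxQ => ?_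
    have hyT := hQ.2.2.1 (hQ.1 r (hu 9 rfl) _ hxQ)
    have hxT := c.phi_mem (show x < 128 by omega)
    set y := r * c.φ x * r⁻¹ with hy
    set w := y * (c.φ x)⁻¹ with hw
    have hwT : w ∈ (c.T : Subgroup G) := mul_mem hyT (inv_mem hxT)
    have hwC : ∀ v ∈ c.EE 27, Commute w v := by
      intro v hv
      have hv' := c.T_normalises (Or.inr rfl) (inv_mem hxT) hv
      rw [inv_inv] at hv'
      have e1 : r * v * r⁻¹ = v := by rw [((hmem r).1 hr v hv).eq, mul_inv_cancel_right]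
      have e2 : r * ((c.φ x)⁻¹ * v * c.φ x) * r⁻¹ = (c.φ x)⁻¹ * v * c.φ x := by
        rw [((hmem r).1 hr _ hv').eq, mul_inv_cancel_right]
      have e3 : w * v * w⁻¹ = v := by
        calc w * v * w⁻¹ = y * ((c.φ x)⁻¹ * v * c.φ x) * y⁻¹ := by rw [hw]; group
          _ = r * (c.φ x * (r⁻¹ * ((c.φ x)⁻¹ * v * c.φ x) * r) * (c.φ x)⁻¹) * r⁻¹ := by rw [hy]; group
          _ = r * (c.φ x * ((c.φ x)⁻¹ * v * c.φ x) * (c.φ x)⁻¹) * r⁻¹ := by
            rw [show r⁻¹ * ((c.φ x)⁻¹ * v * c.φ x) * r = (c.φ x)⁻¹ * v * c.φ x by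
              nth_rewrite 1 [← e2]; group]
          _ = r * v * r⁻¹ := by group
          _ = v := e1
      exact mul_inv_eq_iff_eq_mul.1 e3
    obtain ⟨k, hk, hkw⟩ := c.exists_code hwT
    have h1 : ∀ b, inE 27 b = true → commB k b = true := fun b hb => by
      have hb' := inE_lt hb
      refine (c.commute_iff hk (by omega)).1 ?_
      rw [hkw]
      exact hwC _ ((c.code_mem_EE e27 (by omega)).2 hb)
    have hk27 := cent_uu k hk (h1 1 rfl) (h1 2 rfl) (h1 16 rfl)
    refine c.commute_stab ho hwT (hkw ▸ hu k hk27) ?_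
    rw [hw, hy]; group
  have hCT : C ≤ (c.T : Subgroup G) := c.le_T (isPGroup_of_odd hodd) hTC
  obtain ⟨k, hk, rfl⟩ := c.exists_code (hCT ((hmem g).2 hg))
  have h1 : ∀ b, inE 27 b = true → commB k b = true := fun b hb => by
    have hb' := inE_lt hb
    exact (c.commute_iff hk (by omega)).1 (hg _ ((c.code_mem_EE e27 (by omega)).2 hb))
  exact (c.code_mem_EE e27 hk).2 (cent_uu k hk (h1 1 rfl) (h1 2 rfl) (h1 16 rfl))

/-- Every involution of `T` is conjugate to the representative of its type. -/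
theorem conj_rep {x : ℕ} (hx : x < 128) (hi : isInv x = true) :
    IsConj (c.φ (rep (typ x))) (c.φ x) := by
  obtain ⟨g, hg, r, hr, hgr, ht⟩ := orbit_facts x hx hi
  obtain ⟨hr', hcase⟩ := reps'_typ r hr
  have h1 : IsConj (c.φ r) (c.φ x) := isConj_iff.2 ⟨c.φ g, by rw [c.phi_conj hg hr', hgr]⟩
  rw [ht] at hcase
  refine IsConj.trans ?_ h1
  rcases hcase with e | e
  · rw [← e]
  have m12 : c.r1 * c.φ 9 = c.φ 12 * c.r1 := by
    have := c.conj_code_mul (show 1 < 128 by norm_num) (show 8 < 128 by norm_num)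
      (show 4 < 128 by norm_num) (show 8 < 128 by norm_num) c.r1_c (c.r1_fix 8 (by simp))
    rwa [show mulN 1 8 = 9 by decide +kernel, show mulN 4 8 = 12 by decide +kernel] at this
  have m36 : c.r2 * c.φ 12 = c.φ 36 * c.r2 := by
    have := c.conj_code_mul (show 4 < 128 by norm_num) (show 8 < 128 by norm_num)
      (show 4 < 128 by norm_num) (show 32 < 128 by norm_num) (c.r2_fix 4 (by simp)) c.r2_c
    rwa [show mulN 4 8 = 12 by decide +kernel, show mulN 4 32 = 36 by decide +kernel] at this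
  have m20 : c.r1 * c.φ 17 = c.φ 20 * c.r1 := by
    have := c.conj_code_mul (show 1 < 128 by norm_num) (show 16 < 128 by norm_num)
      (show 4 < 128 by norm_num) (show 16 < 128 by norm_num) c.r1_c (c.r1_fix 16 (by simp))
    rwa [show mulN 1 16 = 17 by decide +kernel, show mulN 4 16 = 20 by decide +kernel] at this
  have cv : ∀ {g : G} {a b : ℕ}, g * c.φ a = c.φ b * g → IsConj (c.φ a) (c.φ b) := fun {g a b} h =>
    isConj_iff.2 ⟨g, by rw [h, mul_inv_cancel_right]⟩
  simp only [List.mem_cons, Prod.mk.injEq, List.mem_nil_iff, or_false] at e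
  rcases e with ⟨rfl, e⟩ | ⟨rfl, e⟩ | ⟨rfl, e⟩ | ⟨rfl, e⟩ <;> rw [e]
  · exact cv c.r1_c
  · exact cv m12
  · exact (cv m12).trans (cv m36)
  · exact cv m20

/-- Thompson transfer. -/
theorem transfer (hno : ∀ H : Subgroup G, H.index ≠ 2) {i : ℕ} (hi : i ∈ [2, 3, 5]) :
    ∃ j ∈ [0, 1, 4], IsConj (c.φ (rep i)) (c.φ (rep j)) := by
  have := Fact.mk Nat.prime_two
  obtain ⟨hlt, hK, hinv⟩ := reps_transfer i hi
  simp only [isInv, Bool.and_eq_true, beq_iff_eq, bne_iff_ne] at hinv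
  have ho : orderOf (c.φ (rep i)) = 2 := orderOf_eq_prime
    (by rw [pow_two]; exact (c.sq_eq_one_iff hlt).2 hinv.1) (c.phi_ne_one hlt hinv.2)
  have hidx : (c.grp pK).relIndex (c.T : Subgroup G) = 2 := by
    have h1 := ((c.grp pK).subgroupOf (c.T : Subgroup G)).card_mul_index
    rw [Nat.card_congr (Subgroup.subgroupOfEquivOfLe c.grp_le_T).toEquiv, c.card_grp closed_pK,
      card_pK, c.card_T] at h1
    rw [Subgroup.relIndex]
    omega
  rcases Cfsg.Agent.S0111.result c.T (c.grp pK) c.grp_le_T hidx (c.φ (rep i)) ho (c.phi_mem hlt)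
    (fun h => by rw [c.mem_grp_code closed_pK hlt, hK] at h; exact Bool.false_ne_true h) with
    ⟨H, -, hH, -⟩ | ⟨g, hg⟩
  · exact absurd hH (hno H)
  · obtain ⟨x, hx, hxK, e⟩ := (c.mem_grp closed_pK).1 hg
    have hcj : IsConj (c.φ (rep i)) (c.φ x) := isConj_iff.2 ⟨g, e.symm⟩
    have hxi : isInv x = true := by
      simp only [isInv, Bool.and_eq_true, beq_iff_eq, bne_iff_ne]
      refine ⟨(c.sq_eq_one_iff hx).1 ?_, fun h0 => ?_⟩
      · rw [e, show g * c.φ (rep i) * g⁻¹ * (g * c.φ (rep i) * g⁻¹) =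
          g * (c.φ (rep i) * c.φ (rep i)) * g⁻¹ by group, (c.sq_eq_one_iff hlt).2 hinv.1]
        group
      · subst h0
        rw [c.phi_zero, eq_comm, conj_eq_one_iff] at e
        exact c.phi_ne_one hlt hinv.2 e
    exact ⟨typ x, pK_inv x hx hxi hxK, hcj.trans (c.conj_rep hx hxi).symm⟩

end Ctx

end

end Cfsg.Agent.Fus.SFourWr
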