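import Cfsg.Agent.Lib.Fus.SFourWreath.Model

/-!
The possible fusion patterns of the five classes of involutions of the base, and the linear maps of
`U₁ × U₂` preserving them.
-/

set_option autoImplicit false

namespace Cfsg.Agent.Fus.SFourWr

/-- Coordinates on `U₁ × U₂`: `c₁ = 1`, `u₁ = 2`, `c₂ = 4`, `u₂ = 8`. -/
def qv16 (x : ℕ) : ℕ := x % 4 + 4 * (x / 8 % 4)

/-- The code of a vector of `U₁ × U₂`. -/
def lift16 (q : ℕ) : ℕ := q % 4 + 8 * (q / 4)

/-- A fusion pattern: the labels of `b`, `m` and `d`; `0` is the class of `a`, `1` that of `z`, `2` a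
third one. -/
def labTyp (l : ℕ × ℕ × ℕ) (i : ℕ) : ℕ :=
  match i with | 0 => 0 | 1 => 1 | 2 => l.1 | 3 => l.2.1 | 4 => l.2.2 | _ => 4

/-- The seventeen patterns allowed by transfer. -/
def patterns : List (ℕ × ℕ × ℕ) :=
  [(0, 0, 0), (0, 1, 0), (1, 0, 0), (1, 1, 0), (0, 0, 1), (0, 1, 1), (1, 0, 1), (1, 1, 1),
   (0, 0, 2), (0, 1, 2), (0, 2, 2), (1, 0, 2), (1, 1, 2), (1, 2, 2), (2, 0, 2), (2, 1, 2), (2, 2, 2)]

/-- The patterns which need further arguments. -/
def survivors : List (ℕ × ℕ × ℕ) := [(0, 0, 0), (0, 1, 1), (1, 0, 1), (1, 0, 0), (0, 1, 0)]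

/-- The label of a base code; `3` for the identity and non-involutions. -/
def labX (l : ℕ × ℕ × ℕ) (x : ℕ) : ℕ := if isInv x then labTyp l (typ x) else 3

/-- The table of the linear map with the given images of the basis. -/
def mk16 (a b c d : ℕ) : List ℕ :=
  (List.range 16).map fun q => Nat.xor
    (Nat.xor (if q.testBit 0 then a else 0) (if q.testBit 1 then b else 0))
    (Nat.xor (if q.testBit 2 then c else 0) (if q.testBit 3 then d else 0))

/-- Application of a table. -/
def app (f : List ℕ) (q : ℕ) : ℕ := f.getD q 0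

/-- The linear maps of `U₁ × U₂` preserving the pattern. -/
def maps16 (l : ℕ × ℕ × ℕ) : List (List ℕ) :=
  let L : ℕ → ℕ := fun q => labX l (lift16 q)
  let R := List.range 16
  (R.filter fun a => L a == L 1).flatMap fun a =>
  ((R.filter fun b => L b == L 2).filter fun b => L (Nat.xor a b) == L 3).flatMap fun b =>
  ((R.filter fun c => L c == L 4).filter fun c => L (Nat.xor a c) == L 5 &&
      L (Nat.xor b c) == L 6 && L (Nat.xor (Nat.xor a b) c) == L 7).flatMap fun c =>
  ((R.filter fun d => L d == L 8).filter fun d =>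
      R.all fun q => L (app (mk16 a b c d) q) == L q).map fun d => mk16 a b c d

theorem mk16_mem : ∀ q < 16, qv16 (lift16 q) = q ∧ inE 27 (lift16 q) = true := by decide +kernel

theorem qv16_facts : ∀ x < 64, inE 27 x = true → lift16 (qv16 x) = x ∧ qv16 x < 16 := by
  decide +kernel

theorem qv16_mul : ∀ x < 64, inE 27 x = true → ∀ y < 64, inE 27 y = true →
    qv16 (mulN x y) = Nat.xor (qv16 x) (qv16 y) := by
  decide +kernel

/-- Either the pattern survives, or `a` is fused with nothing, or all maps fix `z` while `z` is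
fused, or all maps fix `{c₁, c₂}` while `c₁` is fused outside. -/
theorem kill_facts : ∀ l ∈ patterns, l ∈ survivors ∨ (l.1 ≠ 0 ∧ l.2.1 ≠ 0 ∧ l.2.2 ≠ 0) ∨
    (((maps16 l).all fun f => app f 5 == 5) = true ∧ ∃ i ∈ [2, 3, 4], labTyp l i = 1) ∨
    (((maps16 l).all fun f => app f 1 == 1 || app f 1 == 4) = true ∧ ∃ i ∈ [2, 3, 4], labTyp l i = 0) := by
  decide +kernel

theorem rep_facts : ∀ i < 5, rep i < 64 ∧ isInv (rep i) = true ∧ typ (rep i) = i ∧
    inE 27 (rep i) = true ∧ qv16 (rep i) = [1, 5, 2, 9, 10].getD i 0 := by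
  decide +kernel

theorem typ_base : ∀ x < 64, typ x < 5 := by decide +kernel

theorem typ_two : ∀ g < 128, typ (conjN g 2) = 2 ∧ conjN g 2 < 128 := by decide +kernel

theorem uu_conj_facts : (∀ g < 64, ∀ x < 64, inE 27 x = true → mulN (conjN g x) x ∈ [0, 1, 8, 9]) ∧
    ∀ g < 128, ∀ x ∈ [1, 8], conjN g x = x → g < 64 := by
  decide +kernel

theorem uu_centre : ∀ x ∈ [0, 1, 8, 9], inE 27 x = true := by decide +kernel

end Cfsg.Agent.Fus.SFourWr
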