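import Cfsg.Agent.Lib.Fus.SFourWreath.Fusion
import Cfsg.Agent.Lib.Fus.SFourWreath.LabelData

/-!
The tables of the elements of `N(U)`, and the five surviving fusion patterns.
-/

set_option autoImplicit false
set_option linter.unusedSectionVars false

namespace Cfsg.Agent.Fus.SFourWr

universe u

theorem labX_eq {l : ℕ × ℕ × ℕ} {x : ℕ} (h : isInv x = true) : labX l x = labTyp l (typ x) := by
  rw [labX, if_pos h]

theorem app_range {n : ℕ} (h : ℕ → ℕ) {q : ℕ} (hq : q < n) : app ((List.range n).map h) q = h q := by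
  simp [app, List.getD_eq_getElem?_getD, hq]

theorem patterns_complete : ∀ a < 3, ∀ d < 3, ∀ b < 3,
    ((a == 2 || b == 2) && d != 2 || patterns.contains (a, b, d)) = true := by
  decide +kernel

section

variable {G : Type u} [Group G] [Finite G] (c : Ctx G)

namespace Ctx

/-- The action of `g` on `U` read through the coordinates `qv` is the table `f`. -/
def Acts (qv : ℕ → ℕ) (g : G) (f : List ℕ) : Prop :=
  ∀ x, inE 27 x = true → ∃ y, inE 27 y = true ∧ c.φ y = g * c.φ x * g⁻¹ ∧ qv y = app f (qv x)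

theorem img_exists {g : G} (hg : g ∈ Subgroup.normalizer (c.EE 27 : Set G)) (x : ℕ) :
    ∃ y, inE 27 y = true ∧ (inE 27 x = true → c.φ y = g * c.φ x * g⁻¹) := by
  by_cases hx : inE 27 x = true
  · have h27 : (27 : ℕ) ∈ elem16 := by simp [elem16]
    have := (Subgroup.mem_normalizer_iff.1 hg (c.φ x)).1
      ((c.code_mem_EE h27 (by have := inE_lt hx; omega)).2 hx)
    obtain ⟨y, hy, e⟩ := (c.mem_EE h27).1 this
    exact ⟨y, hy, fun _ => e⟩
  · exact ⟨0, rfl, fun h => absurd h hx⟩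

/-- The image of a code of `U` under an element of `N(U)`. -/
noncomputable def img {g : G} (hg : g ∈ Subgroup.normalizer (c.EE 27 : Set G)) (x : ℕ) : ℕ :=
  (c.img_exists hg x).choose

theorem img_spec {g : G} (hg : g ∈ Subgroup.normalizer (c.EE 27 : Set G)) {x : ℕ}
    (hx : inE 27 x = true) :
    inE 27 (c.img hg x) = true ∧ c.φ (c.img hg x) = g * c.φ x * g⁻¹ :=
  ⟨(c.img_exists hg x).choose_spec.1, (c.img_exists hg x).choose_spec.2 hx⟩

theorem img_eq {g : G} (hg : g ∈ Subgroup.normalizer (c.EE 27 : Set G)) {x y : ℕ}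
    (hx : inE 27 x = true) (hy : y < 128) (h : c.φ y = g * c.φ x * g⁻¹) : c.img hg x = y :=
  c.phi_inj (by have := inE_lt (c.img_spec hg hx).1; omega) hy ((c.img_spec hg hx).2.trans h.symm)

theorem inE_mul {x y : ℕ} (hx : inE 27 x = true) (hy : inE 27 y = true) :
    inE 27 (mulN x y) = true :=
  (inE_facts 27 (by simp [elem16]) x (inE_lt hx) y (inE_lt hy) hx hy).2.1

theorem img_mul {g : G} (hg : g ∈ Subgroup.normalizer (c.EE 27 : Set G)) {x y : ℕ}
    (hx : inE 27 x = true) (hy : inE 27 y = true) :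
    c.img hg (mulN x y) = mulN (c.img hg x) (c.img hg y) := by
  obtain ⟨h1, e1⟩ := c.img_spec hg hx
  obtain ⟨h2, e2⟩ := c.img_spec hg hy
  have := inE_lt hx; have := inE_lt hy; have := inE_lt h1; have := inE_lt h2
  refine c.img_eq hg (inE_mul hx hy) (mulN_lt _ (by omega) _ (by omega)) ?_
  rw [c.hmul _ (by omega) _ (by omega), c.hmul _ (by omega) _ (by omega), e1, e2]
  group

theorem img_typ_conj {g : G} (hg : g ∈ Subgroup.normalizer (c.EE 27 : Set G)) {x : ℕ}
    (hx : inE 27 x = true) (hi : isInv x = true) :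
    isInv (c.img hg x) = true ∧ IsConj (c.φ x) (c.φ (c.img hg x)) := by
  obtain ⟨h1, e1⟩ := c.img_spec hg hx
  have hx' := inE_lt hx
  have h1' := inE_lt h1
  simp only [isInv, Bool.and_eq_true, beq_iff_eq, bne_iff_ne] at hi ⊢
  refine ⟨⟨(c.sq_eq_one_iff (by omega)).1 (c.EE_sq (s := 27) (by simp [elem16])
    ((c.code_mem_EE (by simp [elem16]) (by omega)).2 h1)), fun h0 => ?_⟩, isConj_iff.2 ⟨g, e1.symm⟩⟩
  rw [h0, c.phi_zero, eq_comm, conj_eq_one_iff] at e1
  exact c.phi_ne_one (by omega) hi.2 e1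

theorem acts_of (n : ℕ) (qv lift : ℕ → ℕ) {g : G}
    (hg : g ∈ Subgroup.normalizer (c.EE 27 : Set G))
    (hqv : ∀ x, inE 27 x = true → qv x < n)
    (hlift : ∀ q < n, inE 27 (lift q) = true ∧ qv (lift q) = q)
    (hwd : ∀ x y, inE 27 x = true → inE 27 y = true → qv x = qv y →
      qv (c.img hg x) = qv (c.img hg y)) :
    c.Acts qv g ((List.range n).map fun q => qv (c.img hg (lift q))) := by
  intro x hx
  obtain ⟨h1, e1⟩ := c.img_spec hg hx
  refine ⟨_, h1, e1, ?_⟩
  obtain ⟨h2, h3⟩ := hlift _ (hqv x hx)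
  rw [app_range _ (hqv x hx)]
  exact hwd _ _ hx h2 h3.symm

theorem acts_comp {qv : ℕ → ℕ} {g h : G} {f k : List ℕ} {n : ℕ} (hf : c.Acts qv g f)
    (hk : c.Acts qv h k) (hqv : ∀ x, inE 27 x = true → qv x < n) (hfl : f.length = n) :
    c.Acts qv (h * g) (f.map (app k)) := by
  intro x hx
  obtain ⟨y, hy, e, q⟩ := hf x hx
  obtain ⟨z, hz, e', q'⟩ := hk y hy
  refine ⟨z, hz, by rw [e', e]; group, ?_⟩
  rw [q', q]
  simp [app, List.getD_eq_getElem?_getD, hfl ▸ hqv x hx]

theorem acts_unique {qv : ℕ → ℕ} {g : G} {f k : List ℕ} (hf : c.Acts qv g f) (hk : c.Acts qv g k)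
    {x : ℕ} (hx : inE 27 x = true) : app f (qv x) = app k (qv x) := by
  obtain ⟨y, hy, e, q⟩ := hf x hx
  obtain ⟨z, hz, e', q'⟩ := hk x hx
  have hy' := inE_lt hy
  have hz' := inE_lt hz
  rw [← q, ← q', c.phi_inj (by omega : y < 128) (by omega : z < 128) (e.trans e'.symm)]

/-- The fusion pattern holds in `G`. -/
def Pattern (l : ℕ × ℕ × ℕ) : Prop :=
  ∀ i < 5, ∀ j < 5, IsConj (c.φ (rep i)) (c.φ (rep j)) ↔ labTyp l i = labTyp l j

theorem pattern_iff {l : ℕ × ℕ × ℕ} (hl : c.Pattern l) {x y : ℕ} (hx : x < 64) (hy : y < 64)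
    (hix : isInv x = true) (hiy : isInv y = true) :
    IsConj (c.φ x) (c.φ y) ↔ labX l x = labX l y := by
  rw [labX_eq hix, labX_eq hiy, ← hl _ (typ_base x hx) _ (typ_base y hy)]
  have h1 := c.conj_rep (show x < 128 by omega) hix
  have h2 := c.conj_rep (show y < 128 by omega) hiy
  exact ⟨fun h => (h1.trans h).trans h2.symm, fun h => (h1.symm.trans h).trans h2⟩

theorem exists_pattern (hno : ∀ H : Subgroup G, H.index ≠ 2) : ∃ l ∈ patterns, c.Pattern l := by
  classical
  let R : ℕ → G := fun i => c.φ (rep i)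
  let ld : ℕ := if IsConj (R 4) (R 0) then 0 else if IsConj (R 4) (R 1) then 1 else 2
  let f : ℕ → ℕ := fun i => if IsConj (R i) (R 0) then 0 else if IsConj (R i) (R 1) then 1 else 2
  let canon : ℕ → ℕ := fun v => match v with | 0 => 0 | 1 => 1 | _ => 4
  have h01 : ¬ IsConj (R 0) (R 1) := c.not_conj_one_nine
  have hcan : ∀ i ∈ [2, 3], IsConj (R i) (R (canon (f i))) ∧ (f i = 2 → ld = 2) := by
    intro i hi
    obtain ⟨j, hj, hij⟩ := c.transfer hno (i := i) (by simp at hi ⊢; omega)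
    by_cases h0 : IsConj (R i) (R 0)
    · refine ⟨?_, fun h => by simp only [f, if_pos h0] at h; omega⟩
      simp only [f, if_pos h0]
      exact h0
    by_cases h1 : IsConj (R i) (R 1)
    · refine ⟨?_, fun h => by simp only [f, if_neg h0, if_pos h1] at h; omega⟩
      simp only [f, if_neg h0, if_pos h1]
      exact h1
    simp only [f, if_neg h0, if_neg h1]
    simp only [List.mem_cons, List.mem_nil_iff, or_false] at hj
    rcases hj with rfl | rfl | rfl
    · exact absurd hij h0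
    · exact absurd hij h1
    refine ⟨hij, fun _ => ?_⟩
    simp only [ld]
    rw [if_neg fun h => h0 (hij.trans h), if_neg fun h => h1 (hij.trans h)]
  have hd : IsConj (R 4) (R (canon ld)) := by
    simp only [ld]
    split_ifs with h h'
    exacts [h, h', IsConj.refl _]
  have hv : ∀ i, f i ≤ 2 := fun i => by simp only [f]; split_ifs <;> omega
  have hld : ld ≤ 2 := by simp only [ld]; split_ifs <;> omega
  have hmem : (f 2, f 3, ld) ∈ patterns := by
    have := patterns_complete (f 2) (by have := hv 2; omega) ld (by omega) (f 3) (by have := hv 3; omega)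
    simp only [Bool.or_eq_true, Bool.and_eq_true, beq_iff_eq, bne_iff_ne, List.contains_iff_mem] at this
    rcases this with ⟨h | h, hne⟩ | h
    exacts [absurd ((hcan 2 (by simp)).2 h) hne, absurd ((hcan 3 (by simp)).2 h) hne, h]
  refine ⟨_, hmem, ?_⟩
  have hall : ∀ i < 5, IsConj (R i) (R (canon (labTyp (f 2, f 3, ld) i))) := by
    intro i hi
    interval_cases i
    · exact IsConj.refl _
    · exact IsConj.refl _
    · exact (hcan 2 (by simp)).1
    · exact (hcan 3 (by simp)).1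
    · exact hd
  have hlab : ∀ i < 5, labTyp (f 2, f 3, ld) i ≤ 2 ∧ (labTyp (f 2, f 3, ld) i = 2 → ld = 2) := by
    intro i hi
    interval_cases i
    · exact ⟨show (0 : ℕ) ≤ 2 by norm_num, fun h => absurd h (show (0 : ℕ) ≠ 2 by norm_num)⟩
    · exact ⟨show (1 : ℕ) ≤ 2 by norm_num, fun h => absurd h (show (1 : ℕ) ≠ 2 by norm_num)⟩
    · exact ⟨hv 2, (hcan 2 (by simp)).2⟩
    · exact ⟨hv 3, (hcan 3 (by simp)).2⟩
    · exact ⟨hld, id⟩
  have hsep : ld = 2 → ¬ IsConj (R 4) (R 0) ∧ ¬ IsConj (R 4) (R 1) := by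
    intro h
    simp only [ld] at h
    split_ifs at h with h1 h2
    all_goals first | omega | exact ⟨h1, h2⟩
  intro i hi j hj
  refine ⟨fun h => ?_, fun h => ?_⟩
  · obtain ⟨hi', hi2⟩ := hlab i hi
    obtain ⟨hj', hj2⟩ := hlab j hj
    have hc := ((hall i hi).symm.trans h).trans (hall j hj)
    generalize labTyp (f 2, f 3, ld) i = a at hc hi' hi2 ⊢
    generalize labTyp (f 2, f 3, ld) j = b at hc hj' hj2 ⊢
    interval_cases a <;> interval_cases b <;> first
      | rfl
      | exact absurd hc h01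
      | exact absurd hc.symm h01
      | exact absurd hc.symm (hsep (hj2 rfl)).1
      | exact absurd hc.symm (hsep (hj2 rfl)).2
      | exact absurd hc (hsep (hi2 rfl)).1
      | exact absurd hc (hsep (hi2 rfl)).2
  · exact (hall i hi).trans (h ▸ (hall j hj).symm)

/-- The table of an element of `N(U)` preserves the pattern. -/
theorem table_mem {l : ℕ × ℕ × ℕ} (hl : c.Pattern l) {g : G}
    (hg : g ∈ Subgroup.normalizer (c.EE 27 : Set G)) :
    ∃ f ∈ maps16 l, f.length = 16 ∧ c.Acts qv16 g f := by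
  have hlt : ∀ q < 16, lift16 q < 64 := fun q hq => inE_lt (mk16_mem q hq).2
  set f := (List.range 16).map fun q => qv16 (c.img hg (lift16 q)) with hf
  have hA : c.Acts qv16 g f :=
    c.acts_of 16 qv16 lift16 hg (fun x hx => (qv16_facts x (inE_lt hx) hx).2)
      (fun q hq => ⟨(mk16_mem q hq).2, (mk16_mem q hq).1⟩) fun x y hx hy h => by
        rw [← (qv16_facts x (inE_lt hx) hx).1, h, (qv16_facts y (inE_lt hy) hy).1]
  have happ : ∀ q < 16, app f q = qv16 (c.img hg (lift16 q)) := fun q hq => app_range _ hq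
  have hlin : ∀ a < 16, ∀ b < 16, app f (Nat.xor a b) = Nat.xor (app f a) (app f b) := by
    intro a ha b hb
    obtain ⟨qa, ea⟩ := mk16_mem a ha
    obtain ⟨qb, eb⟩ := mk16_mem b hb
    have hm := inE_mul ea eb
    have e1 : qv16 (mulN (lift16 a) (lift16 b)) = Nat.xor a b := by
      rw [qv16_mul _ (hlt a ha) ea _ (hlt b hb) eb, qa, qb]
    have e2 : lift16 (Nat.xor a b) = mulN (lift16 a) (lift16 b) := by
      rw [← e1, (qv16_facts _ (inE_lt hm) hm).1]
    have hab : Nat.xor a b < 16 := by rw [← e1]; exact (qv16_facts _ (inE_lt hm) hm).2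
    rw [happ _ hab, happ a ha, happ b hb, e2, c.img_mul hg ea eb,
      qv16_mul _ (inE_lt (c.img_spec hg ea).1) (c.img_spec hg ea).1 _
        (inE_lt (c.img_spec hg eb).1) (c.img_spec hg eb).1]
  have hlab : ∀ q < 16, labX l (lift16 (app f q)) = labX l (lift16 q) := by
    intro q hq
    obtain ⟨qq, eq⟩ := mk16_mem q hq
    obtain ⟨h1, e1⟩ := c.img_spec hg eq
    rw [happ q hq, (qv16_facts _ (inE_lt h1) h1).1]
    by_cases hi : isInv (lift16 q) = true
    · obtain ⟨hi', hc⟩ := c.img_typ_conj hg eq hi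
      exact ((c.pattern_iff hl (hlt q hq) (inE_lt h1) hi hi').1 hc).symm
    · have h0 : lift16 q = 0 := by
        simp only [isInv, Bool.and_eq_true, beq_iff_eq, bne_iff_ne, not_and, not_not] at hi
        exact hi (inE_facts 27 (by simp [elem16]) _ (hlt q hq) _ (hlt q hq) eq eq).2.2.1
      have : c.img hg (lift16 q) = 0 :=
        c.img_eq hg eq (by norm_num) (by rw [h0, c.phi_zero]; group)
      rw [this, h0]
  have hq : ∀ q < 16, app f q < 16 := fun q hq => by
    rw [happ q hq]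
    obtain ⟨h1, -⟩ := c.img_spec hg (mk16_mem q hq).2
    exact (qv16_facts _ (inE_lt h1) h1).2
  have f0 : app f 0 = 0 := by
    have h : app f 0 = Nat.xor (app f 0) (app f 0) := hlin 0 (by norm_num) 0 (by norm_num)
    rw [h]
    exact Nat.xor_self _
  have hfeq : f = mk16 (app f 1) (app f 2) (app f 4) (app f 8) := by
    have hdec : ∀ q < 16, q = Nat.xor
        (Nat.xor (if q.testBit 0 then 1 else 0) (if q.testBit 1 then 2 else 0))
        (Nat.xor (if q.testBit 2 then 4 else 0) (if q.testBit 3 then 8 else 0)) ∧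
        Nat.xor (if q.testBit 0 then 1 else 0) (if q.testBit 1 then 2 else 0) < 16 ∧
        Nat.xor (if q.testBit 2 then 4 else 0) (if q.testBit 3 then 8 else 0) < 16 := by
      decide +kernel
    apply List.ext_getElem
    · simp [hf, mk16]
    intro q h1 h2
    have hq16 : q < 16 := by simpa [hf] using h1
    obtain ⟨e, l1, l2⟩ := hdec q hq16
    have hb : ∀ b < 16, ∀ p : Bool, (if p then b else 0) < 16 ∧
        app f (if p then b else 0) = if p then app f b else 0 := fun b hb p => by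
      cases p <;> simp [f0, hb]
    have e' := congrArg (app f) e
    rw [hlin _ l1 _ l2, hlin _ (hb 1 (by norm_num) _).1 _ (hb 2 (by norm_num) _).1,
      hlin _ (hb 4 (by norm_num) _).1 _ (hb 8 (by norm_num) _).1, (hb 1 (by norm_num) _).2,
      (hb 2 (by norm_num) _).2, (hb 4 (by norm_num) _).2, (hb 8 (by norm_num) _).2] at e'
    have e1 : f[q]'h1 = app f q := (List.getD_eq_getElem f 0 h1).symm
    rw [e1, e']
    simp [mk16]
  refine ⟨f, ?_, by simp [hf], hA⟩
  have h3 : ∀ a, app f a = app f a := fun _ => rfl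
  have l1 := hlab 1 (by norm_num)
  have l2 := hlab 2 (by norm_num)
  have l4 := hlab 4 (by norm_num)
  have l8 := hlab 8 (by norm_num)
  have l3 := hlab 3 (by norm_num)
  have l5 := hlab 5 (by norm_num)
  have l6 := hlab 6 (by norm_num)
  have l7 := hlab 7 (by norm_num)
  rw [show (3 : ℕ) = Nat.xor 1 2 by decide, hlin 1 (by norm_num) 2 (by norm_num)] at l3
  rw [show (5 : ℕ) = Nat.xor 1 4 by decide, hlin 1 (by norm_num) 4 (by norm_num)] at l5
  rw [show (6 : ℕ) = Nat.xor 2 4 by decide, hlin 2 (by norm_num) 4 (by norm_num)] at l6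
  rw [show (7 : ℕ) = Nat.xor (Nat.xor 1 2) 4 by decide, hlin (Nat.xor 1 2) (by decide) 4 (by norm_num),
    hlin 1 (by norm_num) 2 (by norm_num)] at l7
  simp only [show Nat.xor 1 2 = 3 by decide] at l3 l7
  simp only [show Nat.xor 1 4 = 5 by decide] at l5
  simp only [show Nat.xor 2 4 = 6 by decide] at l6
  simp only [show Nat.xor 3 4 = 7 by decide] at l7
  rw [maps16]
  simp only [List.mem_flatMap, List.mem_map, List.mem_filter, List.mem_range, List.all_eq_true,
    Bool.and_eq_true, beq_iff_eq]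
  exact ⟨app f 1, ⟨hq 1 (by norm_num), l1⟩, app f 2, ⟨⟨hq 2 (by norm_num), l2⟩, l3⟩,
    app f 4, ⟨⟨hq 4 (by norm_num), l4⟩, ⟨l5, l6⟩, l7⟩, app f 8,
    ⟨⟨hq 8 (by norm_num), l8⟩, fun q hq' => hfeq ▸ hlab q hq'⟩, hfeq.symm⟩

/-- The pattern in which `a` is fused with nothing is impossible. -/
theorem a_alone_false (hno : ∀ H : Subgroup G, H.index ≠ 2) {l : ℕ × ℕ × ℕ} (hl : c.Pattern l)
    (hb : l.1 ≠ 0) (hm : l.2.1 ≠ 0) (hd : l.2.2 ≠ 0) : False := by
  have e27 : (27 : ℕ) ∈ elem16 := by simp [elem16]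
  have two : ∀ x, inE 27 x = true → IsConj (c.φ 1) (c.φ x) → x = 1 ∨ x = 8 := by
    intro x hx hc
    have hx' := inE_lt hx
    have hx0 : x ≠ 0 := fun h => by
      subst h
      rw [c.phi_zero] at hc
      obtain ⟨k, hk⟩ := isConj_iff.1 hc
      exact c.phi_ne_one (by norm_num) (by norm_num) (conj_eq_one_iff.1 hk)
    have hi : isInv x = true := by
      simp only [isInv, Bool.and_eq_true, beq_iff_eq, bne_iff_ne]
      exact ⟨(inE_facts 27 e27 x hx' x hx' hx hx).2.2.1, hx0⟩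
    have h := (c.pattern_iff hl (show 1 < 64 by norm_num) hx' (by decide +kernel) hi).1 hc
    have key : ∀ x < 64, inE 27 x = true → isInv x = true →
        typ x = 0 → x = 1 ∨ x = 8 := by decide +kernel
    refine key x hx' hx hi ?_
    rw [labX_eq hi, labX_eq (by decide +kernel), show typ 1 = 0 by decide +kernel] at h
    have ht := typ_base x hx'
    generalize typ x = t at h ht
    interval_cases t <;> simp only [labTyp] at h <;> first | rfl | omega
  set H := Subgroup.normalizer (c.EE 27 : Set G) with hH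
  have he : ∀ x, inE 27 x = true → c.φ x ∈ c.EE 27 := fun x hx =>
    (c.code_mem_EE e27 (by have := inE_lt hx; omega)).2 hx
  have hperm : ∀ n ∈ H, ∀ x ∈ [1, 8], ∃ y ∈ [1, 8], n * c.φ x * n⁻¹ = c.φ y := by
    intro n hn x hx
    have hx' : inE 27 x = true := by fin_cases hx <;> rfl
    obtain ⟨h1, e1⟩ := c.img_spec hn hx'
    refine ⟨_, ?_, e1.symm⟩
    have hcx : IsConj (c.φ 1) (c.φ x) := by
      fin_cases hx
      · exact IsConj.refl _
      · exact c.conj_rep (x := 8) (by norm_num) (by decide +kernel)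
    rcases two _ h1 (hcx.trans (isConj_iff.2 ⟨n, e1.symm⟩)) with e | e <;> simp [e]
  have hcen : ∀ n ∈ H, ∀ z ∈ [0, 1, 8, 9], ∃ z' ∈ [0, 1, 8, 9], n * c.φ z * n⁻¹ = c.φ z' := by
    intro n hn z hz
    obtain ⟨a, ha, ea⟩ := hperm n hn 1 (by simp)
    obtain ⟨b, hb, eb⟩ := hperm n hn 8 (by simp)
    fin_cases hz
    · exact ⟨0, by simp, by rw [c.phi_zero]; group⟩
    · exact ⟨a, by fin_cases ha <;> simp, ea⟩
    · exact ⟨b, by fin_cases hb <;> simp, eb⟩
    · have hab : ∀ a ∈ [1, 8], ∀ b ∈ [1, 8], mulN a b ∈ [0, 1, 8, 9] := by decide +kernel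
      refine ⟨mulN a b, hab a ha b hb, ?_⟩
      rw [c.hmul a (by fin_cases ha <;> norm_num) b (by fin_cases hb <;> norm_num), ← ea, ← eb,
        show (9 : ℕ) = mulN 1 8 by decide +kernel, c.hmul 1 (by norm_num) 8 (by norm_num)]
      group
  let P : G → Prop := fun g => g ∈ H ∧ Commute g (c.φ 1) ∧ Commute g (c.φ 8) ∧
    ∀ u ∈ c.EE 27, ∃ z ∈ [0, 1, 8, 9], g * u * g⁻¹ = c.φ z * u
  have hPone : P 1 := ⟨one_mem _, Commute.one_left _, Commute.one_left _,
    fun u _ => ⟨0, by simp, by rw [c.phi_zero]; group⟩⟩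
  have hzc : ∀ g, Commute g (c.φ 1) → Commute g (c.φ 8) → ∀ z ∈ [0, 1, 8, 9], Commute g (c.φ z) := by
    intro g h1 h8 z hz
    fin_cases hz
    · rw [c.phi_zero]; exact Commute.one_right _
    · exact h1
    · exact h8
    · rw [show (9 : ℕ) = mulN 1 8 by decide +kernel, c.hmul 1 (by norm_num) 8 (by norm_num)]
      exact h1.mul_right h8
  let K : Submonoid G :=
    { carrier := {g | P g}
      one_mem' := hPone
      mul_mem' := by
        rintro g k ⟨g1, g2, g3, g4⟩ ⟨k1, k2, k3, k4⟩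
        refine ⟨mul_mem g1 k1, g2.mul_left k2, g3.mul_left k3, fun u hu => ?_⟩
        obtain ⟨z, hz, e⟩ := k4 u hu
        obtain ⟨z', hz', e'⟩ := g4 u hu
        have hzz : ∀ a ∈ [0, 1, 8, 9], ∀ b ∈ [0, 1, 8, 9], mulN a b ∈ [0, 1, 8, 9] := by decide +kernel
        refine ⟨mulN z z', hzz z hz z' hz', ?_⟩
        rw [c.hmul z (by fin_cases hz <;> norm_num) z' (by fin_cases hz' <;> norm_num),
          show g * k * u * (g * k)⁻¹ = g * (k * u * k⁻¹) * g⁻¹ by group, e,
          show g * (c.φ z * u) * g⁻¹ = g * c.φ z * g⁻¹ * (g * u * g⁻¹) by group, e',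
          (hzc g g2 g3 z hz).eq, mul_inv_cancel_right, mul_assoc] }
  let KS : Subgroup G := Subgroup.closure {g | P g}
  have hKS : ∀ g, g ∈ KS ↔ P g := fun g => by
    refine ⟨fun hg => ?_, fun hg => Subgroup.subset_closure hg⟩
    rw [← Subgroup.mem_toSubmonoid, Subgroup.closure_toSubmonoid_of_finite] at hg
    exact Submonoid.closure_le.2 (le_refl (K : Set G)) hg
  have hnorm : ∀ n ∈ H, ∀ g, P g → P (n * g * n⁻¹) := by
    rintro n hn g ⟨g1, g2, g3, g4⟩
    have hc : ∀ z ∈ [1, 8], Commute (n * g * n⁻¹) (c.φ z) := by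
      intro z hz
      obtain ⟨y, hy, e⟩ := hperm n⁻¹ (inv_mem hn) z hz
      rw [inv_inv] at e
      have : Commute g (c.φ y) := hzc g g2 g3 y (by fin_cases hy <;> simp)
      rw [← e] at this
      calc n * g * n⁻¹ * c.φ z = n * (g * (n⁻¹ * c.φ z * n)) * n⁻¹ := by group
        _ = c.φ z * (n * g * n⁻¹) := by rw [this.eq]; group
    refine ⟨mul_mem (mul_mem hn g1) (inv_mem hn), hc 1 (by simp), hc 8 (by simp), fun u hu => ?_⟩
    obtain ⟨z, hz, e⟩ := g4 _ ((Subgroup.mem_normalizer_iff.1 (inv_mem hn) u).1 hu)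
    rw [inv_inv] at e
    obtain ⟨z', hz', e'⟩ := hcen n hn z hz
    refine ⟨z', hz', ?_⟩
    rw [show n * g * n⁻¹ * u * (n * g * n⁻¹)⁻¹ = n * (g * (n⁻¹ * u * n) * g⁻¹) * n⁻¹ by group, e, ← e']
    group
  have hodd : ∀ r ∈ KS, OddOrd r → r = 1 := by
    intro r hr ho
    obtain ⟨-, r1, r8, r4⟩ := (hKS r).1 hr
    have := c.centralizer_U (g := r) fun u hu => by
      obtain ⟨z, hz, e⟩ := r4 u hu
      exact c.commute_stab ho (c.phi_mem (by fin_cases hz <;> norm_num)) (hzc r r1 r8 z hz) e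
    exact c.odd_eq_one_T (c.grp_le_T this) ho
  have hTH : (c.T : Subgroup G) ≤ H := c.T_le_normalizer (Or.inr rfl)
  have hKT : KS ≤ (c.T : Subgroup G) := c.le_T (isPGroup_of_odd hodd) fun t ht =>
    mem_normalizer_of_conj fun g hg => (hKS _).2 (hnorm t (hTH ht) g ((hKS g).1 hg))
  have hBK : ∀ g, g ∈ c.BB ↔ P g := by
    intro g
    refine ⟨fun hg => ?_, fun hg => ?_⟩
    · obtain ⟨a, ha, rfl⟩ := c.mem_BB.1 hg
      refine ⟨hTH (c.phi_mem (by omega)), c.commute_of (by omega) (by norm_num) ((cent_one a (by omega)).1.2 ha),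
        c.commute_of (by omega) (by norm_num) ((cent_one a (by omega)).2.2 ha), fun u hu => ?_⟩
      obtain ⟨x, hx, rfl⟩ := (c.mem_EE e27).1 hu
      have hx' := inE_lt hx
      have hl := conjN_lt a (by omega) x (by omega)
      refine ⟨_, uu_conj_facts.1 a ha x hx' hx, ?_⟩
      rw [c.hmul _ hl.1 x (by omega), ← c.phi_conj (by omega) (by omega), mul_assoc, mul_assoc,
        c.EE_sq e27 (he x hx), mul_one]
    · obtain ⟨a, ha, rfl⟩ := c.exists_code (hKT ((hKS g).2 hg))
      refine c.mem_BB.2 ⟨a, ?_, rfl⟩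
      refine uu_conj_facts.2 a ha 1 (by simp) (c.phi_inj (conjN_lt a ha 1 (by norm_num)).1 (by norm_num) ?_)
      rw [← c.phi_conj ha (by norm_num), hg.2.1.eq, mul_inv_cancel_right]
  obtain ⟨j, hj, hbj⟩ := c.transfer hno (i := 2) (by simp)
  obtain ⟨hj1, hj2, hj3, hj4, -⟩ := rep_facts j (by fin_cases hj <;> norm_num)
  obtain ⟨n, hn, e⟩ := c.control (Or.inr rfl) (he 2 rfl) (he _ hj4) hbj
  have hnT := c.mem_T_of_normB (g := n) fun b hb => (hBK _).2 (hnorm n hn b ((hBK b).1 hb))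
  obtain ⟨a, ha, rfl⟩ := c.exists_code hnT
  rw [c.phi_conj ha (by norm_num)] at e
  obtain ⟨ht, hlt⟩ := typ_two a ha
  have := c.phi_inj hlt (by omega) e
  rw [this, hj3] at ht
  subst ht
  simp at hj

theorem survivor (hno : ∀ H : Subgroup G, H.index ≠ 2) : ∃ l ∈ survivors, c.Pattern l := by
  obtain ⟨l, hlm, hl⟩ := c.exists_pattern hno
  refine ⟨l, ?_, hl⟩
  have e27 : (27 : ℕ) ∈ elem16 := by simp [elem16]
  have key : ∀ x ∈ [0, 1], ∀ i ∈ [2, 3, 4], labTyp l i = x →
      ∃ f ∈ maps16 l, app f ([1, 5].getD x 0) = [1, 5, 2, 9, 10].getD i 0 := by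
    intro x hx i hi hlab
    have hi5 : i < 5 := by fin_cases hi <;> norm_num
    have hx5 : x < 5 := by fin_cases hx <;> norm_num
    obtain ⟨i1, -, -, i4, i5⟩ := rep_facts i hi5
    obtain ⟨x1, -, -, x4, x5⟩ := rep_facts x hx5
    have hc : IsConj (c.φ (rep x)) (c.φ (rep i)) := (hl x hx5 i hi5).2 (by
      rw [hlab]; fin_cases hx <;> rfl)
    obtain ⟨n, hn, e⟩ := c.control (Or.inr rfl) ((c.code_mem_EE e27 (by omega)).2 x4)
      ((c.code_mem_EE e27 (by omega)).2 i4) hc
    obtain ⟨f, hf, -, hA⟩ := c.table_mem hl hn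
    refine ⟨f, hf, ?_⟩
    obtain ⟨y, hy, ey, qy⟩ := hA _ x4
    have hy' := inE_lt hy
    have := c.phi_inj (show y < 128 by omega) (show rep i < 128 by omega) (ey.trans e)
    rw [this, i5] at qy
    rw [qy, x5]
    fin_cases hx <;> rfl
  rcases kill_facts l hlm with h | ⟨hb, hm, hd⟩ | ⟨hall, i, hi, hlab⟩ | ⟨hall, i, hi, hlab⟩
  · exact h
  · exact (c.a_alone_false hno hl hb hm hd).elim
  · obtain ⟨f, hf, e⟩ := key 1 (by simp) i hi hlab
    have h5 : app f 5 = 5 := beq_iff_eq.1 (List.all_eq_true.1 hall f hf)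
    rw [show [1, 5].getD 1 0 = 5 from rfl, h5] at e
    fin_cases hi <;> simp at e
  · obtain ⟨f, hf, e⟩ := key 0 (by simp) i hi hlab
    have h1 := List.all_eq_true.1 hall f hf
    simp only [Bool.or_eq_true, beq_iff_eq] at h1
    rw [show [1, 5].getD 0 0 = 1 from rfl] at e
    rw [e] at h1
    fin_cases hi <;> simp at h1

end Ctx

end

end Cfsg.Agent.Fus.SFourWr
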