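import Mathlib

/-!
A numerical model of a Sylow `2`-subgroup `D₈ ≀ 2` of `S₄ ≀ 2`, and the finite facts about it.
An element `u^a v^b c^e` of the dihedral group has code `e + 2a + 4b`, and `(x, y) t^s` has code
`x + 8y + 64s`.
-/

set_option autoImplicit false

namespace Cfsg.Agent.Fus.SFourWr

/-- Multiplication in the dihedral group. -/
def mulD (x y : ℕ) : ℕ := Nat.xor (Nat.xor x y) (if x.testBit 2 && y.testBit 1 then 1 else 0)

/-- Inversion in the dihedral group. -/
def invD (x : ℕ) : ℕ := Nat.xor x (if x.testBit 2 && x.testBit 1 then 1 else 0)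

/-- Multiplication in `D₈ ≀ 2`. -/
def mulN (m n : ℕ) : ℕ :=
  if m < 64 then
    mulD (m % 8) (n % 8) + 8 * mulD (m / 8 % 8) (n / 8 % 8) + 64 * (n / 64)
  else
    mulD (m % 8) (n / 8 % 8) + 8 * mulD (m / 8 % 8) (n % 8) + 64 * (if n < 64 then 1 else 0)

/-- Inversion in `D₈ ≀ 2`. -/
def invN (m : ℕ) : ℕ :=
  if m < 64 then invD (m % 8) + 8 * invD (m / 8 % 8)
  else invD (m / 8 % 8) + 8 * invD (m % 8) + 64

/-- Conjugation. -/
def conjN (g x : ℕ) : ℕ := mulN (mulN g x) (invN g)

/-- The commutator. -/
def commN (x y : ℕ) : ℕ := mulN (mulN x y) (mulN (invN x) (invN y))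

/-- Commuting codes. -/
def commB (x y : ℕ) : Bool := mulN x y == mulN y x

/-- The list of codes. -/
def allT : List ℕ := List.range 128

/-- The list of codes of the base. -/
def allB : List ℕ := List.range 64

/-- An element of order two. -/
def isInv (x : ℕ) : Bool := mulN x x == 0 && x != 0

theorem mulN_lt : ∀ m < 128, ∀ n < 128, mulN m n < 128 := by decide +kernel

theorem invN_lt : ∀ m < 128, invN m < 128 ∧ mulN m (invN m) = 0 := by decide +kernel

theorem mul_base : ∀ m < 64, ∀ n < 64, mulN m n < 64 := by decide +kernel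

/-! ### The elementary abelian subgroups of order sixteen -/

/-- Supports of the four elementary abelian subgroups of order sixteen: `VV`, `VU`, `UU`, `UV`,
listed around their cycle. -/
def elem16 : List ℕ := [45, 29, 27, 43]

/-- Membership in the subgroup with the given support. -/
def inE (s x : ℕ) : Bool := Nat.land x s == x && x < 64

theorem inE_facts : ∀ s ∈ elem16, ∀ x < 64, ∀ y < 64, inE s x = true → inE s y = true →
    commB x y = true ∧ inE s (mulN x y) = true ∧ mulN x x = 0 ∧ mulN x y = Nat.xor x y := by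
  decide +kernel

theorem inE_count : ∀ s ∈ elem16, (allB.filter (inE s)).length = 16 := by decide +kernel

/-- No element outside the base lies in an elementary abelian subgroup of order sixteen. -/
theorem outside_facts : ∀ x < 128, 64 ≤ x → mulN x x = 0 →
    (allB.filter fun y => commB x y).length = 8 ∧ ∃ y < 64, commB x y = true ∧ mulN y y ≠ 0 := by
  decide +kernel

/-- Two commuting involutions of the dihedral group lie in a common four-group. -/
theorem four_facts : ∀ x < 8, ∀ y < 8,
    (mulD x x == 0 && mulD y y == 0 && mulD x y == mulD y x) = true →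
    ((Nat.land x 5 == x && Nat.land y 5 == y) || (Nat.land x 3 == x && Nat.land y 3 == y)) = true := by
  decide +kernel

theorem base_proj : ∀ x < 64, ∀ y < 64, (mulN x x = 0 ↔ mulD (x % 8) (x % 8) = 0 ∧
      mulD (x / 8) (x / 8) = 0) ∧
    (commB x y = true ↔ mulD (x % 8) (y % 8) = mulD (y % 8) (x % 8) ∧
      mulD (x / 8) (y / 8) = mulD (y / 8) (x / 8)) := by
  decide +kernel

/-! ### Types of involutions: `0 = a`, `1 = z`, `2 = b`, `3 = m`, `4 = d`, `5 = t` -/

/-- The kind of a component: `0` trivial, `1` in `V`, `2` a transposition. -/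
def kindD (x : ℕ) : ℕ := if x = 0 then 0 else if x.testBit 1 then 2 else 1

/-- The type of an involution. -/
def typ (x : ℕ) : ℕ :=
  if 64 ≤ x then 5
  else match kindD (x % 8), kindD (x / 8) with
    | 0, 1 => 0 | 1, 0 => 0 | 1, 1 => 1 | 0, 2 => 2 | 2, 0 => 2 | 1, 2 => 3 | 2, 1 => 3
    | _, _ => 4

/-- Representatives: `c₁`, `z`, `u₁`, `(c₁, u₂)`, `(u₁, u₂)`, `t`. -/
def rep (i : ℕ) : ℕ :=
  match i with | 0 => 1 | 1 => 9 | 2 => 2 | 3 => 17 | 4 => 18 | _ => 64

/-- The representatives used before conjugating by the three-elements. -/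
def reps' : List ℕ := [1, 4, 9, 12, 36, 2, 17, 20, 18, 64]

theorem orbit_facts : ∀ x < 128, isInv x = true → ∃ g < 128, ∃ r ∈ reps', conjN g r = x ∧
    typ r = typ x := by
  decide +kernel

end Cfsg.Agent.Fus.SFourWr
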