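import Cfsg.Agent.Lib.Fus.SFourWreath.Cent
import Cfsg.Agent.Lib.Invol.Closed

/-!
The normaliser of the base is `T`; the elementary abelian subgroups `W = V₁ × V₂` and
`U = U₁ × U₂` are weakly closed.
-/

set_option autoImplicit false
set_option linter.unusedSectionVars false

namespace Cfsg.Agent.Fus.SFourWr

universe u

theorem centre_comm : ∀ x ∈ [0, 1, 8, 9], ∀ y < 64, commB x y = true := by decide +kernel

theorem centre_inv : ∀ x < 64, ∀ b ∈ [2, 4, 16, 32], mulN x b ∈ [0, 1, 8, 9] →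
    mulN (mulN x b) b = x := by decide +kernel

theorem outer_moves : ∀ g < 128, 64 ≤ g → ∀ s ∈ [29, 43], ∃ x < 64,
    inE s x = true ∧ inE s (conjN g x) = false := by decide +kernel

section

variable {G : Type u} [Group G] [Finite G] (c : Ctx G)

namespace Ctx

/-- The normaliser of the base as a property. -/
def NormB (g : G) : Prop := ∀ b ∈ c.BB, g * b * g⁻¹ ∈ c.BB

theorem normB_mul {g h : G} (hg : c.NormB g) (hh : c.NormB h) : c.NormB (g * h) := by
  intro b hb
  have := hg _ (hh b hb)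
  rwa [show g * h * b * (g * h)⁻¹ = g * (h * b * h⁻¹) * g⁻¹ by group]

theorem normB_pow {g : G} (hg : c.NormB g) : ∀ n : ℕ, c.NormB (g ^ n)
  | 0 => fun b hb => by simpa using hb
  | n + 1 => by rw [pow_succ]; exact c.normB_mul (normB_pow hg n) hg

theorem normB_surj {g : G} (hg : c.NormB g) {b : G} (hb : b ∈ c.BB) : g⁻¹ * b * g ∈ c.BB := by
  have h : c.BB.map (MulAut.conj g).toMonoidHom = c.BB :=
    Subgroup.eq_of_le_of_card_ge (by rintro _ ⟨x, hx, rfl⟩; exact hg x hx)
      (by rw [Subgroup.card_map_of_injective (MulAut.conj g).injective])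
  rw [← h] at hb
  exact Invol.mem_map_conj.1 hb

theorem normB_map {g : G} (hg : c.NormB g) {s : ℕ} (hs : s ∈ elem16) :
    ∃ t ∈ elem16, (c.EE s).map (MulAut.conj g).toMonoidHom = c.EE t :=
  c.map_EE hs fun x hx => c.grp_le_T (hg x (c.EE_le_BB hs hx))

/-- Two elementary subgroups are opposite when their meet is central in the base. -/
theorem opp_iff {s t : ℕ} (hs : s ∈ elem16) (ht : t ∈ elem16) :
    (∀ x ∈ c.EE s, x ∈ c.EE t → ∀ b ∈ c.BB, Commute x b) ↔ t = 72 - s := by
  rw [← (opp_facts s hs).2 t ht]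
  simp only [allB, List.all_eq_true, List.mem_range, Bool.or_eq_true, Bool.not_eq_true',
    Bool.and_eq_false_imp]
  constructor
  · intro h x hx
    by_cases hm : inE s x = true ∧ inE t x = true
    · refine Or.inr fun y hy => (c.commute_iff (by omega) (by omega)).1 ?_
      exact h _ ((c.code_mem_EE hs (by omega)).2 hm.1) ((c.code_mem_EE ht (by omega)).2 hm.2) _
        (c.mem_BB.2 ⟨y, hy, rfl⟩)
    · exact Or.inl fun h1 => by simpa [h1] using hm
  · intro h g hg hg' b hb
    obtain ⟨x, hx, rfl⟩ := (c.mem_EE hs).1 hg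
    obtain ⟨y, hy, rfl⟩ := c.mem_BB.1 hb
    have hx' := inE_lt hx
    have ht' := (c.code_mem_EE ht (by omega : x < 128)).1 hg'
    rcases h x hx' with h | h
    · exact absurd ht' (by simp [h hx])
    · exact c.commute_of (by omega) (by omega) (h y hy)

theorem normB_opp {g : G} (hg : c.NormB g) {s t : ℕ} (hs : s ∈ elem16) (ht : t ∈ elem16)
    (he : (c.EE s).map (MulAut.conj g).toMonoidHom = c.EE t) :
    (c.EE (72 - s)).map (MulAut.conj g).toMonoidHom = c.EE (72 - t) := by
  obtain ⟨u, hu, hue⟩ := c.normB_map hg (opp_facts s hs).1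
  suffices h : u = 72 - t by rw [hue, h]
  refine (c.opp_iff ht hu).1 fun x hx hx' b hb => ?_
  rw [← he] at hx; rw [← hue] at hx'
  have h1 := Invol.mem_map_conj.1 hx
  have h2 := Invol.mem_map_conj.1 hx'
  have h3 := (c.opp_iff hs (opp_facts s hs).1).2 rfl _ h1 h2 _ (c.normB_surj hg hb)
  have e := congrArg (fun y => g * y * g⁻¹) h3.eq
  simp only [mul_assoc, mul_inv_cancel, mul_inv_cancel_left, mul_one] at e
  exact e

theorem map_comp (s t u : ℕ) (g h : G)
    (h1 : (c.EE s).map (MulAut.conj g).toMonoidHom = c.EE t)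
    (h2 : (c.EE t).map (MulAut.conj h).toMonoidHom = c.EE u) :
    (c.EE s).map (MulAut.conj (h * g)).toMonoidHom = c.EE u := by
  rw [← Invol.map_conj_map_conj, h1, h2]

/-- The fourth power of an element normalising the base fixes each elementary subgroup. -/
theorem normB_pow_four {g : G} (hg : c.NormB g) {s : ℕ} (hs : s ∈ elem16) :
    (c.EE s).map (MulAut.conj (g ^ 4)).toMonoidHom = c.EE s := by
  have two : ∀ s ∈ elem16, (c.EE s).map (MulAut.conj (g * g)).toMonoidHom = c.EE s ∨
      (c.EE s).map (MulAut.conj (g * g)).toMonoidHom = c.EE (72 - s) := by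
    intro s hs
    obtain ⟨t, ht, het⟩ := c.normB_map hg hs
    obtain ⟨u, hu, heu⟩ := c.normB_map hg ht
    have hc := c.map_comp s t u g g het heu
    have hmi : ∀ a b : Subgroup G, a.map (MulAut.conj g).toMonoidHom = b.map (MulAut.conj g).toMonoidHom →
        a = b := fun a b h => Subgroup.map_injective (MulAut.conj g).injective h
    have hoo := c.normB_opp hg hs ht het
    by_cases h1 : t = s
    · subst h1
      exact Or.inl (c.map_comp t t t g g het het)
    by_cases h2 : t = 72 - s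
    · subst h2
      have hss : 72 - (72 - s) = s := by fin_cases hs <;> rfl
      rw [hss] at hoo
      exact Or.inl (c.map_comp _ _ _ g g het hoo)
    have h3 : u ≠ t := fun h => h1 (c.EE_inj ht hs (hmi _ _ (heu.trans (h ▸ het.symm))))
    have h4 : u ≠ 72 - t := fun h =>
      h2 (c.EE_inj ht (opp_facts s hs).1 (hmi _ _ (heu.trans (h ▸ hoo.symm))))
    rcases pair_facts s hs t ht u hu h1 h2 h3 h4 with rfl | rfl
    · exact Or.inl hc
    · exact Or.inr hc
  have hgg : c.NormB (g * g) := c.normB_mul hg hg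
  have e4 : g ^ 4 = g * g * (g * g) := by rw [pow_succ, pow_succ, pow_succ, pow_one]; group
  rw [e4]
  rcases two s hs with h | h
  · exact c.map_comp s s s _ _ h h
  · have h' := c.normB_opp hgg hs (opp_facts s hs).1 h
    have hss : 72 - (72 - s) = s := by fin_cases hs <;> rfl
    rw [hss] at h'
    exact c.map_comp _ _ _ _ _ h h'

/-- The normaliser of the base is `T`. -/
theorem mem_T_of_normB {g : G} (hg : c.NormB g) : g ∈ (c.T : Subgroup G) := by
  let H : Subgroup G := Subgroup.normalizer (c.BB : Set G)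
  have hH : ∀ g, g ∈ H ↔ c.NormB g := by
    intro g
    refine ⟨fun h b hb => (Subgroup.mem_normalizer_iff.1 h b).1 hb, fun h => ?_⟩
    rw [Subgroup.mem_normalizer_iff]
    refine fun b => ⟨h b, fun hb => ?_⟩
    have := c.normB_surj h hb
    rwa [show g⁻¹ * (g * b * g⁻¹) * g = b by group] at this
  refine c.le_T_of_odd (H := H) (fun t ht => (hH t).2 fun b hb => c.BB_normal ht hb) (fun r hr ho => ?_)
    ((hH g).2 hg)
  have hrB := (hH r).1 hr
  obtain ⟨k, hk⟩ := odd_pow_self ho 2
  have hfix : ∀ s ∈ elem16, ∀ x ∈ c.EE s, r * x * r⁻¹ ∈ c.EE s := by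
    intro s hs x hx
    have h4 := c.normB_pow_four hrB hs
    have : ∀ n : ℕ, (c.EE s).map (MulAut.conj ((r ^ 4) ^ n)).toMonoidHom = c.EE s := by
      intro n
      induction n with
      | zero => rw [pow_zero]; exact Invol.map_conj_one _
      | succ n ih => rw [pow_succ']; exact c.map_comp s s s _ _ ih h4
    rw [← hk, show (2 : ℕ) ^ 2 = 4 by norm_num, ← this k]
    exact Invol.conj_mem_map_conj hx
  have hcode : ∀ s ∈ elem16, ∀ x < 64, inE s x = true →
      ∃ y < 64, inE s y = true ∧ c.φ y = r * c.φ x * r⁻¹ := by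
    intro s hs x hx hxs
    obtain ⟨y, hy, e⟩ := (c.mem_EE hs).1 (hfix s hs _ ((c.code_mem_EE hs (by omega)).2 hxs))
    exact ⟨y, inE_lt hy, hy, e⟩
  have e45 : (45 : ℕ) ∈ elem16 := by simp [elem16]
  have e29 : (29 : ℕ) ∈ elem16 := by simp [elem16]
  have e27 : (27 : ℕ) ∈ elem16 := by simp [elem16]
  have e43 : (43 : ℕ) ∈ elem16 := by simp [elem16]
  have meet : ∀ s ∈ elem16, ∀ t ∈ elem16, ∀ x < 64, inE s x = true → inE t x = true →
      ∃ y < 64, inE s y = true ∧ inE t y = true ∧ c.φ y = r * c.φ x * r⁻¹ := by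
    intro s hs t ht x hx hxs hxt
    obtain ⟨y, hy, hys, e⟩ := hcode s hs x hx hxs
    obtain ⟨y', hy', hyt, e'⟩ := hcode t ht x hx hxt
    have := c.phi_inj (by omega) (by omega) (e.trans e'.symm)
    subst this
    exact ⟨y, hy, hys, hyt, e⟩
  obtain ⟨hgen, hc1, hc2⟩ := adjacent_gen
  simp only [Bool.and_eq_true] at hgen
  obtain ⟨⟨⟨⟨⟨⟨⟨g1, g2⟩, g3⟩, g4⟩, g5⟩, g6⟩, g7⟩, g8⟩ := hgen
  have hcentre : ∀ b w v s t : ℕ, b < 64 → w < 64 → v < 64 → s ∈ elem16 → t ∈ elem16 →
      inE s w = true → inE t w = true → commN b w = v → v ≠ 0 →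
      (∀ x < 64, inE s x = true → inE t x = true → ∀ y < 64, commN y x = 0 ∨ commN y x = v) →
      Commute r (c.φ v) := by
    intro b w v s t hb hw hv hs ht hws hwt hbw hv0 hall
    obtain ⟨y, hy, hys, hyt, ey⟩ := meet s hs t ht w hw hws hwt
    obtain ⟨a, ha, ea⟩ := c.mem_BB.1 (hrB _ (c.mem_BB.2 ⟨b, hb, rfl⟩))
    have e1 : c.φ (commN a y) = r * c.φ v * r⁻¹ := by
      rw [← hbw, ← c.phi_comm (by omega : a < 128) (by omega : y < 128),
        ← c.phi_comm (by omega : b < 128) (by omega : w < 128), ea, ey]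
      group
    rcases hall y hy hys hyt a ha with h | h
    · rw [h, c.phi_zero, eq_comm, conj_eq_one_iff] at e1
      exact absurd (c.hinj v (by omega) e1) hv0
    · rw [h] at e1
      exact (mul_inv_eq_iff_eq_mul.1 e1.symm)
  have r1 : Commute r (c.φ 1) := hcentre 2 4 1 45 29 (by norm_num) (by norm_num) (by norm_num)
    e45 e29 g1 g2 hc1 (by norm_num) adjacent_comm_one
  have r8 : Commute r (c.φ 8) := hcentre 32 16 8 29 27 (by norm_num) (by norm_num) (by norm_num)
    e29 e27 g3 g4 hc2 (by norm_num) adjacent_comm_eight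
  have r9 : Commute r (c.φ 9) := by
    have h := r1.mul_right r8
    rwa [← c.hmul 1 (by norm_num) 8 (by norm_num), show mulN 1 8 = 9 by decide +kernel] at h
  have rcen : ∀ x ∈ [0, 1, 8, 9], Commute r (c.φ x) := by
    intro x hx
    fin_cases hx
    · rw [c.phi_zero]; exact Commute.one_right _
    · exact r1
    · exact r8
    · exact r9
  have rgen : ∀ s ∈ elem16, ∀ t ∈ elem16, ∀ b ∈ [2, 4, 16, 32], inE s b = true → inE t b = true →
      (∀ x < 64, inE s x = true → inE t x = true →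
        x ∈ [0, 1, 8, 9] ∨ mulN x b ∈ [0, 1, 8, 9]) → Commute r (c.φ b) := by
    intro s hs t ht b hb hbs hbt hall
    have hb' : b < 64 := by fin_cases hb <;> norm_num
    obtain ⟨y, hy, hys, hyt, ey⟩ := meet s hs t ht b hb' hbs hbt
    rcases hall y hy hys hyt with h | h
    · have : r * c.φ y * r⁻¹ = c.φ y := by rw [(rcen y h).eq, mul_inv_cancel_right]
      have e : c.φ y = c.φ b := by
        have h2 : r * c.φ y * r⁻¹ = r * c.φ b * r⁻¹ := this.trans ey
        exact mul_left_cancel (mul_right_cancel h2)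
      have := rcen y h
      rwa [e] at this
    · have hlt := mulN_lt y (by omega) b (by omega)
      refine c.commute_stab ho (c.phi_mem (x := mulN y b) hlt) (rcen _ h) ?_
      rw [← ey, ← c.hmul _ hlt b (by omega), centre_inv y hy b hb h]
  have r4 := rgen 45 e45 29 e29 4 (by simp) g1 g2 (adjacent_coset (45, 29, 4) (by simp))
  have r16 := rgen 29 e29 27 e27 16 (by simp) g3 g4 (adjacent_coset (29, 27, 16) (by simp))
  have r2 := rgen 27 e27 43 e43 2 (by simp) g5 g6 (adjacent_coset (27, 43, 2) (by simp))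
  have r32 := rgen 43 e43 45 e45 32 (by simp) g7 g8 (adjacent_coset (43, 45, 32) (by simp))
  obtain ⟨Q, hQ⟩ := c.exists_coreZ
  refine c.core_trivial hQ ho r9 fun x hx _ => ?_
  have hle : c.BB ≤ Subgroup.centralizer ({r} : Set G) := c.BB_le fun b hb => by
    rw [Subgroup.mem_centralizer_singleton_iff]
    fin_cases hb
    exacts [r1.symm.eq, r2.symm.eq, r4.symm.eq, r8.symm.eq, r16.symm.eq, r32.symm.eq]
  exact (Subgroup.mem_centralizer_singleton_iff.1 (hle (c.mem_BB.2 ⟨x, hx, rfl⟩))).symm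

theorem T_normalises {s : ℕ} (hs : s = 45 ∨ s = 27) {g : G} (hg : g ∈ (c.T : Subgroup G)) {x : G}
    (hx : x ∈ c.EE s) : g * x * g⁻¹ ∈ c.EE s := by
  have hs' : s ∈ elem16 := by rcases hs with rfl | rfl <;> simp [elem16]
  obtain ⟨a, ha, rfl⟩ := c.exists_code hg
  obtain ⟨y, hy, rfl⟩ := (c.mem_EE hs').1 hx
  have hy' := inE_lt hy
  rw [c.phi_conj ha (by omega)]
  refine (c.mem_EE hs').2 ⟨_, ?_, rfl⟩
  obtain ⟨-, -, -, -, h⟩ := swap_facts
  rcases hs with rfl | rfl
  · rw [← (h a ha y hy').1]; exact hy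
  · rw [← (h a ha y hy').2]; exact hy

/-- An element mapping a subgroup into itself normalises it. -/
theorem mem_normalizer_of_conj {A : Subgroup G} {g : G} (h : ∀ x ∈ A, g * x * g⁻¹ ∈ A) :
    g ∈ Subgroup.normalizer (A : Set G) :=
  Invol.mem_normalizer_of_map_eq <| Subgroup.eq_of_le_of_card_ge
    (by rintro _ ⟨x, hx, rfl⟩; exact h x hx)
    (by rw [Subgroup.card_map_of_injective (MulAut.conj g).injective])

theorem T_le_normalizer {s : ℕ} (hs : s = 45 ∨ s = 27) :
    (c.T : Subgroup G) ≤ Subgroup.normalizer (c.EE s : Set G) :=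
  fun _ hg => mem_normalizer_of_conj fun _ hx => c.T_normalises hs hg hx

/-- `W` and `U` are weakly closed in `T`. -/
theorem weaklyClosed {s : ℕ} (hs : s = 45 ∨ s = 27) :
    Cfsg.IsWeaklyClosed (c.EE s) (c.T : Subgroup G) := by
  haveI := Fact.mk Nat.prime_two
  have hs' : s ∈ elem16 := by rcases hs with rfl | rfl <;> simp [elem16]
  refine ⟨c.grp_le_T, fun g hg => ?_⟩
  obtain ⟨t, ht, het⟩ := c.map_EE (g := g) hs' fun x hx => hg ⟨x, hx, rfl⟩
  have hgT : ∀ x ∈ (c.T : Subgroup G), g * x * g⁻¹ ∈ Subgroup.normalizer (c.EE t : Set G) := by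
    intro x hx
    refine mem_normalizer_of_conj fun y hy => ?_
    rw [← het] at hy ⊢
    rw [Invol.mem_map_conj] at hy ⊢
    have := c.T_normalises hs hx hy
    rwa [show g⁻¹ * (g * x * g⁻¹ * y * (g * x * g⁻¹)⁻¹) * g =
      x * (g⁻¹ * y * g) * x⁻¹ by group]
  set N := Subgroup.normalizer (c.EE t : Set G) with hN
  have hP1N : (c.T : Subgroup G).map (MulAut.conj g).toMonoidHom ≤ N := by
    rintro _ ⟨x, hx, rfl⟩; exact hgT x hx
  have ht' : t = 45 ∨ t = 27 := by
    rw [elem16] at ht
    simp only [List.mem_cons, List.mem_nil_iff, or_false] at ht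
    by_contra hcon
    have ht29 : t ∈ [29, 43] := by simp; omega
    have hBN : c.BB ≤ N := by
      refine c.BB_le fun b hb => mem_normalizer_of_conj fun x hx => ?_
      obtain ⟨y, hy, rfl⟩ := (c.mem_EE (by simp [elem16]; omega)).1 hx
      have hb' : b < 64 := by fin_cases hb <;> norm_num
      have hy' := inE_lt hy
      rw [c.phi_conj (by omega) (by omega)]
      refine (c.mem_EE (by simp [elem16]; omega)).2 ⟨_, ?_, rfl⟩
      obtain ⟨-, -, h29, h43, -⟩ := swap_facts
      rcases (show t = 29 ∨ t = 43 by omega) with rfl | rfl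
      · exact (h29 b (by omega)).1 hb' y hy' hy
      · exact (h43 b (by omega)).1 hb' y hy' hy
    obtain ⟨P, hP⟩ := (((c.T.isPGroup'.to_le c.grp_le_T).comap_subtype (K := N)) :
      IsPGroup 2 (c.BB.subgroupOf N)).exists_le_sylow
    have h128 : 128 ≤ Nat.card (P : Subgroup N) := by
      obtain ⟨P', hP'⟩ := (((c.T.isPGroup'.map (MulAut.conj g).toMonoidHom).comap_subtype (K := N)) :
        IsPGroup 2 (((c.T : Subgroup G).map (MulAut.conj g).toMonoidHom).subgroupOf N)).exists_le_sylow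
      have h1 : Nat.card (((c.T : Subgroup G).map (MulAut.conj g).toMonoidHom).subgroupOf N) ≤
          Nat.card (P' : Subgroup N) := Subgroup.card_le_of_le hP'
      rw [Nat.card_congr (Subgroup.subgroupOfEquivOfLe hP1N).toEquiv,
        Subgroup.card_map_of_injective (MulAut.conj g).injective, P'.card_eq_multiplicity,
        ← P.card_eq_multiplicity] at h1
      refine le_trans ?_ h1
      have hT : Nat.card (c.T : Subgroup G) = (allT.filter fun _ => true).length := by
        rw [← c.card_grp (p := fun _ => true) ⟨rfl, fun _ _ _ _ _ _ => rfl⟩]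
        refine Nat.card_congr (Equiv.setCongr ?_)
        ext x
        rw [SetLike.mem_coe, SetLike.mem_coe, c.mem_grp ⟨rfl, fun _ _ _ _ _ _ => rfl⟩, c.mem_T]
        simp
      rw [hT]
      decide +kernel
    set R := (P : Subgroup N).map N.subtype with hR
    have hRp : IsPGroup 2 R := P.isPGroup'.map _
    have hBR : c.BB ≤ R := by
      intro b hb
      exact ⟨⟨b, hBN hb⟩, hP hb, rfl⟩
    haveI := hRp.isNilpotent
    have hlt : c.BB.subgroupOf R < ⊤ := by
      refine lt_top_iff_ne_top.2 fun e => ?_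
      rw [Subgroup.subgroupOf_eq_top] at e
      have := Subgroup.card_le_of_le e
      rw [hR, Subgroup.card_map_of_injective N.subtype_injective, c.card_grp closed_pB, card_pB] at this
      omega
    obtain ⟨x, hxn, hxB⟩ := SetLike.exists_of_lt
      (Group.normalizerCondition_of_isNilpotent (G := R) _ hlt)
    have hxN : c.NormB (x : G) := fun b hb => by
      have := (Subgroup.mem_normalizer_iff.1 hxn ⟨b, hBR hb⟩).1 hb
      exact this
    obtain ⟨a, ha, hax⟩ := c.exists_code (c.mem_T_of_normB hxN)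
    have ha64 : 64 ≤ a := by
      by_contra h
      exact hxB (show (x : G) ∈ c.BB from c.mem_BB.2 ⟨a, by omega, hax⟩)
    obtain ⟨y, hy, hy1, hy2⟩ := outer_moves a ha ha64 t ht29
    have hxNE : (x : G) ∈ N := Subgroup.map_subtype_le _ x.2
    have := (Subgroup.mem_normalizer_iff.1 hxNE (c.φ y)).1
      ((c.code_mem_EE (by simp [elem16]; omega) (by omega)).2 hy1)
    rw [← hax, c.phi_conj ha (by omega),
      c.code_mem_EE (by simp [elem16]; omega) (conjN_lt a ha y (by omega)).1, hy2] at this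
    exact absurd this (by simp)
  have hTN : (c.T : Subgroup G) ≤ N := c.T_le_normalizer ht'
  obtain ⟨n, hn⟩ := MulAction.exists_smul_eq N ((g • c.T).subtype (hP1N)) (c.T.subtype hTN)
  have hg' : ∀ x ∈ (c.T : Subgroup G), (n : G) * g * x * ((n : G) * g)⁻¹ ∈ (c.T : Subgroup G) := by
    intro x hx
    have hm : (n * ⟨g * x * g⁻¹, hgT x hx⟩ * n⁻¹ : N) ∈ ((c.T.subtype hTN : Sylow 2 N) : Subgroup N) := by
      rw [← hn]
      exact Subgroup.mem_map_of_mem (MulAut.conj n).toMonoidHom
        (show g * x * g⁻¹ ∈ ((g • c.T : Sylow 2 G) : Subgroup G) from ⟨x, hx, rfl⟩)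
    have hm' : (n : G) * (g * x * g⁻¹) * (n : G)⁻¹ ∈ (c.T : Subgroup G) := hm
    rwa [show (n : G) * g * x * ((n : G) * g)⁻¹ = (n : G) * (g * x * g⁻¹) * (n : G)⁻¹ by group]
  have hnB : c.NormB ((n : G) * g) := by
    suffices h : c.BB.map (MulAut.conj ((n : G) * g)).toMonoidHom ≤ c.BB from
      fun b hb => h (Invol.conj_mem_map_conj hb)
    rw [Subgroup.map_le_iff_le_comap]
    refine c.BB_le fun b hb => ?_
    obtain ⟨u, hu, hbu⟩ : ∃ u ∈ elem16, inE u b = true := by
      fin_cases hb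
      exacts [⟨45, by simp [elem16], rfl⟩, ⟨27, by simp [elem16], rfl⟩, ⟨45, by simp [elem16], rfl⟩,
        ⟨45, by simp [elem16], rfl⟩, ⟨27, by simp [elem16], rfl⟩, ⟨45, by simp [elem16], rfl⟩]
    obtain ⟨v, hv, hev⟩ := c.map_EE (g := (n : G) * g) hu fun x hx => hg' x (c.grp_le_T hx)
    refine c.EE_le_BB hv ?_
    rw [← hev]
    exact Subgroup.mem_map_of_mem _ ((c.code_mem_EE hu (by fin_cases hb <;> norm_num)).2 hbu)
  have hT' := c.mem_T_of_normB hnB
  have hfix : ∀ x ∈ c.EE s, ((n : G) * g) * x * ((n : G) * g)⁻¹ ∈ c.EE s :=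
    fun x hx => c.T_normalises hs hT' hx
  have e1 : (c.EE s).map (MulAut.conj ((n : G) * g)).toMonoidHom = c.EE t := by
    rw [← Invol.map_conj_map_conj, het]
    exact Subgroup.eq_of_le_of_card_ge
      (by rintro _ ⟨y, hy, rfl⟩; exact (Subgroup.mem_normalizer_iff.1 n.2 y).1 hy)
      (by rw [Subgroup.card_map_of_injective (MulAut.conj (n : G)).injective])
  have e2 : (c.EE s).map (MulAut.conj ((n : G) * g)).toMonoidHom = c.EE s :=
    Subgroup.eq_of_le_of_card_ge (by rintro _ ⟨x, hx, rfl⟩; exact hfix x hx)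
      (by rw [Subgroup.card_map_of_injective (MulAut.conj _).injective])
  rw [het, ← e1, e2]

end Ctx

end

end Cfsg.Agent.Fus.SFourWr
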