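import Cfsg.Agent.Lib.Fus.SFourWreath.LabelData

/-!
The action on `U` modulo the central involution, and the finite fact excluding elements of order
seven.
-/

set_option autoImplicit false

namespace Cfsg.Agent.Fus.SFourWr

/-- Coordinates on `U` modulo `⟨z⟩`. -/
def qv8 (x : ℕ) : ℕ :=
  (if Bool.xor (x.testBit 0) (x.testBit 3) then 1 else 0) + (if x.testBit 1 then 2 else 0) +
    (if x.testBit 4 then 4 else 0)

/-- A code over a vector modulo `⟨z⟩`. -/
def lift8 (q : ℕ) : ℕ := q % 4 + 16 * (q / 4)

/-- The identity table. -/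
def id8 : List ℕ := [0, 1, 2, 3, 4, 5, 6, 7]

/-- The tables of the elements of `T`. -/
def dList : List (List ℕ) :=
  [[0, 1, 2, 3, 4, 5, 6, 7], [0, 1, 2, 3, 5, 4, 7, 6], [0, 1, 3, 2, 4, 5, 7, 6],
    [0, 1, 3, 2, 5, 4, 6, 7], [0, 1, 4, 5, 2, 3, 6, 7], [0, 1, 4, 5, 3, 2, 7, 6],
    [0, 1, 5, 4, 2, 3, 7, 6], [0, 1, 5, 4, 3, 2, 6, 7]]

/-- The tables of the elements of the base. -/
def bList : List (List ℕ) :=
  [[0, 1, 2, 3, 4, 5, 6, 7], [0, 1, 2, 3, 5, 4, 7, 6], [0, 1, 3, 2, 4, 5, 7, 6],
    [0, 1, 3, 2, 5, 4, 6, 7]]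

/-- The table of a code of `T`. -/
def tab8 (x : ℕ) : List ℕ := (List.range 8).map fun q => qv8 (conjN x (lift8 q))

/-- Composition: first `f`, then `k`. -/
def cmpT (k f : List ℕ) : List ℕ := f.map fun v => k.getD v 0

/-- Powers of a table. -/
def powT : ℕ → List ℕ → List ℕ
  | 0, _ => id8
  | n + 1, f => cmpT f (powT n f)

/-- The table with given images of the basis. -/
def mk8 (a b c : ℕ) : List ℕ :=
  (List.range 8).map fun q => Nat.xor (Nat.xor (if q.testBit 0 then a else 0)
    (if q.testBit 1 then b else 0)) (if q.testBit 2 then c else 0)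

/-- The candidate maps. -/
def all8 : List (List ℕ) :=
  (List.range 8).flatMap fun a => (List.range 8).flatMap fun b => (List.range 8).map fun c => mk8 a b c

theorem tab8_T : (allT.all fun x => dList.contains (tab8 x)) = true := by decide +kernel

theorem tab8_B : (allB.all fun x => bList.contains (tab8 x)) = true := by decide +kernel

theorem dList_T : (dList.all fun d => allT.any fun x => tab8 x == d) = true := by decide +kernel

theorem bList_B : (bList.all fun d => allB.any fun x => tab8 x == d) = true := by decide +kernel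

theorem tab8_acts : (allT.all fun g => allB.all fun x => !inE 27 x ||
    qv8 (conjN g x) == (tab8 g).getD (qv8 x) 0) = true := by
  decide +kernel

theorem tab8_kernel : (allT.all fun g =>
    !([1, 2, 16].all fun u => commN g u == 0 || commN g u == 9) || inE 27 g) = true := by
  decide +kernel

theorem qv8_facts : ∀ x < 64, inE 27 x = true →
    qv8 x < 8 ∧ qv8 (mulN x 9) = qv8 x ∧ (lift8 (qv8 x) = x ∨ mulN (lift8 (qv8 x)) 9 = x) := by
  decide +kernel

theorem lift8_facts : ∀ q < 8, inE 27 (lift8 q) = true ∧ qv8 (lift8 q) = q := by decide +kernel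

theorem qv8_mul : ∀ x < 64, inE 27 x = true → ∀ y < 64, inE 27 y = true →
    qv8 (mulN x y) = Nat.xor (qv8 x) (qv8 y) := by
  decide +kernel

theorem qv8_eq : (allB.all fun x => allB.all fun y => !inE 27 x || !inE 27 y || qv8 x != qv8 y ||
    y == x || y == mulN 9 x) = true := by
  decide +kernel

theorem seven_facts : (all8.all fun f => powT 7 f != id8 || f == id8 ||
    (List.range 7).any fun i => (List.range 7).any fun j => dList.any fun d =>
      let y := cmpT (powT i f) (cmpT d (powT j f))
      !dList.contains y && bList.all fun b => bList.any fun b' => cmpT y b == cmpT b' y) = true := by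
  decide +kernel

theorem aaa_z : ∀ x < 64, inE 27 x = true → (isInv x = true ∧ labX (0, 0, 0) x = 1 ↔ x = 9) := by
  decide +kernel

theorem aaa_orbit : ((allB.filter fun x => inE 27 x && isInv x && labX (0, 0, 0) x == 0).length = 14) := by
  decide +kernel

end Cfsg.Agent.Fus.SFourWr
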