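import Cfsg.Agent.Lib.Fus.SFourWreath.Labels
import Cfsg.Agent.Lib.Fus.SFourWreath.SevenData

/-!
The pattern with one class in `U` besides `z`: an element of order seven would normalise too little.
-/

set_option autoImplicit false
set_option linter.unusedSectionVars false

namespace Cfsg.Agent.Fus.SFourWr

universe u

theorem inE_nine : inE 27 9 = true ∧ mulN 9 9 = 0 := by decide +kernel

theorem id8_getD : ∀ q < 8, id8.getD q 0 = q := by decide +kernel

theorem all8_mem : ∀ a < 8, ∀ b < 8, ∀ d < 8, mk8 a b d ∈ all8 := by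
  intro a ha b hb d hd
  rw [all8]
  simp only [List.mem_flatMap, List.mem_map, List.mem_range]
  exact ⟨a, ha, b, hb, d, hd, rfl⟩

section

variable {G : Type u} [Group G] [Finite G] (c : Ctx G)

namespace Ctx

/-- The pattern with one class in `U` besides `z` is impossible. -/
theorem seven_false (hl : c.Pattern (0, 0, 0)) : False := by
  classical
  have e27 : (27 : ℕ) ∈ elem16 := by simp [elem16]
  set H := Subgroup.normalizer (c.EE 27 : Set G) with hH
  have he : ∀ x, inE 27 x = true → c.φ x ∈ c.EE 27 := fun x hx =>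
    (c.code_mem_EE e27 (by have := inE_lt hx; omega)).2 hx
  have hlt : ∀ x, inE 27 x = true → x < 128 := fun x hx => by have := inE_lt hx; omega
  have hz : ∀ g ∈ H, Commute g (c.φ 9) := by
    intro g hg
    obtain ⟨h1, e1⟩ := c.img_spec hg inE_nine.1
    obtain ⟨hi, hc⟩ := c.img_typ_conj hg inE_nine.1 (by decide +kernel)
    have h := (c.pattern_iff hl (show 9 < 64 by norm_num) (inE_lt h1) (by decide +kernel) hi).1 hc
    rw [show labX (0, 0, 0) 9 = 1 by decide +kernel] at h
    rw [(aaa_z _ (inE_lt h1) h1).1 ⟨hi, h.symm⟩] at e1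
    exact mul_inv_eq_iff_eq_mul.1 e1.symm
  have h99 : c.φ 9 * c.φ 9 = 1 := (c.sq_eq_one_iff (by norm_num)).2 inE_nine.2
  have hq : ∀ x, inE 27 x = true → qv8 x < 8 := fun x hx => (qv8_facts x (inE_lt hx) hx).1
  -- every element has a table
  have htab : ∀ g ∈ H, ∃ f ∈ all8, c.Acts qv8 g f := by
    intro g hg
    set f := (List.range 8).map fun q => qv8 (c.img hg (lift8 q)) with hf
    have hwd : ∀ x y, inE 27 x = true → inE 27 y = true → qv8 x = qv8 y →
        qv8 (c.img hg x) = qv8 (c.img hg y) := by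
      intro x y hx hy hxy
      have h := qv8_eq
      simp only [List.all_eq_true, allB, List.mem_range, Bool.or_eq_true, Bool.not_eq_true',
        bne_iff_ne, beq_iff_eq] at h
      rcases h x (inE_lt hx) y (inE_lt hy) with ((((h | h) | h) | h) | h)
      · rw [hx] at h; exact Bool.noConfusion h
      · rw [hy] at h; exact Bool.noConfusion h
      · exact absurd hxy h
      · rw [h]
      · rw [h, c.img_mul hg inE_nine.1 hx, c.img_eq hg inE_nine.1 (show 9 < 128 by norm_num)
          (by rw [(hz g hg).eq, mul_inv_cancel_right])]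
        obtain ⟨h1, -⟩ := c.img_spec hg hx
        rw [qv8_mul 9 (by norm_num) inE_nine.1 _ (inE_lt h1) h1, show qv8 9 = 0 by decide +kernel,
          show Nat.xor 0 (qv8 (c.img hg x)) = qv8 (c.img hg x) from Nat.zero_xor _]
    have hA : c.Acts qv8 g f := c.acts_of 8 qv8 lift8 hg hq lift8_facts hwd
    refine ⟨f, ?_, hA⟩
    have happ : ∀ q < 8, app f q = qv8 (c.img hg (lift8 q)) := fun q hq => app_range _ hq
    have hfq : ∀ q < 8, app f q < 8 := fun q hq' => by
      rw [happ q hq']; exact hq _ (c.img_spec hg (lift8_facts q hq').1).1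
    have happ' : ∀ x, inE 27 x = true → app f (qv8 x) = qv8 (c.img hg x) := fun x hx => by
      obtain ⟨y, hy, ey, qy⟩ := hA x hx
      rw [← qy, c.img_eq hg hx (hlt y hy) ey]
    have hlin : ∀ x y, inE 27 x = true → inE 27 y = true →
        app f (Nat.xor (qv8 x) (qv8 y)) = Nat.xor (app f (qv8 x)) (app f (qv8 y)) := by
      intro x y hx hy
      rw [← qv8_mul x (inE_lt hx) hx y (inE_lt hy) hy, happ' _ (inE_mul hx hy), happ' x hx, happ' y hy,
        c.img_mul hg hx hy, qv8_mul _ (inE_lt (c.img_spec hg hx).1) (c.img_spec hg hx).1 _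
          (inE_lt (c.img_spec hg hy).1) (c.img_spec hg hy).1]
    have hl' : ∀ a < 8, ∀ b < 8, app f (Nat.xor a b) = Nat.xor (app f a) (app f b) := by
      intro a ha b hb
      have := hlin (lift8 a) (lift8 b) (lift8_facts a ha).1 (lift8_facts b hb).1
      rwa [(lift8_facts a ha).2, (lift8_facts b hb).2] at this
    have f0 : app f 0 = 0 := by
      have h : app f 0 = Nat.xor (app f 0) (app f 0) := hl' 0 (by norm_num) 0 (by norm_num)
      rw [h]; exact Nat.xor_self _
    have hfeq : f = mk8 (app f 1) (app f 2) (app f 4) := by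
      have hdec : ∀ q < 8, q = Nat.xor (Nat.xor (if q.testBit 0 then 1 else 0)
          (if q.testBit 1 then 2 else 0)) (if q.testBit 2 then 4 else 0) ∧
          Nat.xor (if q.testBit 0 then 1 else 0) (if q.testBit 1 then 2 else 0) < 8 := by
        decide +kernel
      apply List.ext_getElem
      · simp [hf, mk8]
      intro q h1 h2
      have hq8 : q < 8 := by simpa [hf] using h1
      obtain ⟨e, l1⟩ := hdec q hq8
      have hb : ∀ b < 8, ∀ p : Bool, (if p then b else 0) < 8 ∧
          app f (if p then b else 0) = if p then app f b else 0 := fun b hb p => by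
        cases p <;> simp [f0, hb]
      have e' := congrArg (app f) e
      rw [hl' _ l1 _ (hb 4 (by norm_num) _).1,
        hl' _ (hb 1 (by norm_num) _).1 _ (hb 2 (by norm_num) _).1, (hb 1 (by norm_num) _).2,
        (hb 2 (by norm_num) _).2, (hb 4 (by norm_num) _).2] at e'
      have e1 : f[q]'h1 = app f q := (List.getD_eq_getElem f 0 h1).symm
      rw [e1, e']
      simp [mk8]
    rw [hfeq]
    exact all8_mem _ (hfq 1 (by norm_num)) _ (hfq 2 (by norm_num)) _ (hfq 4 (by norm_num))
  -- an element with trivial table lies in `U`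
  let P : G → Prop := fun g => g ∈ H ∧ ∀ u ∈ c.EE 27, g * u * g⁻¹ = u ∨ g * u * g⁻¹ = c.φ 9 * u
  have hP : ∀ g ∈ H, (∀ x, inE 27 x = true → ∃ y, inE 27 y = true ∧
      c.φ y = g * c.φ x * g⁻¹ ∧ qv8 y = qv8 x) → P g := by
    intro g hg h
    refine ⟨hg, fun u hu => ?_⟩
    obtain ⟨x, hx, rfl⟩ := (c.mem_EE e27).1 hu
    obtain ⟨y, hy, ey, qy⟩ := h x hx
    have hq8 := qv8_eq
    simp only [List.all_eq_true, allB, List.mem_range, Bool.or_eq_true, Bool.not_eq_true',
      bne_iff_ne, beq_iff_eq] at hq8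
    rw [← ey]
    rcases hq8 x (inE_lt hx) y (inE_lt hy) with ((((h | h) | h) | h) | h)
    · rw [hx] at h; exact Bool.noConfusion h
    · rw [hy] at h; exact Bool.noConfusion h
    · exact absurd qy.symm h
    · rw [h]; exact Or.inl rfl
    · rw [h, c.hmul 9 (by norm_num) x (hlt x hx)]; exact Or.inr rfl
  have hP1 : P 1 := ⟨one_mem _, fun u _ => Or.inl (by group)⟩
  have hPmul : ∀ a b, P a → P b → P (a * b) := by
    rintro a b ⟨ha, a'⟩ ⟨hb, b'⟩
    refine ⟨mul_mem ha hb, fun u hu => ?_⟩
    rw [show a * b * u * (a * b)⁻¹ = a * (b * u * b⁻¹) * a⁻¹ by group]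
    rcases b' u hu with e | e <;> rw [e]
    · exact a' u hu
    · rw [show a * (c.φ 9 * u) * a⁻¹ = a * c.φ 9 * a⁻¹ * (a * u * a⁻¹) by group, (hz a ha).eq,
        mul_inv_cancel_right]
      rcases a' u hu with e | e <;> rw [e]
      · exact Or.inr rfl
      · rw [← mul_assoc, h99, one_mul]; exact Or.inl rfl
  let K0 : Submonoid G := { carrier := {g | P g}, one_mem' := hP1, mul_mem' := fun ha hb => hPmul _ _ ha hb }
  let KS : Subgroup G := Subgroup.closure {g | P g}
  have hKS : ∀ g, g ∈ KS ↔ P g := fun g => by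
    refine ⟨fun hg => ?_, fun hg => Subgroup.subset_closure hg⟩
    rw [← Subgroup.mem_toSubmonoid, Subgroup.closure_toSubmonoid_of_finite] at hg
    exact Submonoid.closure_le.2 (le_refl (K0 : Set G)) hg
  have hTH : (c.T : Subgroup G) ≤ H := c.T_le_normalizer (Or.inr rfl)
  have hkerT : KS ≤ (c.T : Subgroup G) := by
    refine c.le_T (isPGroup_of_odd fun r hr ho => ?_) fun t ht =>
      mem_normalizer_of_conj fun g hg => (hKS _).2 ?_
    · obtain ⟨hrH, hr'⟩ := (hKS r).1 hr
      refine c.odd_eq_one_T (c.grp_le_T (c.centralizer_U (g := r) fun u hu => ?_)) ho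
      rcases hr' u hu with e | e
      · exact mul_inv_eq_iff_eq_mul.1 e
      · exact c.commute_stab ho (c.phi_mem (by norm_num)) (hz r hrH) e
    · obtain ⟨hgH, hg'⟩ := (hKS g).1 hg
      refine ⟨mul_mem (mul_mem (hTH ht) hgH) (inv_mem (hTH ht)), fun u hu => ?_⟩
      have hu' := c.T_normalises (Or.inr rfl) (inv_mem ht) hu
      rw [inv_inv] at hu'
      rw [show t * g * t⁻¹ * u * (t * g * t⁻¹)⁻¹ = t * (g * (t⁻¹ * u * t) * g⁻¹) * t⁻¹ by group]
      rcases hg' _ hu' with e | e <;> rw [e]
      · exact Or.inl (by group)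
      · refine Or.inr ?_
        rw [show t * (c.φ 9 * (t⁻¹ * u * t)) * t⁻¹ = t * c.φ 9 * t⁻¹ * u by group,
          (c.nine_central ht).eq, mul_inv_cancel_right]
  have hker : ∀ g, P g → g ∈ c.EE 27 := by
    intro g hg
    obtain ⟨x, hx, rfl⟩ := c.exists_code (hkerT ((hKS g).2 hg))
    refine (c.code_mem_EE e27 hx).2 ?_
    have h := tab8_kernel
    simp only [List.all_eq_true, allT, List.mem_range, Bool.or_eq_true, Bool.not_eq_true',
      List.all_eq_false, beq_iff_eq] at h
    rcases h x hx with ⟨u, hu, hne⟩ | h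
    · exfalso
      have hu27 : inE 27 u = true := by fin_cases hu <;> rfl
      have hu' := hlt u hu27
      refine hne ?_
      rcases hg.2 _ (he u hu27) with e | e
      · left
        refine c.hinj _ (conjN_lt x hx u hu').2 ?_
        rw [← c.phi_comm hx hu', ← mul_assoc, e, mul_inv_cancel]
      · right
        refine c.phi_inj (conjN_lt x hx u hu').2 (by norm_num) ?_
        rw [← c.phi_comm hx hu', ← mul_assoc, e, mul_inv_cancel_right]
    · exact h
  -- seven divides the order of `N(U)`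
  have h7 : 7 ∣ Nat.card H := by
    letI : MulAction H G := MulAction.compHom G ((MulAut.conj (G := G)).comp H.subtype)
    have hsm : ∀ (h : H) (x : G), h • x = (h : G) * x * (h : G)⁻¹ := fun h x => rfl
    set L := ((allB.filter fun x => inE 27 x && isInv x && labX (0, 0, 0) x == 0).toFinset.image c.φ)
      with hL
    have horb : MulAction.orbit H (c.φ 1) = (L : Set G) := by
      ext y
      simp only [hL, Finset.coe_image, List.coe_toFinset, Set.mem_image, Set.mem_setOf_eq, allB,
        List.mem_filter, List.mem_range, Bool.and_eq_true, beq_iff_eq]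
      constructor
      · rintro ⟨h, rfl⟩
        show ∃ x, _ ∧ c.φ x = h • c.φ 1
        obtain ⟨h1, e1⟩ := c.img_spec h.2 (show inE 27 1 = true from rfl)
        obtain ⟨hi, hc⟩ := c.img_typ_conj h.2 (show inE 27 1 = true from rfl) (by decide +kernel)
        refine ⟨_, ⟨inE_lt h1, ⟨h1, hi⟩, ?_⟩, by rw [hsm]; exact e1⟩
        rw [← (c.pattern_iff hl (show 1 < 64 by norm_num) (inE_lt h1) (by decide +kernel) hi).1 hc]
        decide +kernel
      · rintro ⟨x, ⟨hx, ⟨hx27, hxi⟩, hxl⟩, rfl⟩
        have hc : IsConj (c.φ 1) (c.φ x) :=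
          (c.pattern_iff hl (show 1 < 64 by norm_num) hx (by decide +kernel) hxi).2 (by
            rw [hxl]; decide +kernel)
        obtain ⟨n, hn, e⟩ := c.control (Or.inr rfl) (he 1 rfl) (he x hx27) hc
        exact ⟨⟨n, hn⟩, e⟩
    have hcard : (MulAction.orbit H (c.φ 1)).ncard = 14 := by
      rw [horb, Set.ncard_coe_finset, hL, Finset.card_image_of_injOn, List.toFinset_card_of_nodup
        (show (allB.filter _).Nodup from List.nodup_range.filter _), aaa_orbit]
      intro a ha b hb h
      simp [allB] at ha hb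
      exact c.phi_inj (by omega) (by omega) h
    have hd := Subgroup.index_dvd_card (MulAction.stabilizer H (c.φ 1))
    rw [MulAction.index_stabilizer, hcard] at hd
    exact dvd_trans (by norm_num) hd
  haveI := Fact.mk (show Nat.Prime 7 by norm_num)
  obtain ⟨⟨g, hgH⟩, hgo⟩ := exists_prime_orderOf_dvd_card' (G := H) 7 h7
  rw [Subgroup.orderOf_mk] at hgo
  obtain ⟨f, hf, hA⟩ := htab g hgH
  have happ : ∀ (k : List ℕ) (q : ℕ), app k q = k.getD q 0 := fun _ _ => rfl
  have hlen8 : ∀ f ∈ all8, f.length = 8 := by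
    intro f hf
    simp only [all8, List.mem_flatMap, List.mem_map, List.mem_range] at hf
    obtain ⟨a, -, b, -, d, -, rfl⟩ := hf
    simp [mk8]
  have hlenD : ∀ d ∈ dList, d.length = 8 := by decide +kernel
  have hlenp : ∀ n, (powT n f).length = 8 := by
    intro n
    induction n with
    | zero => rfl
    | succ n ih => simp [powT, cmpT, ih]
  -- composition of tables
  have hcomp : ∀ (a b : G) (k m : List ℕ), m.length = 8 → c.Acts qv8 a k → c.Acts qv8 b m →
      c.Acts qv8 (a * b) (cmpT k m) := fun a b k m hm hk hm' =>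
    c.acts_comp hm' hk hq hm
  have hpow : ∀ n : ℕ, c.Acts qv8 (g ^ n) (powT n f) := by
    intro n
    induction n with
    | zero =>
      intro x hx
      exact ⟨x, hx, by rw [pow_zero]; group, (id8_getD _ (hq x hx)).symm⟩
    | succ n ih =>
      rw [pow_succ', powT]
      exact hcomp _ _ _ _ (hlenp n) hA ih
  have h7id : powT 7 f = id8 := by
    apply List.ext_getElem (by rw [hlenp]; rfl)
    intro q h1 h2
    have hq8 : q < 8 := by rw [hlenp] at h1; exact h1
    obtain ⟨hl1, hl2⟩ := lift8_facts q hq8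
    obtain ⟨y, hy, ey, qy⟩ := hpow 7 _ hl1
    rw [show g ^ 7 = 1 from hgo ▸ pow_orderOf_eq_one g] at ey
    have hyx : y = lift8 q := c.phi_inj (hlt y hy) (hlt _ hl1) (by rw [ey]; group)
    rw [hyx, hl2, happ, List.getD_eq_getElem _ 0 h1] at qy
    rw [← qy, ← List.getD_eq_getElem id8 0 h2, id8_getD q hq8]
  have hne : f ≠ id8 := by
    intro e
    have hgE := hker g (hP g hgH fun x hx => by
      obtain ⟨y, hy, ey, qy⟩ := hA x hx
      exact ⟨y, hy, ey, by rw [qy, e, happ, id8_getD _ (hq x hx)]⟩)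
    have : g = 1 := c.odd_eq_one_T (c.grp_le_T hgE) (by
      rw [OddOrd, hgo]
      norm_num)
    rw [this, orderOf_one] at hgo
    omega
  have h := seven_facts
  simp only [List.all_eq_true, Bool.or_eq_true, bne_iff_ne, beq_iff_eq, List.any_eq_true,
    List.mem_range, Bool.and_eq_true, Bool.not_eq_true', List.contains_eq_any_beq,
    List.any_eq_false] at h
  rcases h f hf with (h | h) | ⟨i, -, j, -, d, hd, hnd, hconj⟩
  · exact h h7id
  · exact hne h
  have htabT : ∀ x < 128, c.Acts qv8 (c.φ x) (tab8 x) := by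
    intro x hx u hu
    have hu' := inE_lt hu
    have h := tab8_acts
    simp only [List.all_eq_true, allT, allB, List.mem_range, Bool.or_eq_true, Bool.not_eq_true',
      beq_iff_eq] at h
    have hmem : c.φ (conjN x u) ∈ c.EE 27 := by
      rw [← c.phi_conj hx (by omega)]
      exact c.T_normalises (Or.inr rfl) (c.phi_mem hx) (he u hu)
    refine ⟨conjN x u, (c.code_mem_EE e27 (conjN_lt x hx u (by omega)).1).1 hmem,
      (c.phi_conj hx (by omega)).symm, ?_⟩
    rcases h x hx u hu' with h | h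
    · rw [hu] at h; exact Bool.noConfusion h
    · exact h
  obtain ⟨a, ha, hda⟩ : ∃ a < 128, tab8 a = d := by
    have h := dList_T
    simp only [List.all_eq_true, List.any_eq_true, allT, List.mem_range, beq_iff_eq] at h
    exact h d hd
  set Y := g ^ i * c.φ a * g ^ j with hY
  set y := cmpT (powT i f) (cmpT d (powT j f)) with hy
  have hYA : c.Acts qv8 Y y := by
    rw [hY, mul_assoc]
    refine hcomp _ _ _ _ (by simp [cmpT, hlenp]) (hpow i) ?_
    rw [← hda]
    exact hcomp _ _ _ _ (hlenp j) (htabT a ha) (hpow j)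
  have hYH : Y ∈ H := mul_mem (mul_mem (pow_mem hgH i) (hTH (c.phi_mem ha))) (pow_mem hgH j)
  have hylen : y.length = 8 := by simp [hy, cmpT, hlenp]
  have hYB : c.NormB Y := by
    intro b hb
    obtain ⟨x, hx, rfl⟩ := c.mem_BB.1 hb
    have hB := tab8_B
    simp only [List.all_eq_true, allB, List.mem_range, List.contains_eq_any_beq, List.any_eq_true,
      beq_iff_eq] at hB
    obtain ⟨bx, hbx, hbx'⟩ := hB x hx
    obtain ⟨b', hb', he'⟩ := hconj (tab8 x) (hbx' ▸ hbx)
    obtain ⟨x', hx', hx''⟩ : ∃ x' < 64, tab8 x' = b' := by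
      have h := bList_B
      simp only [List.all_eq_true, List.any_eq_true, allB, List.mem_range, beq_iff_eq] at h
      exact h b' hb'
    have h1 := hcomp Y (c.φ x) y (tab8 x) (by simp [tab8]) hYA (htabT x (by omega))
    have h2 := hcomp (c.φ x') Y (tab8 x') y hylen (htabT x' (by omega)) hYA
    rw [hx'', ← he'] at h2
    set W := (c.φ x' * Y)⁻¹ * (Y * c.φ x) with hW
    have hx'H : c.φ x' * Y ∈ H := mul_mem (hTH (c.phi_mem (by omega))) hYH
    have hWH : W ∈ H := mul_mem (inv_mem hx'H) (mul_mem hYH (hTH (c.phi_mem (by omega))))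
    have hWP : P W := by
      refine hP W hWH fun u hu => ?_
      obtain ⟨hw1, hw2⟩ := c.img_spec hWH hu
      refine ⟨_, hw1, hw2, ?_⟩
      -- both products move `u` to the same coset of `⟨z⟩`
      obtain ⟨v, hv, ev, qv⟩ := h1 u hu
      obtain ⟨s, hs, es, qs⟩ := h2 _ hw1
      have hsv : s = v := by
        refine c.phi_inj (hlt s hs) (hlt v hv) ?_
        rw [es, hw2, ev, hW]
        group
      rw [hsv, qv] at qs
      obtain ⟨fx, hfx, hAx⟩ := htab (c.φ x' * Y) hx'H
      obtain ⟨hi1, hi2⟩ := c.img_spec hx'H hu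
      obtain ⟨hi3, hi4⟩ := c.img_spec hx'H hw1
      have q1 : qv8 (c.img hx'H u) = qv8 (c.img hx'H (c.img hWH u)) := by
        obtain ⟨p1, hp1, ep1, qp1⟩ := h2 u hu
        obtain ⟨p2, hp2, ep2, qp2⟩ := h2 _ hw1
        rw [c.img_eq hx'H hu (hlt p1 hp1) ep1, c.img_eq hx'H hw1 (hlt p2 hp2) ep2, qp1, qp2, qs]
      have hinv : (c.φ x' * Y)⁻¹ ∈ H := inv_mem hx'H
      obtain ⟨fi, -, hAi⟩ := htab _ hinv
      obtain ⟨r1, hr1, er1, qr1⟩ := hAi _ hi1
      obtain ⟨r2, hr2, er2, qr2⟩ := hAi _ hi3
      have e1 : r1 = u := c.phi_inj (hlt r1 hr1) (hlt u hu) (by rw [er1, hi2]; group)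
      have e2 : r2 = c.img hWH u :=
        c.phi_inj (hlt r2 hr2) (hlt _ hw1) (by rw [er2, hi4]; group)
      rw [← e2, ← e1, qr1, qr2, q1]
    have hWU := hker W hWP
    have e : Y * c.φ x * Y⁻¹ = c.φ x' * (Y * W * Y⁻¹) := by rw [hW]; group
    rw [e]
    exact mul_mem (c.mem_BB.2 ⟨x', hx', rfl⟩)
      (c.EE_le_BB e27 ((Subgroup.mem_normalizer_iff.1 hYH W).1 hWU))
  obtain ⟨s, hs, hsY⟩ := c.exists_code (c.mem_T_of_normB hYB)
  have hD := tab8_T
  simp only [List.all_eq_true, allT, List.mem_range, List.contains_eq_any_beq, List.any_eq_true,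
    beq_iff_eq] at hD
  obtain ⟨ds, hds, hds'⟩ := hD s hs
  refine hnd ds hds ?_
  have hsA := htabT s hs
  rw [hsY] at hsA
  rw [← hds']
  apply List.ext_getElem (by simp [tab8, hylen])
  intro q h1 h2
  obtain ⟨hl1, hl2⟩ := lift8_facts q (by rw [hylen] at h1; exact h1)
  have := c.acts_unique hYA hsA hl1
  rwa [hl2, happ, happ, List.getD_eq_getElem _ 0 h1, List.getD_eq_getElem _ 0 h2] at this

end Ctx

end

end Cfsg.Agent.Fus.SFourWr
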