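import Cfsg.Agent.Lib.Fus.SFourWreath.LabelData

/-!
Finite facts on the four patterns with two classes in `U`: signatures of the cosets of the centre
of the base, and the two facts used when `d` is fused with `z`.
-/

set_option autoImplicit false

namespace Cfsg.Agent.Fus.SFourWr

/-- The patterns with at least two classes. -/
def smallPats : List (ℕ × ℕ × ℕ) := [(0, 1, 1), (1, 0, 1), (1, 0, 0), (0, 1, 0)]

/-- Two codes lie in the same coset of the centre of the base. -/
def sameCo (x y : ℕ) : Bool := [0, 1, 8, 9].contains (Nat.xor x y)

/-- Equal signature: equal squares and equal labels on the corresponding elements of the cosets. -/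
def sigEq (l : ℕ × ℕ × ℕ) (x y : ℕ) : Bool :=
  mulN x x == mulN y y && [0, 1, 8, 9].all fun z => labX l (Nat.xor x z) == labX l (Nat.xor y z)

/-- Four successive images of a moved coset: the impossible configuration. -/
def badOrbit (l : ℕ × ℕ × ℕ) (x y w v : ℕ) : Bool :=
  (!sameCo v y && !sameCo v w && sigEq l (mulN x y) (mulN y w) && sigEq l (mulN y w) (mulN w v) &&
    sigEq l (mulN x w) (mulN y v)) && (!sameCo (mulN x y) w || sameCo (mulN y w) v)

theorem sig_facts : (smallPats.all fun l => allB.all fun x =>
    (allB.filter fun y => !sameCo x y && sigEq l x y).all fun y =>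
    (allB.filter fun w => !sameCo w x && !sameCo w y && sigEq l y w).all fun w =>
    (allB.filter fun v => sigEq l w v).all fun v => !badOrbit l x y w v) = true := by
  decide +kernel

theorem centre_xor : ∀ x < 64, ∀ z ∈ [0, 1, 8, 9],
    mulN x z = Nat.xor x z ∧ Nat.xor x z < 64 := by
  decide +kernel

theorem sameCo_word : ∀ x < 64, ∀ y < 64, sameCo x y = true →
    Nat.xor x y ∈ [0, 1, 8, 9] ∧ mulN x (Nat.xor x y) = y := by
  decide +kernel

theorem comm_c_one : ∀ x < 128, commN 1 x = 0 ∨ commN 1 x = 9 := by decide +kernel

/-- The exchange element and the diagonal four-group cannot be moved into the base. -/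
theorem diag_facts : ([(0, 1, 1), (1, 0, 1)].all fun l => allB.all fun a =>
    (allB.filter fun b => labX l a == 1 && labX l (mulN 1 a) == 0 && commB a b).all fun b =>
      !(labX l b == 1 && labX l (mulN 1 b) == 0 && labX l (mulN a b) == 1 &&
        labX l (mulN 1 (mulN a b)) == 0)) = true := by
  decide +kernel

/-- The condition on the image of `c₁` in the core. -/
def coreOk (x : ℕ) : Bool :=
  (allT.all fun g => commN x (conjN g x) == 0) ||
    allT.any fun q => decide (64 ≤ q) && (commN x q == 0 || commN x q == 9) &&
      allT.all fun g => commN x (commN q g) == 0 || commN x (commN q g) == 9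

theorem image_facts : ([(0, 1, 1), (1, 0, 1)].all fun l => allB.all fun x =>
    x == 1 || x == 8 || labX l x != 0 || labX l (mulN x 9) != 0 || !coreOk x) = true := by
  decide +kernel

end Cfsg.Agent.Fus.SFourWr
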