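import Cfsg.Agent.Lib.Fus.SFourWreath.Labels
import Cfsg.Agent.Lib.Fus.SFourWreath.SigData

/-!
An element of odd order centralising `c₁` and `z` is trivial in the patterns with two classes.
-/

set_option autoImplicit false
set_option linter.unusedSectionVars false

namespace Cfsg.Agent.Fus.SFourWr

universe u

theorem base_sq : ∀ x < 64, mulN x x ∈ [0, 1, 8, 9] := by decide +kernel

theorem sameCo_symm : ∀ x < 64, ∀ y < 64, sameCo x y = sameCo y x := by decide +kernel

section

variable {G : Type u} [Group G] [Finite G] (c : Ctx G)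

namespace Ctx

theorem isInv_iff {x : ℕ} (hx : x < 128) :
    isInv x = true ↔ c.φ x * c.φ x = 1 ∧ c.φ x ≠ 1 := by
  simp only [isInv, Bool.and_eq_true, beq_iff_eq, bne_iff_ne, c.sq_eq_one_iff hx]
  exact and_congr_right fun _ => ⟨c.phi_ne_one hx, fun h e => h (e ▸ c.phi_zero)⟩

/-- Conjugate base elements have equal labels. -/
theorem lab_of_conj {l : ℕ × ℕ × ℕ} (hl : c.Pattern l) {g : G} {x y : ℕ} (hx : x < 64) (hy : y < 64)
    (h : c.φ y = g * c.φ x * g⁻¹) : labX l x = labX l y := by
  have e : isInv x = true ↔ isInv y = true := by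
    rw [c.isInv_iff (by omega), c.isInv_iff (by omega), h,
      show g * c.φ x * g⁻¹ * (g * c.φ x * g⁻¹) = g * (c.φ x * c.φ x) * g⁻¹ by group]
    simp only [ne_eq, conj_eq_one_iff]
  by_cases hi : isInv x = true
  · exact (c.pattern_iff hl hx hy hi (e.1 hi)).1 (isConj_iff.2 ⟨g, h.symm⟩)
  · rw [labX, labX, if_neg hi, if_neg (fun h' => hi (e.2 h'))]

theorem phi_nine_eq : c.φ 9 = c.φ 1 * c.φ 8 := by
  rw [← c.hmul 1 (by norm_num) 8 (by norm_num)]
  exact congrArg c.φ (by decide +kernel)

theorem commute_centre {r : G} (h9 : Commute r (c.φ 9)) (h1 : Commute r (c.φ 1)) :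
    ∀ z ∈ [0, 1, 8, 9], Commute r (c.φ z) := by
  intro z hz
  fin_cases hz
  · rw [c.phi_zero]; exact Commute.one_right _
  · exact h1
  · rw [show (8 : ℕ) = mulN 1 9 by decide +kernel, c.hmul 1 (by norm_num) 9 (by norm_num)]
    exact h1.mul_right h9
  · exact h9

/-- In a pattern with two classes an element of odd order centralising `c₁` and `z` is trivial. -/
theorem sig_trivial {l : ℕ × ℕ × ℕ} (hlm : l ∈ smallPats) (hl : c.Pattern l) {r : G} (ho : OddOrd r)
    (h9 : Commute r (c.φ 9)) (h1 : Commute r (c.φ 1)) : r = 1 := by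
  obtain ⟨Q, hQ⟩ := c.exists_coreZ
  have hz := c.commute_centre h9 h1
  refine c.core_trivial hQ ho h9 fun x hx hxQ => ?_
  -- the image of a base element of the core
  have hnext : ∀ x < 64, c.φ x ∈ Q → ∃ y < 64, c.φ y ∈ Q ∧ c.φ y = r * c.φ x * r⁻¹ := by
    intro x hx hxQ
    have hy := hQ.1 r h9 _ hxQ
    obtain ⟨y, hy', e⟩ := c.exists_code (hQ.2.2.1 hy)
    refine ⟨y, (cent_one y hy').1.1 ((c.commute_iff hy' (by norm_num)).1 ?_), e ▸ hy, e⟩
    have hcx := c.commute_of (show x < 128 by omega) (show 1 < 128 by norm_num) ((cent_one x (by omega)).1.2 hx)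
    rw [e]
    exact (h1.mul_left hcx).mul_left h1.inv_left
  have hsig : ∀ x < 64, ∀ y < 64, c.φ y = r * c.φ x * r⁻¹ → sigEq l x y = true := by
    intro x hx y hy e
    simp only [sigEq, Bool.and_eq_true, beq_iff_eq, List.all_eq_true]
    refine ⟨c.phi_inj (mulN_lt x (by omega) x (by omega)) (mulN_lt y (by omega) y (by omega)) ?_,
      fun z hzm => ?_⟩
    · rw [c.hmul y (by omega) y (by omega), e,
        show r * c.φ x * r⁻¹ * (r * c.φ x * r⁻¹) = r * (c.φ x * c.φ x) * r⁻¹ by group,
        ← c.hmul x (by omega) x (by omega), (hz _ (base_sq x hx)).eq, mul_inv_cancel_right]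
    · obtain ⟨ex, lx⟩ := centre_xor x hx z hzm
      obtain ⟨ey, ly⟩ := centre_xor y hy z hzm
      refine c.lab_of_conj hl (g := r) lx ly ?_
      have hz' : z < 128 := by fin_cases hzm <;> norm_num
      rw [← ex, ← ey, c.hmul x (by omega) z hz', c.hmul y (by omega) z hz', e]
      calc r * c.φ x * r⁻¹ * c.φ z = r * c.φ x * (r⁻¹ * c.φ z) := by group
        _ = r * c.φ x * (c.φ z * r⁻¹) := by rw [(hz z hzm).inv_left.eq]
        _ = r * (c.φ x * c.φ z) * r⁻¹ := by group
  -- an element moved only within its coset of the centre is centralised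
  have hfix : ∀ s : G, OddOrd s → (∀ z ∈ [0, 1, 8, 9], Commute s (c.φ z)) →
      ∀ a < 64, ∀ b < 64, sameCo a b = true → c.φ b = s * c.φ a * s⁻¹ → Commute s (c.φ a) := by
    intro s hs hsz a ha b hb hab e
    obtain ⟨hm, hw⟩ := sameCo_word a ha b hb hab
    have hlt : Nat.xor a b < 128 := by
      simp only [List.mem_cons, List.mem_nil_iff, or_false] at hm; omega
    refine c.commute_stab hs (c.phi_mem hlt) (hsz _ hm) ?_
    rw [← e]
    nth_rewrite 1 [← hw]
    rw [c.hmul a (by omega) _ hlt]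
    refine (c.commute_of (by omega) hlt ?_).eq
    have hall : ∀ a < 64, ∀ z ∈ [0, 1, 8, 9], commB a z = true := by decide +kernel
    exact hall a ha _ hm
  have hsq : ∀ a : G, Commute (r ^ 2) a → Commute r a := fun a h => by
    obtain ⟨k, hk⟩ := odd_pow_self ho 1
    rw [pow_one] at hk
    exact hk ▸ h.pow_left k
  obtain ⟨y, hy, hyQ, ey⟩ := hnext x hx hxQ
  by_cases cxy : sameCo x y = true
  · exact hfix r ho hz x hx y hy cxy ey
  obtain ⟨w, hw, hwQ, ew⟩ := hnext y hy hyQ
  obtain ⟨v, hv, -, ev⟩ := hnext w hw hwQ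
  have hr2z : ∀ z ∈ [0, 1, 8, 9], Commute (r ^ 2) (c.φ z) := fun z hz' => (hz z hz').pow_left 2
  have e2 : ∀ a b d : ℕ, c.φ b = r * c.φ a * r⁻¹ → c.φ d = r * c.φ b * r⁻¹ →
      c.φ d = r ^ 2 * c.φ a * (r ^ 2)⁻¹ := fun a b d h h' => by rw [h', h, pow_two]; group
  have back : ∀ a b : ℕ, c.φ b = r * c.φ a * r⁻¹ → Commute r (c.φ b) → Commute r (c.φ a) := by
    intro a b e h
    have : c.φ a = r⁻¹ * c.φ b * r := by rw [e]; group
    rw [this]
    exact ((Commute.refl r).inv_right.mul_right h).mul_right (Commute.refl r)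
  by_cases cyw : sameCo y w = true
  · exact back x y ey (hfix r ho hz y hy w hw cyw ew)
  by_cases cxw : sameCo x w = true
  · exact hsq _ (hfix _ (odd_pow ho 2) hr2z x hx w hw cxw (e2 x y w ey ew))
  by_cases cyv : sameCo y v = true
  · exact back x y ey (hsq _ (hfix _ (odd_pow ho 2) hr2z y hy v hv cyv (e2 y w v ew ev)))
  by_cases cwv : sameCo w v = true
  · exact back x y ey (back y w ew (hfix r ho hz w hw v hv cwv ev))
  exfalso
  have hm : ∀ a b a' b' : ℕ, a < 64 → b < 64 → a' < 64 → b' < 64 →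
      c.φ a' = r * c.φ a * r⁻¹ → c.φ b' = r * c.φ b * r⁻¹ →
      c.φ (mulN a' b') = r * c.φ (mulN a b) * r⁻¹ := by
    intro a b a' b' ha hb ha' hb' e e'
    rw [c.hmul a' (by omega) b' (by omega), c.hmul a (by omega) b (by omega), e, e']
    group
  have s1 := hsig x hx y hy ey
  have s2 := hsig y hy w hw ew
  have s3 := hsig w hw v hv ev
  have m1 := hm x y y w hx hy hy hw ey ew
  have l1 := mul_base x hx y hy
  have l2 := mul_base y hy w hw
  have s4 := hsig _ l1 _ l2 m1
  have s5 := hsig _ l2 _ (mul_base w hw v hv) (hm y w w v hy hw hw hv ew ev)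
  have s6 := hsig _ (mul_base x hx w hw) _ (mul_base y hy v hv) (hm x w y v hx hw hy hv ey ev)
  have s7 : sameCo (mulN x y) w = true → sameCo (mulN y w) v = true := by
    intro hh
    obtain ⟨hm', hw'⟩ := sameCo_word _ l1 w hw hh
    have hlt : Nat.xor (mulN x y) w < 128 := by
      simp only [List.mem_cons, List.mem_nil_iff, or_false] at hm'; omega
    have hv' : v = mulN (mulN y w) (Nat.xor (mulN x y) w) := by
      refine c.phi_inj (by omega) (mulN_lt _ (by omega) _ hlt) ?_
      rw [c.hmul _ (show mulN y w < 128 by omega) _ hlt, m1, ev]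
      conv_lhs => rw [← hw', c.hmul _ (show mulN x y < 128 by omega) _ hlt]
      calc r * (c.φ (mulN x y) * c.φ (Nat.xor (mulN x y) w)) * r⁻¹
          = r * c.φ (mulN x y) * (c.φ (Nat.xor (mulN x y) w) * r⁻¹) := by group
        _ = r * c.φ (mulN x y) * (r⁻¹ * c.φ (Nat.xor (mulN x y) w)) := by rw [(hz _ hm').inv_left.eq]
        _ = r * c.φ (mulN x y) * r⁻¹ * c.φ (Nat.xor (mulN x y) w) := by group
    have key : ∀ a < 64, ∀ z ∈ [0, 1, 8, 9], sameCo a (mulN a z) = true := by decide +kernel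
    rw [hv']
    exact key _ l2 _ hm'
  have hbad : badOrbit l x y w v = true := by
    have cvy : sameCo v y = false := by rw [sameCo_symm v hv y hy]; simpa using cyv
    have cvw : sameCo v w = false := by rw [sameCo_symm v hv w hw]; simpa using cwv
    simp only [badOrbit, cvy, cvw, s4, s5, s6, Bool.not_false, Bool.true_and]
    by_cases hh : sameCo (mulN x y) w = true
    · simp [s7 hh]
    · simp [hh]
  have h := sig_facts
  simp only [List.all_eq_true, List.mem_filter, allB, List.mem_range, Bool.and_eq_true,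
    Bool.not_eq_true'] at h
  have cwx : sameCo w x = false := by rw [sameCo_symm w hw x hx]; simpa using cxw
  have cwy : sameCo w y = false := by rw [sameCo_symm w hw y hy]; simpa using cyw
  have := h l hlm x hx y ⟨hy, by simpa using cxy, s1⟩ w ⟨hw, ⟨cwx, cwy⟩, s2⟩ v ⟨hv, s3⟩
  rw [hbad] at this
  exact Bool.noConfusion this

end Ctx

end

end Cfsg.Agent.Fus.SFourWr
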