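import Cfsg.Agent.Lib.Fus.SFourWreath.Sig

/-!
The patterns in which `d` is fused with `z`.
-/

set_option autoImplicit false
set_option linter.unusedSectionVars false

namespace Cfsg.Agent.Fus.SFourWr

universe u

/-- The codes of `⟨t⟩ × {(v, v), (c, c)}`. -/
def pE (x : ℕ) : Bool := [0, 9, 36, 45, 64, 73, 100, 109].contains x

theorem closed_pE : ClosedP pE := by
  refine ⟨rfl, ?_⟩
  decide +kernel

theorem pE_comm : ∀ x < 128, pE x = true → commB 64 x = true := by decide +kernel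

theorem diag_codes : (∀ y ∈ [36, 9], isInv y = true ∧ isInv (mulN 64 y) = true ∧ typ (mulN 64 y) = 5 ∧
    typ y = 1) ∧ isInv 45 = true ∧ isInv (mulN 64 45) = true ∧ typ (mulN 64 45) = 5 ∧ typ 45 = 1 ∧
    mulN 36 9 = 45 ∧ commB 64 36 = true ∧ commB 64 9 = true ∧ commB 36 9 = true ∧
    isInv 64 = true ∧ typ 64 = 5 := by
  decide +kernel

section

variable {G : Type u} [Group G] [Finite G] (c : Ctx G)

namespace Ctx

/-- A `2`-subgroup of the centraliser of `c₁` is conjugate into the base inside that centraliser. -/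
theorem into_base {P : Subgroup G} (hP : IsPGroup 2 P) (hc : ∀ p ∈ P, Commute p (c.φ 1)) :
    ∃ h : G, Commute h (c.φ 1) ∧ ∀ p ∈ P, h * p * h⁻¹ ∈ c.BB := by
  haveI := Fact.mk Nat.prime_two
  set C := Subgroup.centralizer ({c.φ 1} : Set G) with hC
  have hPC : P ≤ C := fun p hp => Subgroup.mem_centralizer_singleton_iff.2 (hc p hp).eq
  have hBC : c.BB ≤ C := fun b hb => by
    obtain ⟨x, hx, rfl⟩ := c.mem_BB.1 hb
    exact Subgroup.mem_centralizer_singleton_iff.2
      (c.commute_of (by omega) (by norm_num) ((cent_one x (by omega)).1.2 hx)).eq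
  obtain ⟨S, hS⟩ := (((c.T.isPGroup'.to_le (c.grp_le_T (p := pB))).comap_subtype (K := C)) :
    IsPGroup 2 (c.BB.subgroupOf C)).exists_le_sylow
  set R := (S : Subgroup C).map C.subtype with hR
  have hBR : c.BB ≤ R := fun b hb => ⟨⟨b, hBC hb⟩, hS hb, rfl⟩
  have hRB : R ≤ c.BB := by
    haveI := (S.isPGroup'.map C.subtype).isNilpotent
    by_contra hcon
    have hlt : c.BB.subgroupOf R < ⊤ :=
      lt_top_iff_ne_top.2 fun e => hcon (Subgroup.subgroupOf_eq_top.1 e)
    obtain ⟨x, hxn, hxB⟩ := SetLike.exists_of_lt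
      (Group.normalizerCondition_of_isNilpotent (G := R) _ hlt)
    have hxN : c.NormB (x : G) := fun b hb =>
      (Subgroup.mem_normalizer_iff.1 hxn ⟨b, hBR hb⟩).1 hb
    obtain ⟨a, ha, hax⟩ := c.exists_code (c.mem_T_of_normB hxN)
    have hxC := Subgroup.mem_centralizer_singleton_iff.1 (Subgroup.map_subtype_le _ x.2)
    rw [← hax] at hxC
    have ha64 := (cent_one a ha).1.1 ((c.commute_iff ha (by norm_num)).1 hxC)
    exact hxB (show (x : G) ∈ c.BB from c.mem_BB.2 ⟨a, ha64, hax⟩)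
  obtain ⟨U, hU⟩ := ((hP.comap_subtype (K := C)) : IsPGroup 2 (P.subgroupOf C)).exists_le_sylow
  obtain ⟨k, hk⟩ := MulAction.exists_smul_eq C U S
  refine ⟨k, Subgroup.mem_centralizer_singleton_iff.1 k.2, fun p hp => hRB ?_⟩
  refine ⟨k * ⟨p, hPC hp⟩ * k⁻¹, ?_, rfl⟩
  rw [← hk]
  exact Subgroup.mem_map_of_mem (MulAut.conj k).toMonoidHom (hU hp)

/-- In these patterns `t` is not conjugate to `c₁`. -/
theorem t_not_a {l : ℕ × ℕ × ℕ} (hlm : l ∈ [(0, 1, 1), (1, 0, 1)]) (hl : c.Pattern l) :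
    ¬ IsConj (c.φ 64) (c.φ 1) := by
  intro hta
  obtain ⟨k, hk⟩ := isConj_iff.1 hta
  have hE2 : IsPGroup 2 ((c.grp pE).map (MulAut.conj k).toMonoidHom) :=
    (c.T.isPGroup'.to_le c.grp_le_T).map _
  obtain ⟨h, hh1, hh⟩ := c.into_base hE2 (by
    rintro _ ⟨e, he, rfl⟩
    obtain ⟨x, hx, hxp, rfl⟩ := (c.mem_grp closed_pE).1 he
    have hcx := c.commute_of (show 64 < 128 by norm_num) hx (pE_comm x hx hxp)
    show k * c.φ x * k⁻¹ * c.φ 1 = c.φ 1 * (k * c.φ x * k⁻¹)
    rw [← hk, show k * c.φ x * k⁻¹ * (k * c.φ 64 * k⁻¹) = k * (c.φ x * c.φ 64) * k⁻¹ by group,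
      ← hcx.eq]
    group)
  set g := h * k with hg
  have hg1 : g * c.φ 64 * g⁻¹ = c.φ 1 := by
    rw [hg, show h * k * c.φ 64 * (h * k)⁻¹ = h * (k * c.φ 64 * k⁻¹) * h⁻¹ by group, hk, hh1.eq,
      mul_inv_cancel_right]
  have hin : ∀ x, pE x = true → x < 128 → ∃ a < 64, c.φ a = g * c.φ x * g⁻¹ := by
    intro x hx hx'
    obtain ⟨a, ha, e⟩ := c.mem_BB.1 (hh _ (Subgroup.mem_map_of_mem (MulAut.conj k).toMonoidHom
      ((c.mem_grp_code closed_pE hx').2 hx)))
    refine ⟨a, ha, e.trans ?_⟩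
    rw [hg]
    show h * (k * c.φ x * k⁻¹) * h⁻¹ = _
    group
  obtain ⟨d36, d45, d45', dt45, dz45, e45, c64a, c64b, cab, i64, t64⟩ := diag_codes
  have labs : ∀ y < 64, pE y = true → isInv y = true → typ y = 1 → isInv (mulN 64 y) = true →
      typ (mulN 64 y) = 5 → ∀ a < 64, c.φ a = g * c.φ y * g⁻¹ →
      labX l a = 1 ∧ labX l (mulN 1 a) = 0 := by
    intro y hy hyp hyi hyt hyi' hyt' a ha ea
    have h1 : labX l a = 1 := by
      rw [← c.lab_of_conj hl hy ha ea, labX_eq hyi, hyt]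
      rfl
    refine ⟨h1, ?_⟩
    have hl' := mulN_lt 64 (by norm_num) y (by omega)
    have e : c.φ (mulN 1 a) = g * c.φ (mulN 64 y) * g⁻¹ := by
      rw [c.hmul 1 (by norm_num) a (by omega), c.hmul 64 (by norm_num) y (by omega), ← hg1, ea]
      group
    have hla := mul_base 1 (by norm_num) a ha
    have hz : IsConj (c.φ 1) (c.φ (mulN 1 a)) := by
      have r1 := c.conj_rep (show 64 < 128 by norm_num) i64
      have r2 := c.conj_rep hl' hyi'
      rw [t64] at r1
      rw [hyt'] at r2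
      exact (hta.symm.trans (r1.symm.trans r2)).trans (isConj_iff.2 ⟨g, e.symm⟩)
    have hai : isInv (mulN 1 a) = true := by
      obtain ⟨q, hq⟩ := isConj_iff.1 hz
      obtain ⟨p1, p2⟩ := (c.isInv_iff (show 1 < 128 by norm_num)).1 (by decide +kernel)
      refine (c.isInv_iff (by omega)).2 ⟨?_, fun he => p2 ?_⟩
      · rw [← hq, show q * c.φ 1 * q⁻¹ * (q * c.φ 1 * q⁻¹) = q * (c.φ 1 * c.φ 1) * q⁻¹ by group, p1]
        group
      · rw [← hq] at he; exact conj_eq_one_iff.1 he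
    rw [← (c.pattern_iff hl (show 1 < 64 by norm_num) hla (by decide +kernel) hai).1 hz,
      labX_eq (by decide +kernel), show typ 1 = 0 by decide +kernel]
    rfl
  obtain ⟨a, ha, ea⟩ := hin 36 (by decide +kernel) (by norm_num)
  obtain ⟨b, hb, eb⟩ := hin 9 (by decide +kernel) (by norm_num)
  obtain ⟨i36, j36, u36, v36⟩ := d36 36 (by simp)
  obtain ⟨i9, j9, u9, v9⟩ := d36 9 (by simp)
  obtain ⟨la, la'⟩ := labs 36 (by norm_num) (by decide +kernel) i36 v36 j36 u36 a ha ea
  obtain ⟨lb, lb'⟩ := labs 9 (by norm_num) (by decide +kernel) i9 v9 j9 u9 b hb eb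
  have hab : c.φ (mulN a b) = g * c.φ 45 * g⁻¹ := by
    rw [← e45, c.hmul a (by omega) b (by omega), c.hmul 36 (by norm_num) 9 (by norm_num), ea, eb]
    group
  obtain ⟨lab, lab'⟩ := labs 45 (by norm_num) (by decide +kernel) d45 dz45 d45' dt45 _
    (mul_base a ha b hb) hab
  have hcomm : commB a b = true := (c.commute_iff (by omega) (by omega)).1 (by
    rw [ea, eb, Commute, SemiconjBy,
      show g * c.φ 36 * g⁻¹ * (g * c.φ 9 * g⁻¹) = g * (c.φ 36 * c.φ 9) * g⁻¹ by group,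
      (c.commute_of (by norm_num) (by norm_num) cab).eq]
    group)
  have h := diag_facts
  simp only [List.all_eq_true, List.mem_filter, allB, List.mem_range, Bool.and_eq_true,
    Bool.not_eq_true', beq_iff_eq] at h
  have := h l hlm a ha b ⟨hb, ⟨la, la'⟩, hcomm⟩
  simp [lb, lb', lab, lab'] at this

/-- The patterns with `d` fused with `z` are impossible. -/
theorem two_false (hno : ∀ H : Subgroup G, H.index ≠ 2) {l : ℕ × ℕ × ℕ}
    (hlm : l ∈ [(0, 1, 1), (1, 0, 1)]) (hl : c.Pattern l) : False := by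
  have hta := c.t_not_a hlm hl
  have hls : l ∈ smallPats := by fin_cases hlm <;> simp [smallPats]
  obtain ⟨j, hj, hcj⟩ := c.transfer hno (i := 5) (by simp)
  have htz : IsConj (c.φ 64) (c.φ 9) := by
    simp only [List.mem_cons, List.mem_nil_iff, or_false] at hj
    rcases hj with rfl | rfl | rfl
    · exact absurd hcj hta
    · exact hcj
    · exact hcj.trans ((hl 4 (by norm_num) 1 (by norm_num)).2 (by fin_cases hlm <;> rfl))
  obtain ⟨Q, hQ⟩ := c.exists_coreZ
  -- no element of odd order centralises `z`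
  have hCz : ∀ r : G, OddOrd r → Commute r (c.φ 9) → r = 1 := by
    intro r ho h9
    by_contra hr
    have hn1 : ¬ Commute r (c.φ 1) := fun h => hr (c.sig_trivial hls hl ho h9 h)
    obtain ⟨x, hx, ex⟩ := c.exists_code (hQ.2.2.1 (hQ.1 r h9 _ hQ.2.2.2.2.1))
    have hxQ : c.φ x ∈ Q := ex ▸ hQ.1 r h9 _ hQ.2.2.2.2.1
    have hx1 : x ≠ 1 := fun e => hn1 (mul_inv_eq_iff_eq_mul.1 (e ▸ ex).symm)
    have hx9 : c.φ (mulN x 9) = r * c.φ 8 * r⁻¹ := by
      rw [c.hmul x hx 9 (by norm_num), ex, show (8 : ℕ) = mulN 1 9 by decide +kernel,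
        c.hmul 1 (by norm_num) 9 (by norm_num)]
      calc r * c.φ 1 * r⁻¹ * c.φ 9 = r * c.φ 1 * (r⁻¹ * c.φ 9) := by group
        _ = r * c.φ 1 * (c.φ 9 * r⁻¹) := by rw [h9.inv_left.eq]
        _ = r * (c.φ 1 * c.φ 9) * r⁻¹ := by group
    have hx8 : x ≠ 8 := by
      intro e
      rw [e, show mulN 8 9 = 1 by decide +kernel] at hx9
      rw [e] at ex
      have h2 : Commute (r ^ 2) (c.φ 1) := by
        refine mul_inv_eq_iff_eq_mul.1 ?_
        calc r ^ 2 * c.φ 1 * (r ^ 2)⁻¹ = r * (r * c.φ 1 * r⁻¹) * r⁻¹ := by rw [pow_two]; group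
          _ = c.φ 1 := by rw [← ex, ← hx9]
      obtain ⟨k, hk⟩ := odd_pow_self ho 1
      rw [pow_one] at hk
      exact hn1 (hk ▸ h2.pow_left k)
    have hxi : isInv x = true := by
      obtain ⟨p1, p2⟩ := (c.isInv_iff (show 1 < 128 by norm_num)).1 (by decide +kernel)
      refine (c.isInv_iff hx).2 ⟨?_, fun he => p2 (conj_eq_one_iff.1 (ex.symm.trans he))⟩
      rw [ex, show r * c.φ 1 * r⁻¹ * (r * c.φ 1 * r⁻¹) = r * (c.φ 1 * c.φ 1) * r⁻¹ by group, p1]
      group
    have hx64 : x < 64 := by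
      by_contra h64
      have hrep := c.conj_rep hx hxi
      rw [show typ x = 5 by simp [typ, show 64 ≤ x by omega]] at hrep
      exact hta (hrep.trans (isConj_iff.2 ⟨r, ex.symm⟩).symm)
    have hl0 : labX l x = 0 := by
      rw [← c.lab_of_conj hl (show 1 < 64 by norm_num) hx64 ex, labX_eq (by decide +kernel),
        show typ 1 = 0 by decide +kernel]
      rfl
    have hl8 : labX l (mulN x 9) = 0 := by
      rw [← c.lab_of_conj hl (show 8 < 64 by norm_num) (mul_base x hx64 9 (by norm_num)) hx9,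
        labX_eq (by decide +kernel), show typ 8 = 0 by decide +kernel]
      rfl
    have hcom : ∀ q < 128, c.φ q ∈ Q → ∃ p < 128, c.φ p ∈ Q ∧
        c.φ (commN x q) = r * c.φ (commN 1 p) * r⁻¹ := by
      intro q hq hqQ
      have hp := hQ.1 r⁻¹ h9.inv_left _ hqQ
      rw [inv_inv] at hp
      obtain ⟨p, hp', ep⟩ := c.exists_code (hQ.2.2.1 hp)
      refine ⟨p, hp', ep ▸ hp, ?_⟩
      rw [← c.phi_comm hx hq, ← c.phi_comm (by norm_num) hp', ex, ep]
      group
    have hok : coreOk x = true := by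
      simp only [coreOk, Bool.or_eq_true, List.all_eq_true, List.any_eq_true, allT, List.mem_range,
        Bool.and_eq_true, decide_eq_true_eq, beq_iff_eq]
      by_cases hQB : ∀ q < 128, c.φ q ∈ Q → q < 64
      · refine Or.inl fun g hg => ?_
        have hgQ : c.φ (conjN g x) ∈ Q := by
          rw [← c.phi_conj hg hx]
          exact hQ.1 _ (c.nine_central (c.phi_mem hg)) _ hxQ
        obtain ⟨p, hp, hpQ, e⟩ := hcom _ (conjN_lt g hg x hx).1 hgQ
        have h0 : commN 1 p = 0 := by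
          have hc1 : ∀ p < 64, commN 1 p = 0 := by decide +kernel
          exact hc1 p (hQB p hp hpQ)
        rw [h0, c.phi_zero, mul_one, mul_inv_cancel] at e
        exact c.hinj _ (conjN_lt x hx _ (conjN_lt g hg x hx).1).2 e
      · push Not at hQB
        obtain ⟨q, hq, hqQ, hq64⟩ := hQB
        have hval : ∀ q < 128, c.φ q ∈ Q → commN x q = 0 ∨ commN x q = 9 := by
          intro q hq hqQ
          obtain ⟨p, hp, -, e⟩ := hcom q hq hqQ
          rcases comm_c_one p hp with h | h <;> rw [h] at e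
          · rw [c.phi_zero, mul_one, mul_inv_cancel] at e
            exact Or.inl (c.hinj _ (conjN_lt x hx q hq).2 e)
          · rw [h9.eq, mul_inv_cancel_right] at e
            exact Or.inr (c.phi_inj (conjN_lt x hx q hq).2 (by norm_num) e)
        refine Or.inr ⟨q, hq, ⟨hq64, hval q hq hqQ⟩, fun g hg => hval _ (conjN_lt q hq g hg).2 ?_⟩
        rw [← c.phi_comm hq hg, show c.φ q * c.φ g * ((c.φ q)⁻¹ * (c.φ g)⁻¹) =
          c.φ q * (c.φ g * (c.φ q)⁻¹ * (c.φ g)⁻¹) by group]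
        exact mul_mem hqQ (hQ.1 _ (c.nine_central (c.phi_mem hg)) _ (inv_mem hqQ))
    have h := image_facts
    simp only [List.all_eq_true, allB, List.mem_range, Bool.or_eq_true, Bool.not_eq_true',
      bne_iff_ne, beq_iff_eq] at h
    have := h l hlm x hx64
    simp [hx1, hx8, hl0, hl8, hok] at this
  -- but `t` centralises an element of order three
  obtain ⟨k, hk⟩ := isConj_iff.1 htz
  set s := c.r1 * c.r2 with hs
  have hs3 : s ^ 3 = 1 := by
    rw [hs, (show Commute c.r1 c.r2 from c.r_comm).mul_pow, pow_succ, pow_two, c.r1_pow, pow_succ,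
      pow_two, c.r2_pow, one_mul]
  have hs1 : s ≠ 1 := by
    intro h
    have h2 : c.r2 * c.φ 1 = c.φ 1 * c.r2 := c.r2_fix 1 (by simp)
    rw [hs, ← eq_inv_iff_mul_eq_one] at h
    have h14 := c.r1_c
    rw [h, (show Commute c.r2 (c.φ 1) from h2).inv_left.eq, mul_left_inj] at h14
    exact absurd (c.phi_inj (by norm_num) (by norm_num) h14) (by norm_num)
  have ho : OddOrd (k * s * k⁻¹) := by
    have : orderOf (k * s * k⁻¹) = orderOf s := by rw [← MulAut.conj_apply, MulEquiv.orderOf_eq]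
    rw [OddOrd, this]
    exact Nat.Coprime.coprime_dvd_left (orderOf_dvd_of_pow_eq_one hs3) (by norm_num)
  have hc9 : Commute (k * s * k⁻¹) (c.φ 9) := by
    rw [← hk, Commute, SemiconjBy,
      show k * s * k⁻¹ * (k * c.φ 64 * k⁻¹) = k * (s * c.φ 64) * k⁻¹ by group, hs, c.r_t]
    group
  exact hs1 (conj_eq_one_iff.1 (hCz _ ho hc9))

end Ctx

end

end Cfsg.Agent.Fus.SFourWr
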